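import Groth.Agent.GalEt.CdBrauer
import Groth.Agent.CSA.Cyclic
import Groth.Agent.EtASLib.Basic

/-!
# Fields all of whose finite extensions have trivial Brauer group
-/

set_option autoImplicit false
set_option linter.all false
set_option backward.isDefEq.respectTransparency.types false
set_option backward.isDefEq.respectTransparency false
set_option backward.defeqAttrib.useBackward true
set_option synthInstance.maxHeartbeats 400000
set_option maxHeartbeats 1000000

universe u

open CategoryTheory CategoryTheory.Limits CategoryTheory.Abelian AlgebraicGeometry Opposite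
open Groth.Agent.Et18 Groth.Agent.Et18.CdField

noncomputable section

namespace Groth.Agent.GalEt

variable (K : Type u) [Field K]

/-- Central division algebras over finite extensions are trivial. -/
def BrTrivial : Prop :=
  ∀ (K' : Type u) [Field K'] [Algebra K K'] [FiniteDimensional K K']
    (D : Type u) [DivisionRing D] [Algebra K' D] [Algebra.IsCentral K' D] [FiniteDimensional K' D],
    Module.finrank K' D = 1

variable {K}

/-- Trivial Brauer groups make cyclic norms surjective. -/
theorem normSurj_of_brTrivial (hBr : BrTrivial K) {p : ℕ} (hp : p.Prime) : NormSurj K p := by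
  intro K' _ _ _ _ L _ _ _ _ hL c hc
  obtain ⟨σ, hσ⟩ := mem_zpowers_of_card_prime (G := L ≃ₐ[K'] L) hp
    (by rw [IsGalois.card_aut_eq_finrank, hL])
  have hA := CSA.cyclicModel_isCyclicAlg hσ (Units.mk0 c hc)
  haveI := CSA.cyclic_isCSA hσ hA
  obtain ⟨n, hn, D, iD, iA, hD, hAD, -⟩ :=
    CSA.exists_division_brEq K' (CSA.cyclicModel σ ((Units.mk0 c hc : K'ˣ) : K'))
  haveI := hD
  haveI : FiniteDimensional K' D := inferInstance
  haveI : Algebra.IsCentral K' D := inferInstance
  have h1 : Module.finrank K' D = 1 := hBr K' D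
  have hbij : Function.Bijective (Algebra.ofId K' D) := by
    refine ⟨(algebraMap K' D).injective, ?_⟩
    exact (LinearMap.injective_iff_surjective_of_finrank_eq_finrank
      (f := (Algebra.ofId K' D).toLinearMap) (by rw [Module.finrank_self, h1])).1
        (algebraMap K' D).injective
  obtain ⟨x, hx⟩ := (CSA.cyclic_brEq_one_iff hσ hA).1
    (hAD.trans (CSA.BrEq.of_algEquiv K' (AlgEquiv.ofBijective _ hbij).symm))
  exact ⟨x, hx⟩

/-- Torsion sheaves have no cohomology above degree one. -/
theorem subsingleton_H_torsion (hBr : BrTrivial K) (F : EtCoh.Ab (Spec (CommRingCat.of K)))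
    (hF : EtCoh.IsTorsion F) (q : ℕ) (hq : 2 ≤ q) :
    Subsingleton (EtCoh.H (Spec (CommRingCat.of K)) F q) := by
  refine subsingleton_of_forall_eq_zero fun x => ?_
  by_contra hx
  obtain ⟨m, hm, h0⟩ := isOfFinAddOrder_iff_nsmul_eq_zero.1 (TorsionColim.isAddTorsion_H F hF q x)
  have hne : addOrderOf x ≠ 1 := fun h => hx (AddMonoid.addOrderOf_eq_one_iff.1 h)
  obtain ⟨p, hp, hpd⟩ := Nat.exists_prime_and_dvd hne
  have hz : ∀ (L : Type u) [Field L] [Algebra K L] [Module.Finite K L] [Algebra.IsSeparable K L],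
      Subsingleton (EtCoh.H (Spec (CommRingCat.of L)) (EtCoh.const _ (ZMod p)) 2) := by
    intro L _ _ _ _
    haveI := Fact.mk hp
    by_cases hpL : (p : L) = 0
    · refine Groth.Agent.EtASLib.subsingleton_H_const p ?_ 0
      rw [← map_natCast ((Scheme.ΓSpecIso (CommRingCat.of L)).inv.hom) p]
      rw [show ((p : ℕ) : (CommRingCat.of L : CommRingCat)) = 0 from hpL, map_zero]
    obtain ⟨L', _, _, _, _, ζ, hζ, hdeg⟩ := exists_root_extension L hp hpL
    letI : Algebra K L' := ((algebraMap L L').comp (algebraMap K L)).toAlgebra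
    haveI : IsScalarTower K L L' := IsScalarTower.of_algebraMap_eq' rfl
    haveI : Algebra.IsSeparable K L' := Algebra.IsSeparable.trans K L L'
    haveI : FiniteDimensional K L' := Module.Finite.trans L L'
    have hpL' : (p : L') ≠ 0 := by
      rw [← map_natCast (algebraMap L L') p]
      exact fun h => hpL ((algebraMap L L').injective (h.trans (map_zero _).symm))
    have h' := subsingleton_H_zmod_of_root L' hp hpL' ζ hζ fun y hy =>
      eq_zero_of_normSurj K hp (normSurj_of_brTrivial hBr hp) L' y ⟨1, by rwa [pow_one]⟩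
    refine subsingleton_of_forall_eq_zero fun w => ?_
    obtain ⟨j, hj⟩ := exists_pow_nsmul_H (isLTorsion_zmod (Spec (CommRingCat.of L)) hp) w
    refine eq_zero_of_coprime (finrank_nsmul_eq_zero L L' _ 2 w ?_) hj
      (Nat.Coprime.pow_right j ((Nat.Prime.coprime_iff_not_dvd hp).2 hdeg).symm)
    refine ((EtCoh.HF (Spec (CommRingCat.of L')) 2).mapIso (EtCore.pullConst
      (mor L L') (ZMod p))).addCommGroupIsoToAddEquiv.injective ?_
    rw [map_zero]
    exact h'.elim _ _
  -- the `p`-primary part of `x` vanishes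
  obtain ⟨d, hd⟩ := hpd
  have hdx : d • x = 0 := eq_zero_of_cdL hp (subsingleton_H_of_ge K 1 fun G hG =>
    subsingleton_H_of_constructible K hp 2 (subsingleton_H_constructible_of_all K hp 2 hz) G hG)
    F hF q (by omega) _ ⟨1, by rw [pow_one, smul_smul, ← hd, addOrderOf_nsmul_eq_zero]⟩
  have hpos : 0 < addOrderOf x := (isOfFinAddOrder_iff_nsmul_eq_zero.2 ⟨m, hm, h0⟩).addOrderOf_pos
  have hd0 : 0 < d := Nat.pos_of_ne_zero fun h => hpos.ne' (by rw [hd, h, mul_zero])
  have hle := Nat.le_of_dvd hd0 (addOrderOf_dvd_iff_nsmul_eq_zero.2 hdx)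
  rw [hd] at hle
  exact absurd hle (by nlinarith [hp.two_le])

/-- `G_m` is acyclic. -/
theorem subsingleton_H_Gm (hBr : BrTrivial K) (q : ℕ) (hq : 1 ≤ q) :
    Subsingleton (EtCoh.H (Spec (CommRingCat.of K)) (EtCoh.Gm (Spec (CommRingCat.of K))) q) := by
  rcases Nat.lt_or_ge q 2 with h | h
  · obtain rfl : q = 1 := by omega
    exact subsingleton_H_one_Gm K
  refine subsingleton_of_forall_eq_zero fun x => ?_
  by_contra hx
  obtain ⟨m, hm, h0⟩ := exists_pos_nsmul_eq_zero K _ q (by omega) x
  have hne : addOrderOf x ≠ 1 := fun h => hx (AddMonoid.addOrderOf_eq_one_iff.1 h)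
  obtain ⟨p, hp, hpd⟩ := Nat.exists_prime_and_dvd hne
  obtain ⟨d, hd⟩ := hpd
  have hdp : p • d • x = 0 := by rw [smul_smul, ← hd, addOrderOf_nsmul_eq_zero]
  have hdx : d • x = 0 := by
    rcases h.lt_or_eq with h3 | h2
    · exact eq_zero_of_cd_torsion hp
        (fun G hG r hr y _ => (subsingleton_H_torsion hBr G hG r hr).elim y 0) _ q h3 _
        ⟨1, by rwa [pow_one]⟩
    · subst h2
      exact eq_zero_of_normSurj K hp (normSurj_of_brTrivial hBr hp) K _ ⟨1, by rwa [pow_one]⟩
  have hpos : 0 < addOrderOf x := (isOfFinAddOrder_iff_nsmul_eq_zero.2 ⟨m, hm, h0⟩).addOrderOf_pos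
  have hd0 : 0 < d := Nat.pos_of_ne_zero fun h => hpos.ne' (by rw [hd, h, mul_zero])
  have hle := Nat.le_of_dvd hd0 (addOrderOf_dvd_iff_nsmul_eq_zero.2 hdx)
  rw [hd] at hle
  exact absurd hle (by nlinarith [hp.two_le])

end Groth.Agent.GalEt
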