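import Groth.Agent.GalEt.RpushVanish
import Groth.Agent.GalEt.BrTrivial
import Groth.Agent.AlgSpLib.MonoDiscrete
import Groth.Agent.CiLib.Brauer
import Groth.Agent.S0212
import Groth.Agent.DimLib.Points
import Mathlib.Topology.Separation.Basic
import Groth.Agent.SiteCoh.ExtAdj

/-!
# `G_m` at the generic point of a curve
-/

set_option autoImplicit false
set_option linter.all false
set_option backward.isDefEq.respectTransparency.types false
set_option backward.isDefEq.respectTransparency false
set_option backward.defeqAttrib.useBackward true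
set_option synthInstance.maxHeartbeats 400000
set_option maxHeartbeats 1000000

universe u

open CategoryTheory CategoryTheory.Limits CategoryTheory.Abelian AlgebraicGeometry Opposite
open Groth.Agent.Et18 Groth.Agent.Et18.CdField

noncomputable section

namespace Groth.Agent.GalEt

/-- Restriction of units along an étale map. -/
def restrAlongGmIso {X Y : Scheme.{u}} (π : X ⟶ Y) [Etale π] [EtShriek.JCont π] :
    (EtShriek.restrAlong π).obj (EtCoh.Gm Y) ≅ EtCoh.Gm X :=
  (CategoryTheory.fullyFaithfulSheafToPresheaf _ _).preimageIso
    (NatIso.ofComponents (fun _ => Iso.refl _) (fun _ => rfl))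

/-- Pullback of units along an étale map. -/
def pullGmIso {X Y : Scheme.{u}} (π : X ⟶ Y) [Etale π] :
    (EtCoh.pull π).obj (EtCoh.Gm Y) ≅ EtCoh.Gm X :=
  haveI : EtShriek.JCont π := jCont π
  (pullRestrIso π).app _ ≪≫ restrAlongGmIso π

/-- Cohomology of a finite discrete scheme is computed pointwise. -/
theorem subsingleton_H_of_points {W : Scheme.{u}} (S : Finset W) (hS : ∀ x ∈ S, IsClosed ({x} : Set W))
    (F : EtCoh.Ab W) (hF : EtPBC.supp F ⊆ S) (q : ℕ)
    (h : ∀ x ∈ S, Subsingleton (EtCoh.H (Spec (W.residueField x))
      ((EtCoh.pull (W.fromSpecResidueField x)).obj F) q)) :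
    Subsingleton (EtCoh.H W F q) := by
  classical
  induction S using Finset.induction_on generalizing F with
  | empty =>
    exact Sheaf.subsingleton_H_of_isZero
      (ClosedPointSupport.isZero_of_supp_empty (Set.eq_empty_of_subset_empty (by simpa using hF))) q
  | insert x S hxS ih =>
    have hx := hS x (Finset.mem_insert_self x S)
    let i := W.fromSpecResidueField x
    haveI : IsClosedImmersion i :=
      IsClosedImmersion.of_isPreimmersion _ (by rw [Scheme.range_fromSpecResidueField]; exact hx)
    let O : W.Opens := ⟨{x}ᶜ, hx.isOpen_compl⟩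
    have hO : Set.range O.ι = (Set.range i)ᶜ := by
      rw [Scheme.Opens.range_ι, Scheme.range_fromSpecResidueField]; rfl
    let η := (EtCoh.pullPushAdj i).unit.app F
    haveI : Epi η := by
      haveI : Epi ((EtCoh.pull O.ι).map η) :=
        (isZero_pull_push_compl hO _).epi _
      exact epi_of_pulls (jointlySurjective_of_compl hO) η
    let T := ShortComplex.mk (kernel.ι η) η (kernel.condition η)
    have hT : T.ShortExact :=
      { exact := ShortComplex.exact_kernel η
        mono_f := inferInstanceAs (Mono (kernel.ι η))
        epi_g := inferInstanceAs (Epi η) }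
    refine CdField.subsingleton_of_shortExact hT (ih (fun y hy => hS y (Finset.mem_insert_of_mem hy)) _ ?_ ?_)
      ((CdField.subsingleton_H_push_iff i _ q).2 (h x (Finset.mem_insert_self x S)))
    · intro y hy
      have hyx : y ∉ Set.range i := ClosedPointSupport.supp_subset_of_isZero_pull i
        (IsZero.of_iso (isZero_kernel_of_mono _) (PreservesKernel.iso _ η)) hy
      have h' := hF (ClosedPointSupport.supp_mono (kernel.ι η) hy)
      rw [Finset.coe_insert, Set.mem_insert_iff] at h'
      exact h'.resolve_left fun h => hyx (by rw [Scheme.range_fromSpecResidueField]; exact h)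
    · intro y hy
      let iy := W.fromSpecResidueField y
      have hyr : Disjoint (Set.range i) (Set.range iy) := by
        rw [Scheme.range_fromSpecResidueField, Scheme.range_fromSpecResidueField,
          Set.disjoint_singleton]
        exact fun e => hxS (e ▸ hy)
      have hZ : IsZero ((EtCoh.pull iy).obj ((EtCoh.push i).obj ((EtCoh.pull i).obj F))) := by
        refine ClosedPointSupport.isZero_pull_of_disjoint iy (Set.disjoint_of_subset_left ?_ hyr)
        intro z hz
        by_contra hzi
        refine (mem_supp_iff _ (sepPoint W z) (sepPoint_default W z)).1 hz ?_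
        exact isZero_stalk_push_of_disjoint i _ _
          ⟨(Set.range i)ᶜ, i.isClosedEmbedding.isClosed_range.isOpen_compl⟩
          (by rw [sepPoint_default]; exact hzi) disjoint_compl_left
      have hU : Subsingleton (EtCoh.H (Spec (W.residueField y)) ((EtCoh.pull iy).obj (kernel η)) q) := by
        let e : (EtCoh.pull iy).obj (kernel η) ≅ (EtCoh.pull iy).obj F :=
          PreservesKernel.iso _ η ≪≫ kernel.mapIso _ (0 : (EtCoh.pull iy).obj F ⟶ _) (Iso.refl _) (Iso.refl _)
            (hZ.eq_of_tgt _ _) ≪≫ kernelZeroIsoSource
        exact @Equiv.subsingleton _ _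
          ((EtCoh.HF (Spec (W.residueField y)) q).mapIso e).addCommGroupIsoToAddEquiv.toEquiv
          (h y (Finset.mem_insert_of_mem hy))
      exact hU

theorem brTrivial_of_isCr_one {K : Type u} [Field K] (h : Curves.IsCr K 1) : BrTrivial K :=
  fun K' _ _ _ D _ _ _ _ =>
    CiLib.finrank_eq_one_of_isCr_one (CiLib.isCr_one_of_finite (K := K) (L := K') h) D

/-- `G_m` has no cohomology on affine schemes étale over a field with trivial Brauer groups. -/
theorem subsingleton_H_Gm_etale {K : Type u} [Field K] (hBr : BrTrivial K) {W : Scheme.{u}} [IsAffine W]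
    (w : W ⟶ Spec (CommRingCat.of K)) [Etale w] (q : ℕ) (hq : 1 ≤ q) :
    Subsingleton (EtCoh.H W (EtCoh.Gm W) q) := by
  classical
  haveI : IsFinite w := AlgSpLib.isFinite_of_etale_over_point w
  haveI := AlgSpLib.locallyQuasiFinite_of_etale w
  haveI : DiscreteTopology W := by
    refine discreteTopology_iff_isOpen_singleton.2 fun z => ?_
    have h := w.isDiscrete_preimage_singleton (w z)
    have e : w ⁻¹' {w z} = Set.univ := Set.eq_univ_of_forall fun v => Subsingleton.elim _ _
    rw [e] at h
    have := isDiscrete_univ_iff.1 h
    exact isOpen_discrete _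
  haveI : Finite W := finite_of_compact_of_discrete
  letI : Fintype W := Fintype.ofFinite W
  refine subsingleton_H_of_points Finset.univ (fun x _ => isClosed_discrete _) _ (by simp) q
    fun x _ => ?_
  haveI : IsClosedImmersion (W.fromSpecResidueField x) :=
    IsClosedImmersion.of_isPreimmersion _
      (by rw [Scheme.range_fromSpecResidueField]; exact isClosed_discrete _)
  let g : Spec (W.residueField x) ⟶ Spec (CommRingCat.of K) := W.fromSpecResidueField x ≫ w
  let φ := Spec.preimage g
  let L : Type u := W.residueField x
  letI : Field L := inferInstanceAs (Field (W.residueField x))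
  letI : Algebra K L := φ.hom.toAlgebra
  have hg : g = mor K L := (Spec.map_preimage g).symm
  haveI : IsFinite (mor K L) := hg ▸ (inferInstance : IsFinite g)
  haveI : Module.Finite K L := RingHom.finite_algebraMap.1 ((IsFinite.SpecMap_iff _).1 inferInstance)
  haveI : FormallyUnramified (W.fromSpecResidueField x) := inferInstance
  haveI : FormallyUnramified g :=
    MorphismProperty.comp_mem _ (W.fromSpecResidueField x) w inferInstance inferInstance
  haveI : FormallyUnramified (mor K L) := hg ▸ (inferInstance : FormallyUnramified g)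
  haveI : Algebra.FormallyUnramified K L :=
    RingHom.formallyUnramified_algebraMap.1
      ((HasRingHomProperty.Spec_iff (P := @FormallyUnramified)).1 (inferInstance : FormallyUnramified (mor K L)))
  haveI : Algebra.IsSeparable K L := Algebra.FormallyUnramified.isSeparable K L
  haveI : Etale g := hg ▸ etale_mor K L
  haveI : Etale (W.fromSpecResidueField x) :=
    MorphismProperty.of_postcomp (W' := @Etale) _ (W.fromSpecResidueField x) w inferInstance
      (inferInstanceAs (Etale g))
  have hsub : Subsingleton (EtCoh.H (Spec (W.residueField x)) (EtCoh.Gm (Spec (W.residueField x))) q) :=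
    subsingleton_H_Gm (K := L) (fun K' _ _ _ D _ _ _ _ => by
      letI : Algebra K K' := ((algebraMap L K').comp (algebraMap K L)).toAlgebra
      haveI : IsScalarTower K L K' := IsScalarTower.of_algebraMap_eq' rfl
      haveI : FiniteDimensional K K' := Module.Finite.trans L K'
      exact hBr K' D) q hq
  exact @Equiv.subsingleton _ _ ((EtCoh.HF (Spec (W.residueField x)) q).mapIso
    (pullGmIso (W.fromSpecResidueField x))).addCommGroupIsoToAddEquiv.toEquiv hsub

/-- The function field of a curve over an algebraically closed field is `C_1`. -/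
theorem isCr_one_functionField {k : Type u} [Field k] [IsAlgClosed k] {C : Scheme.{u}}
    (f : C ⟶ Spec (CommRingCat.of k)) [LocallyOfFiniteType f] [IsIntegral C]
    (hdim : topologicalKrullDim ↥C = 1) : Curves.IsCr ↑C.functionField 1 := by
  have hbij : Function.Bijective (C.residue (genericPoint C)).hom :=
    ⟨(C.residue (genericPoint C)).hom.injective, IsLocalRing.residue_surjective⟩
  let e : C.functionField ≃+* C.residueField (genericPoint C) := RingEquiv.ofBijective _ hbij
  let φ : k →+* C.functionField :=
    (e.symm : C.residueField (genericPoint C) →+* C.functionField).comp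
      (DimLib.baseRingHom f (genericPoint C))
  let _ : Algebra k C.functionField := φ.toAlgebra
  have h1 : DimLib.ptDim f (genericPoint C) = 1 := by
    have := DimLib.topologicalKrullDim_eq_ptDim_genericPoint (X := C) f
    rw [hdim] at this
    exact_mod_cast this.symm
  have h2 : DimLib.trdegHom (algebraMap k C.functionField) = 1 := by
    rw [← h1]
    exact DimLib.trdegHom_comp_ringEquiv (DimLib.baseRingHom f (genericPoint C)) e.symm
  rw [DimLib.trdegHom_algebraMap] at h2
  have h3 : Algebra.trdeg k C.functionField = (1 : ℕ) := by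
    rw [← h2, Cardinal.cast_toNat_of_lt_aleph0]
    by_contra h
    rw [Cardinal.toNat_apply_of_aleph0_le (not_lt.mp h)] at h2
    exact Nat.zero_ne_one h2
  have h4 := Groth.Agent.S0212.result k C.functionField 1 h3
  intro n d g hg hd hn
  obtain ⟨a, ha, ha'⟩ := h4 1 n (fun _ => g) (fun _ => d) (fun _ => hg) (fun _ => hd) (by simpa using hn)
  exact ⟨a, ha, ha' 0⟩

section Curve

variable {k : Type u} [Field k] [IsAlgClosed k] {X : Scheme.{u}} (f : X ⟶ Spec (CommRingCat.of k))
  [IsSeparated f] [LocallyOfFiniteType f] [IsIntegral X] (hdim : topologicalKrullDim X = 1)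

include f hdim in
/-- `R^q j_* G_m = 0` for the generic point of a curve. -/
theorem isZero_Rpush_Gm_generic [EtCoh.BCCont (X.fromSpecStalk (genericPoint X))] (q : ℕ) :
    IsZero ((EtCoh.Rpush (X.fromSpecStalk (genericPoint X)) (q + 1)).obj
      (EtCoh.Gm (Spec (X.presheaf.stalk (genericPoint X))))) := by
  haveI : X.IsSeparated := ⟨by
    rw [← CategoryTheory.Limits.terminal.comp_from f]; infer_instance⟩
  refine isZero_Rpush_succ _ _ q fun V hV => ?_
  let W := (EtCoh.bc (X.fromSpecStalk (genericPoint X))).obj V
  haveI : IsAffine ((𝟭 Scheme.{u}).obj V.left) := hV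
  haveI : IsAffineHom (X.fromSpecStalk (genericPoint X)) := by
    haveI : IsAffineHom (X.fromSpecStalk (genericPoint X) ≫ terminal.from X) := inferInstance
    exact IsAffineHom.of_comp _ (terminal.from X)
  haveI : IsAffineHom (pullback.fst V.hom (X.fromSpecStalk (genericPoint X))) :=
    MorphismProperty.pullback_fst (P := @IsAffineHom) V.hom (X.fromSpecStalk (genericPoint X)) inferInstance
  haveI : IsAffine W.left := isAffine_of_isAffineHom (pullback.fst V.hom (X.fromSpecStalk (genericPoint X)))
  have hK : BrTrivial (↑X.functionField : Type u) := brTrivial_of_isCr_one (isCr_one_functionField f hdim)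
  have h := subsingleton_H_Gm_etale (K := (↑X.functionField : Type u)) hK
    (W := W.left) (Et18.LocCoh.str W) (q + 1) (by omega)
  haveI : EtShriek.JCont (Et18.LocCoh.str W) := jCont _
  exact @Equiv.subsingleton _ _
    ((EtCoh.HF W.left (q + 1)).mapIso (restrAlongGmIso (Et18.LocCoh.str W))).addCommGroupIsoToAddEquiv.toEquiv h

include f hdim in
/-- `H^p(X, j_* G_m) = 0` for `p ≥ 1`. -/
theorem subsingleton_H_push_Gm_generic [EtCoh.BCCont (X.fromSpecStalk (genericPoint X))] (p : ℕ) (hp : 1 ≤ p) :
    Subsingleton (EtCoh.H X ((EtCoh.push (X.fromSpecStalk (genericPoint X))).obj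
      (EtCoh.Gm (Spec (X.presheaf.stalk (genericPoint X))))) p) := by
  let j := X.fromSpecStalk (genericPoint X)
  haveI : (EtCoh.pull j).PreservesMonomorphisms := inferInstance
  haveI : (EtCoh.push j).PreservesInjectiveObjects :=
    Functor.preservesInjectiveObjects_of_adjunction_of_preservesMonomorphisms (EtCoh.pullPushAdj j)
  let e := SiteCoh.extAdjEquiv (EtCoh.pullPushAdj j) (F := EtCoh.Gm _)
    (fun q => isZero_Rpush_Gm_generic f hdim q) (EtCoh.const X ℤ) p
  have hK : BrTrivial (↑X.functionField : Type u) := brTrivial_of_isCr_one (isCr_one_functionField f hdim)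
  have h : Subsingleton (EtCoh.H (Spec (CommRingCat.of (↑X.functionField : Type u))) (EtCoh.Gm _) p) :=
    subsingleton_H_Gm hK p hp
  refine e.toEquiv.subsingleton_congr.2 ⟨fun a b => ?_⟩
  let c := EtCore.pullConst j ℤ
  have h0 : (Ext.mk₀ c.inv).comp a (zero_add p) = (Ext.mk₀ c.inv).comp b (zero_add p) :=
    @Subsingleton.elim _ h _ _
  have h1 := congrArg (fun w => (Ext.mk₀ c.hom).comp w (zero_add p)) h0
  simpa only [Ext.mk₀_comp_mk₀_assoc, Iso.hom_inv_id, Ext.mk₀_id_comp] using h1

end Curve

end Groth.Agent.GalEt
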