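import Groth.Agent.GalEt.PGroup
import Groth.Agent.Et18.ConsColim

/-!
# `p`-cohomological dimension from the test sheaf `ℤ/p`
-/

set_option autoImplicit false
set_option linter.all false
set_option backward.isDefEq.respectTransparency.types false
set_option backward.isDefEq.respectTransparency false
set_option backward.defeqAttrib.useBackward true
set_option synthInstance.maxHeartbeats 400000
set_option maxHeartbeats 1000000

universe u

open CategoryTheory CategoryTheory.Limits CategoryTheory.Abelian AlgebraicGeometry Opposite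
open Groth.Agent.Et18 Groth.Agent.Et18.CdField

noncomputable section

namespace Groth.Agent.GalEt

variable (K : Type u) [Field K] {p : ℕ}

/-- The `p`-torsion sheaf `ℤ/p`. -/
theorem isLTorsion_zmod (X : Scheme.{u}) (hp : p.Prime) :
    EtAcyc.IsLTorsion {p} (EtCoh.const X (ZMod p)) :=
  isLTorsion_cst _ fun a => ⟨p, ⟨hp.pos, fun q hq hd => (Nat.prime_dvd_prime_iff_eq hq hp).1 hd⟩,
    ULift.down_injective (by
      change p • a.down = (0 : ZMod p)
      rw [nsmul_eq_mul, ZMod.natCast_self, zero_mul])⟩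

theorem exists_pow_nsmul_H {X : Scheme.{u}} [CompactSpace X] [QuasiSeparatedSpace X]
    {G : EtCoh.Ab X} (hG : EtAcyc.IsLTorsion {p} G) {q : ℕ} (x : EtCoh.H X G q) :
    ∃ k : ℕ, p ^ k • x = 0 := by
  obtain ⟨m, hm, h0⟩ := TorsionColim.exists_smul_eq_zero {p} G hG q x
  refine ⟨m.primeFactorsList.length, ?_⟩
  rwa [← Nat.eq_prime_pow_of_unique_prime_dvd hm.1.ne' fun {d} hd hdvd => hm.2 d hd hdvd]

/-- A constructible sheaf is made constant by a finite Galois extension. -/
theorem exists_galois_triv (G : EtCoh.Ab (Spec (CommRingCat.of K))) (hG : EtPBC.IsConstructible G) :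
    ∃ (M : Type u) (_ : Field M) (_ : Algebra K M) (_ : Module.Finite K M) (_ : IsGalois K M)
      (A : AddCommGrpCat.{u + 1}), Finite A ∧ Triv (mor K M) G A := by
  obtain ⟨L, _, _, _, _, g, A, hg, hA, hT⟩ := exists_triv K G hG _ (𝟙 _)
  let ι : L →ₐ[K] SeparableClosure K := IsSepClosed.lift
  letI : Algebra L (SeparableClosure K) := ι.toRingHom.toAlgebra
  haveI : IsScalarTower K L (SeparableClosure K) :=
    IsScalarTower.of_algebraMap_eq' ι.comp_algebraMap.symm
  let M := IntermediateField.normalClosure K L (SeparableClosure K)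
  refine ⟨M, inferInstance, inferInstance, inferInstance, inferInstance, A, hA, hT.comp (mor L M) ?_⟩
  rw [mor, mor, mor, ← Spec.map_comp, ← CommRingCat.ofHom_comp, ← IsScalarTower.algebraMap_eq]

/-- Reduction of the vanishing to constructible sheaves. -/
theorem subsingleton_H_of_constructible (hp : p.Prime) (n : ℕ)
    (hcons : ∀ G' : EtCoh.Ab (Spec (CommRingCat.of K)), EtPBC.IsConstructible G' →
      EtAcyc.IsLTorsion {p} G' → Subsingleton (EtCoh.H (Spec (CommRingCat.of K)) G' n))
    (G : EtCoh.Ab (Spec (CommRingCat.of K))) (hG : EtAcyc.IsLTorsion {p} G) :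
    Subsingleton (EtCoh.H (Spec (CommRingCat.of K)) G n) := by
  have hGt : EtCoh.IsTorsion G := by
    rw [TorsionColim.isTorsion_iff, isLTorsion_iff_stalks]
    intro Ω _ _ ξ t
    obtain ⟨m, hm, h0⟩ := (isLTorsion_iff_stalks _ _).1 hG Ω ξ t
    exact ⟨m, ⟨hm.1, fun q _ _ => trivial⟩, h0⟩
  obtain ⟨hc⟩ := ColimCons.nonempty_isColimit_im (F := G) hGt
  have := EtCechLib.preservesColimitsOfShape_HF (X := Spec (CommRingCat.of K)) n
    (Finset (ColimCons.Gen G))
  refine subsingleton_of_forall_eq_zero fun z => ?_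
  obtain ⟨s, b, rfl⟩ := Concrete.isColimit_exists_rep _
    (isColimitOfPreserves (EtCoh.HF (Spec (CommRingCat.of K)) n) hc) z
  haveI : Mono ((ColimCons.imCocone G).ι.app s) := inferInstanceAs (Mono (Limits.image.ι _))
  haveI := hcons _ (ColimCons.isConstructible_im s)
    (isLTorsion_of_mono ((ColimCons.imCocone G).ι.app s) hG)
  rw [show b = 0 from Subsingleton.elim
    (α := EtCoh.H (Spec (CommRingCat.of K)) ((ColimCons.imDiagram G).obj s) n) _ _, map_zero]

/-- Over a field whose finite separable extensions have `p`-power degree, `ℤ/p` controls a degree. -/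
theorem subsingleton_H_constructible_proP (hp : p.Prime)
    (hpro : ∀ (L : Type u) [Field L] [Algebra K L], FiniteDimensional K L → Algebra.IsSeparable K L →
      ∃ m : ℕ, Module.finrank K L = p ^ m) (n : ℕ)
    (hz : Subsingleton (EtCoh.H (Spec (CommRingCat.of K)) (EtCoh.const _ (ZMod p)) n))
    (G : EtCoh.Ab (Spec (CommRingCat.of K))) (hG : EtPBC.IsConstructible G)
    (ht : EtAcyc.IsLTorsion {p} G) : Subsingleton (EtCoh.H (Spec (CommRingCat.of K)) G n) := by
  haveI := Fact.mk hp
  obtain ⟨M, _, _, _, _, A, hA, hT⟩ := exists_galois_triv K G hG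
  haveI := hA
  obtain ⟨m, hm⟩ := hpro M inferInstance inferInstance
  have hM : IsPGroup p (M ≃ₐ[K] M) := IsPGroup.of_card (n := m) (by rw [IsGalois.card_aut_eq_finrank, hm])
  exact (good_of_triv K M ht hT).subsingleton_H K M hp hM n hz

/-- If `ℤ/p` has no degree `n` cohomology over all finite separable extensions, neither has a
constructible `p`-torsion sheaf. -/
theorem subsingleton_H_constructible_of_all (hp : p.Prime) (n : ℕ)
    (hz : ∀ (L : Type u) [Field L] [Algebra K L] [Module.Finite K L] [Algebra.IsSeparable K L],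
      Subsingleton (EtCoh.H (Spec (CommRingCat.of L)) (EtCoh.const _ (ZMod p)) n))
    (G : EtCoh.Ab (Spec (CommRingCat.of K))) (hG : EtPBC.IsConstructible G)
    (ht : EtAcyc.IsLTorsion {p} G) : Subsingleton (EtCoh.H (Spec (CommRingCat.of K)) G n) := by
  haveI := Fact.mk hp
  obtain ⟨M, _, _, _, _, A, hA, hT⟩ := exists_galois_triv K G hG
  haveI := hA
  let P : Sylow p (M ≃ₐ[K] M) := default
  let L' := IntermediateField.fixedField (P : Subgroup (M ≃ₐ[K] M))
  haveI : Algebra.IsSeparable K L' := Algebra.isSeparable_tower_bot_of_isSeparable K L' M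
  have hidx : ¬ p ∣ Module.finrank K L' := by
    rw [IntermediateField.finrank_eq_fixingSubgroup_index, IntermediateField.fixingSubgroup_fixedField]
    exact P.not_dvd_index
  obtain ⟨a, ha⟩ : ∃ a, Nat.card (M ≃ₐ[L'] M) = p ^ a := by
    rw [IsGalois.card_aut_eq_finrank, IntermediateField.finrank_fixedField_eq_card]
    exact IsPGroup.iff_card.1 P.isPGroup'
  have e : mor L' M ≫ mor K L' = mor K M := by
    rw [mor, mor, mor, ← Spec.map_comp, ← CommRingCat.ofHom_comp, ← IsScalarTower.algebraMap_eq]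
  have hT' : Triv (mor L' M) ((EtCoh.pull (mor K L')).obj G) A :=
    (triv_pull_iff (mor K L') (mor L' M) G A).mpr (e.symm ▸ hT)
  haveI : Subsingleton (EtCoh.H (Spec (CommRingCat.of L')) ((EtCoh.pull (mor K L')).obj G) n) :=
    (good_of_triv L' M (isLTorsion_pull' _ ht) hT').subsingleton_H L' M hp (IsPGroup.of_card ha) n (hz L')
  refine subsingleton_of_forall_eq_zero fun x => ?_
  obtain ⟨k, hk⟩ := exists_pow_nsmul_H ht x
  exact eq_zero_of_coprime (finrank_nsmul_eq_zero K L' G n x (Subsingleton.elim _ _)) hk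
    (Nat.Coprime.pow_right k ((Nat.Prime.coprime_iff_not_dvd hp).2 hidx).symm)

/-- Vanishing in one degree propagates upwards. -/
theorem subsingleton_H_of_ge (n : ℕ)
    (h : ∀ G : EtCoh.Ab (Spec (CommRingCat.of K)), EtAcyc.IsLTorsion {p} G →
      Subsingleton (EtCoh.H (Spec (CommRingCat.of K)) G (n + 1))) :
    CdL (Spec (CommRingCat.of K)) {p} n := by
  intro G hG q hq
  obtain ⟨j, rfl⟩ := Nat.exists_eq_add_of_lt hq
  induction j generalizing G with
  | zero => exact h G hG
  | succ j ih =>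
    refine subsingleton_of_forall_eq_zero fun x => ?_
    obtain ⟨L, _, _, _, _, hL⟩ := exists_Hpull_eq_zero K (n + (j + 1)) G x
    let π := mor K L
    let u := (EtCoh.pullPushAdj π).unit.app G
    haveI : Mono u := by
      haveI : Mono ((EtCoh.pull π).map (kernel.ι u)) := inferInstance
      have h1 : (EtCoh.pull π).map (kernel.ι u) = 0 := by
        refine ((EtCoh.pullPushAdj π).homEquiv _ _).injective ?_
        rw [Adjunction.homEquiv_unit, Adjunction.homEquiv_unit, Functor.map_zero, comp_zero]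
        exact ((EtCoh.pullPushAdj π).unit.naturality (kernel.ι u)).symm.trans (kernel.condition u)
      have h2 : IsZero ((EtCoh.pull π).obj (kernel u)) := IsZero.of_mono_eq_zero _ h1
      let η := sepPoint (Spec (CommRingCat.of L)) default
      have h3 : IsZero ((EtCoh.stalk (η ≫ π)).obj (kernel u)) :=
        ((EtCoh.stalk η).map_isZero h2).of_iso ((stalkPullIso π η).app _).symm
      exact Preadditive.mono_of_kernel_zero ((isZero_of_stalk K (kernel u) (η ≫ π)
        (AddCommGrpCat.subsingleton_of_isZero h3)).eq_of_src _ _)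
    have hS := shortExact_cokernel u
    obtain ⟨z, hz⟩ := Ext.covariant_sequence_exact₁ _ hS x
      (comp_unit_eq_zero π G _ x hL) (n₀ := n + j + 1) rfl
    have hQ : EtAcyc.IsLTorsion {p} (cokernel u) :=
      Et18.isLTorsion_of_epi _ (cokernel.π u) (isLTorsion_push π (isLTorsion_pull' π hG))
    haveI := ih (cokernel u) hQ (Nat.lt_add_of_pos_right (Nat.succ_pos j))
    rw [← hz, show z = 0 from Subsingleton.elim
      (α := EtCoh.H (Spec (CommRingCat.of K)) (cokernel u) (n + j + 1)) _ _, Ext.zero_comp]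

/-- `p`-primary classes of torsion sheaves come from `p`-torsion sheaves. -/
theorem eq_zero_of_cdL (hp : p.Prime) {X : Scheme.{u}} [CompactSpace X] [QuasiSeparatedSpace X]
    {n : ℕ} (h : CdL X {p} n) (F : EtCoh.Ab X) (hF : EtCoh.IsTorsion F) (q : ℕ) (hq : n < q)
    (x : EtCoh.H X F q) (hx : ∃ m : ℕ, p ^ m • x = 0) : x = 0 := by
  obtain ⟨j, hj⟩ := hx
  have := EtCechLib.preservesColimitsOfShape_HF (X := X) q (TorsionColim.LNum.{u} (Set.univ : Set ℕ))
  obtain ⟨m, b, hb⟩ := Concrete.isColimit_exists_rep _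
    (isColimitOfPreserves (EtCoh.HF X q) (TorsionColim.isColimit Set.univ F
      ((TorsionColim.isTorsion_iff F).1 hF))) (show ((EtCoh.HF X q).obj F : Type (u + 1)) from x)
  let W := kernel (m.val • 𝟙 F)
  let κ : W ⟶ F := kernel.ι _
  have h1 : x = Ext.comp (show EtCoh.H X W q from b) (Ext.mk₀ κ) (add_zero q) :=
    hb.symm.trans (HF_map_apply q κ b)
  obtain ⟨a, m', hm', hmm⟩ := Nat.exists_eq_pow_mul_and_not_dvd m.prop.1.ne' p hp.ne_one
  have hW : m.val • 𝟙 W = 0 := by
    rw [← cancel_mono κ, Preadditive.nsmul_comp, Category.id_comp, zero_comp]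
    exact (TorsionColim.nsmul_id_comp _ _).symm.trans (kernel.condition _)
  obtain ⟨c, hc1, hc2⟩ := Nat.chineseRemainder
    ((((Nat.Prime.coprime_iff_not_dvd hp).2 hm').pow_left (max a j))) 1 0
  have hcm : m' ∣ c := Nat.modEq_zero_iff_dvd.1 hc2
  let P := kernel (p ^ a • 𝟙 W)
  have hl : (c • 𝟙 W) ≫ (p ^ a • 𝟙 W) = 0 := by
    obtain ⟨d, hd⟩ := hcm
    rw [Preadditive.comp_nsmul, Category.comp_id, smul_smul,
      show p ^ a * c = d * m.val from by rw [hd, hmm]; ring, mul_smul, hW, smul_zero]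
  have hP : EtAcyc.IsLTorsion {p} P := by
    have h0 : p ^ a • 𝟙 P = 0 := by
      rw [← cancel_mono (kernel.ι (p ^ a • 𝟙 W)), Preadditive.nsmul_comp, Category.id_comp, zero_comp]
      exact (TorsionColim.nsmul_id_comp _ _).symm.trans (kernel.condition _)
    rw [isLTorsion_iff_stalks]
    intro Ω _ _ ξ t
    refine ⟨p ^ a, ⟨pow_pos hp.pos a, fun r hr hd =>
      (Nat.prime_dvd_prime_iff_eq hr hp).1 (hr.dvd_of_dvd_pow hd)⟩, ?_⟩
    haveI : (EtCoh.stalk ξ).Additive := Functor.additive_of_preserves_binary_products _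
    have h2 : (EtCoh.stalk ξ).map (p ^ a • 𝟙 P) t = 0 := by rw [h0, Functor.map_zero]; rfl
    rw [Functor.map_nsmul, CategoryTheory.Functor.map_id] at h2
    exact h2
  have hcb : c • (show EtCoh.H X W q from b) = 0 := by
    rw [← comp_nsmul_id W q (show EtCoh.H X W q from b) c, ← kernel.lift_ι _ _ hl, ← Ext.mk₀_comp_mk₀,
      ← Ext.comp_assoc_of_second_deg_zero]
    rw [show Ext.comp (show EtCoh.H X W q from b) (Ext.mk₀ (kernel.lift _ _ hl)) (add_zero q) = 0 from
      @Subsingleton.elim _ (h P hP q hq) _ _, Ext.zero_comp]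
  have hcx : c • x = 0 := by
    rw [h1]
    have h3 : Ext.comp (c • (show EtCoh.H X W q from b)) (Ext.mk₀ κ) (add_zero q) =
        c • Ext.comp (show EtCoh.H X W q from b) (Ext.mk₀ κ) (add_zero q) :=
      map_nsmul (((Ext.bilinearComp _ _ _ q 0 q (add_zero q)).flip) (Ext.mk₀ κ)) _ _
    rw [← h3, hcb, Ext.zero_comp]
  rcases Nat.eq_zero_or_pos j with rfl | hj0
  · simpa using hj
  refine eq_zero_of_coprime hj hcx (Nat.Coprime.pow_left j ?_)
  rw [Nat.Prime.coprime_iff_not_dvd hp]
  intro hd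
  have h4 : c ≡ 1 [MOD p] := Nat.ModEq.of_dvd (dvd_pow_self p (lt_of_lt_of_le hj0 (le_max_right a j)).ne') hc1
  exact hp.ne_one (Nat.dvd_one.1 ((Nat.ModEq.dvd_iff h4 dvd_rfl).1 hd))

end Groth.Agent.GalEt
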