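import Groth.Agent.CAlgH3.EtPic
import Groth.Agent.EtCmp.RDeg
import Groth.Prelude.Def_EtLim

/-!
# Low degrees of the adjunction map on cohomology
-/

set_option autoImplicit false
set_option linter.all false
set_option backward.isDefEq.respectTransparency false
set_option backward.isDefEq.respectTransparency.types false
set_option backward.defeqAttrib.useBackward true
set_option synthInstance.maxHeartbeats 400000
set_option maxHeartbeats 1000000

universe w w' v v' u u'

open CategoryTheory CategoryTheory.Limits CategoryTheory.Abelian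
open Groth.Agent.EtCmp

namespace Groth.Agent.GalEt

variable {A : Type u} [Category.{v} A] [Abelian A] [HasExt.{w} A]
  {B : Type u'} [Category.{v'} B] [Abelian B] [HasExt.{w'} B] [EnoughInjectives B] [HasInjectiveResolutions B]
  {L : A ⥤ B} {R : B ⥤ A} (adj : L ⊣ R) [L.Additive] [R.Additive]
  [PreservesFiniteLimits L] [PreservesFiniteColimits L] [PreservesFiniteLimits R]

/-- The adjunction map is always injective in degree one. -/
theorem injective_adjExtHom_one (M : A) (F : B) : Function.Injective (adjExtHom adj M F 1) := by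
  let _ := HasDerivedCategory.standard A
  let _ := HasDerivedCategory.standard B
  let S := SiteCoh.injEmbed F
  have hS : S.ShortExact := SiteCoh.injEmbed_shortExact F
  haveI := hS.mono_f
  haveI : Injective S.X₂ := inferInstanceAs (Injective (Injective.under F))
  haveI : Mono (R.map S.f) := inferInstance
  let c : cokernel (R.map S.f) ⟶ R.obj S.X₃ :=
    cokernel.desc (R.map S.f) (R.map S.g) (by rw [← R.map_comp, S.zero, R.map_zero])
  have hex : (S.map R).Exact := hS.exact.map_of_mono_of_preservesKernel R hS.mono_f inferInstance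
  haveI : Mono c := hex.mono_cokernelDesc
  let S' := ShortComplex.mk (R.map S.f) (cokernel.π (R.map S.f)) (cokernel.condition _)
  have hS' : S'.ShortExact :=
    { exact := ShortComplex.exact_cokernel _
      mono_f := inferInstanceAs (Mono (R.map S.f))
      epi_g := inferInstanceAs (Epi (cokernel.π _)) }
  have hLS' : (S'.map L).ShortExact := hS'.map_of_exact L
  let φ : S'.map L ⟶ S :=
    { τ₁ := adj.counit.app _
      τ₂ := adj.counit.app _
      τ₃ := L.map c ≫ adj.counit.app _
      comm₁₂ := (adj.counit.naturality S.f).symm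
      comm₂₃ := by
        show adj.counit.app S.X₂ ≫ S.g = L.map (cokernel.π (R.map S.f)) ≫ L.map c ≫ adj.counit.app S.X₃
        rw [← L.map_comp_assoc, cokernel.π_desc]
        exact (adj.counit.naturality S.g).symm }
  haveI : Injective S'.X₂ := Injective.injective_of_adjoint adj S.X₂
  refine (injective_iff_map_eq_zero _).2 fun z hz => ?_
  obtain ⟨y, rfl⟩ := Ext.covariant_sequence_exact₁ M hS' z (Ext.eq_zero_of_injective _) rfl
  obtain ⟨y, rfl⟩ := (Ext.mk₀_bijective _ _).2 y
  have e1 : ((Ext.mk₀ y).comp hS'.extClass rfl).mapExactFunctor L =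
      (Ext.mk₀ (L.map y)).comp hLS'.extClass rfl := by
    rw [Ext.mapExactFunctor_comp, Ext.mapExactFunctor_extClass, Ext.mapExactFunctor_mk₀]
  have e2 : (Ext.mk₀ (L.map c ≫ adj.counit.app S.X₃)).comp hS.extClass (zero_add 1) =
      hLS'.extClass.comp (Ext.mk₀ (adj.counit.app S.X₁)) (add_zero 1) :=
    (ShortComplex.ShortExact.extClass_naturality hLS' hS φ).symm
  rw [adjExtHom_apply, e1, Ext.comp_assoc_of_third_deg_zero] at hz
  erw [← e2] at hz
  rw [← Ext.comp_assoc_of_second_deg_zero, Ext.mk₀_comp_mk₀] at hz
  obtain ⟨w, hw⟩ := Ext.covariant_sequence_exact₃ _ hS _ rfl hz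
  obtain ⟨w, rfl⟩ := (Ext.mk₀_bijective _ _).2 w
  rw [Ext.mk₀_comp_mk₀] at hw
  have h3 : y ≫ c = (adj.homEquiv M S.X₂ w ≫ cokernel.π (R.map S.f)) ≫ c := by
    rw [Category.assoc, cokernel.π_desc, ← Adjunction.homEquiv_naturality_right]
    refine (adj.homEquiv M S.X₃).symm.injective ?_
    rw [Equiv.symm_apply_apply, Adjunction.homEquiv_counit]
    refine Eq.trans ?_ ((Ext.mk₀_bijective _ _).1 hw).symm
    rw [L.map_comp, Category.assoc]
  rw [(cancel_mono c).1 h3, ← Ext.mk₀_comp_mk₀, Ext.comp_assoc_of_second_deg_zero]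
  erw [hS'.comp_extClass]
  exact Ext.comp_zero _ _ _ _ _

/-- The adjunction map is injective in degree two when one epimorphism is preserved. -/
theorem injective_adjExtHom_two (M : A) (F : B) (hepi : Epi (R.map (SiteCoh.injEmbed F).g)) :
    Function.Injective (adjExtHom adj M F 2) := by
  let _ := HasDerivedCategory.standard A
  let _ := HasDerivedCategory.standard B
  let S := SiteCoh.injEmbed F
  have hS : S.ShortExact := SiteCoh.injEmbed_shortExact F
  haveI : Injective S.X₂ := inferInstanceAs (Injective (Injective.under F))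
  have hRS : (S.map R).ShortExact :=
    { exact := hS.exact.map_of_mono_of_preservesKernel R hS.mono_f inferInstance
      mono_f := by
        haveI := hS.mono_f
        exact inferInstanceAs (Mono (R.map S.f))
      epi_g := hepi }
  have hLRS : ((S.map R).map L).ShortExact := hRS.map_of_exact L
  let φ : (S.map R).map L ⟶ S :=
    { τ₁ := adj.counit.app _
      τ₂ := adj.counit.app _
      τ₃ := adj.counit.app _
      comm₁₂ := (adj.counit.naturality S.f).symm
      comm₂₃ := (adj.counit.naturality S.g).symm }
  haveI : Injective (S.map R).X₂ := Injective.injective_of_adjoint adj S.X₂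
  refine (injective_iff_map_eq_zero _).2 fun z hz => ?_
  obtain ⟨y, rfl⟩ := Ext.covariant_sequence_exact₁ M hRS z (Ext.eq_zero_of_injective _) rfl
  have e1 : (y.comp hRS.extClass rfl).mapExactFunctor L = (y.mapExactFunctor L).comp hLRS.extClass rfl := by
    rw [Ext.mapExactFunctor_comp, Ext.mapExactFunctor_extClass]
  have e2 : (Ext.mk₀ (adj.counit.app S.X₃)).comp hS.extClass (zero_add 1) =
      hLRS.extClass.comp (Ext.mk₀ (adj.counit.app S.X₁)) (add_zero 1) :=
    (ShortComplex.ShortExact.extClass_naturality hLRS hS φ).symm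
  rw [adjExtHom_apply, e1, Ext.comp_assoc_of_third_deg_zero] at hz
  erw [← e2] at hz
  rw [← Ext.comp_assoc_of_second_deg_zero] at hz
  obtain ⟨w, hw⟩ := Ext.covariant_sequence_exact₃ _ hS _ rfl hz
  have hy0 : adjExtHom adj M S.X₃ 1 y = 0 := by
    rw [adjExtHom_apply]
    refine hw.symm.trans ?_
    rw [Ext.eq_zero_of_injective w, Ext.zero_comp]
  have hy : y = 0 := injective_adjExtHom_one adj M S.X₃ (hy0.trans (map_zero _).symm)
  rw [hy, Ext.zero_comp]

open AlgebraicGeometry in
/-- Pullback to the source followed by the counit, through the adjunction map. -/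
theorem injective_HofPush {X Y : Scheme.{u}} (f : X ⟶ Y) [PreservesFiniteLimits (EtCoh.pull f)]
    (F : EtCoh.Ab X) (n : ℕ)
    (h : Function.Injective (adjExtHom (EtCoh.pullPushAdj f) (EtCoh.const Y ℤ) F n)) :
    Function.Injective (EtLim.HofPush f F n) := by
  refine (injective_iff_map_eq_zero _).2 fun x hx => h ?_
  rw [map_zero, adjExtHom_apply]
  have h1 := congrArg (fun w => (Ext.mk₀ (EtCore.pullConst f ℤ).hom).comp w (zero_add n)) hx
  refine Eq.trans ?_ (h1.trans (Ext.comp_zero _ _ _ _ _))
  refine Eq.trans ?_ (congrArg (fun w => (Ext.mk₀ (EtCore.pullConst f ℤ).hom).comp w (zero_add n))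
    (Ext.comp_assoc_of_third_deg_zero _ _ _ (zero_add n)).symm)
  simp only [Ext.mk₀_comp_mk₀_assoc, Iso.hom_inv_id, Ext.mk₀_id_comp]
  rfl

end Groth.Agent.GalEt
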