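import Groth.Agent.Et18.ClosedPointSupport
import Groth.Agent.EtLimit.Units
import Groth.Agent.Props12.Stalks
import Groth.Agent.AlgSpLib.Diag
import Mathlib.AlgebraicGeometry.PullbackCarrier

/-!
# `G_m → j_* G_m` for the generic point is bijective on stalks over the generic point
-/

set_option autoImplicit false
set_option linter.all false
set_option backward.isDefEq.respectTransparency.types false
set_option backward.isDefEq.respectTransparency false
set_option backward.defeqAttrib.useBackward true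
set_option synthInstance.maxHeartbeats 400000
set_option maxHeartbeats 1000000

universe u

open CategoryTheory CategoryTheory.Limits AlgebraicGeometry Opposite TopologicalSpace
open Groth.Agent.Et18

namespace Groth.Agent.GalEt.GmUnit

variable {X : Scheme.{u}} (η : X)

local notation "jη" => X.fromSpecStalk η

variable {η} (hmax : ∀ y : X, y ⤳ η → y = η)

/-- An open subscheme of an étale scheme. -/
noncomputable def openObj (U : X.Etale) (O : U.left.Opens) : X.Etale :=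
  haveI : Etale U.hom := U.prop
  Scheme.Etale.mk (Scheme.Opens.ι O ≫ U.hom)

/-- Its inclusion. -/
noncomputable def openIncl (U : X.Etale) (O : U.left.Opens) : openObj U O ⟶ U :=
  MorphismProperty.Over.homMk (Scheme.Opens.ι O) rfl

theorem exists_lift_point {Ω : Type u} [Field Ω] [IsSepClosed Ω] (ξ : Spec (CommRingCat.of Ω) ⟶ X)
    (U : X.Etale) (v : (Scheme.pointSmallEtale ξ).fiber.obj U) (O : U.left.Opens) (h : fiberPt v ∈ O) :
    ∃ w : (Scheme.pointSmallEtale ξ).fiber.obj (openObj U O),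
      (Scheme.pointSmallEtale ξ).fiber.map (openIncl U O) w = v := by
  let vl : Spec (CommRingCat.of Ω) ⟶ U.left := v.left
  obtain ⟨l, hl, -⟩ := Scheme.exists_fac_of_etale_of_isSepClosed (Scheme.Opens.ι O) vl ⟨fiberPt v, h⟩ rfl
  exact ⟨Over.homMk l ((Category.assoc _ _ _).symm.trans ((congrArg (· ≫ U.hom) hl).trans (Over.w v))),
    Over.OverMorphism.ext hl⟩

theorem exists_open_one {U : Scheme.{u}} (f : U ⟶ X) (u : U) (hu : f u = η) (s : Γ(U, ⊤))
    (hs : (pullback.fst f jη).appTop s = 1) :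
    ∃ O : U.Opens, u ∈ O ∧ O.ι.appTop s = 1 := by
  let p : pullback f jη ⟶ U := pullback.fst f jη
  obtain ⟨w, hw, -⟩ := Scheme.Pullback.exists_preimage_pullback (f := f) (g := jη) u
    (IsLocalRing.closedPoint (X.presheaf.stalk η)) (hu.trans Scheme.fromSpecStalk_closedPoint.symm)
  haveI : IsIso (p.stalkMap w) := Props12.isIso_stalkMap_fst f η w
  have hgerm : U.presheaf.germ ⊤ (p w) trivial s = U.presheaf.germ ⊤ (p w) trivial 1 := by
    apply (ConcreteCategory.bijective_of_isIso (p.stalkMap w)).1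
    rw [Scheme.Hom.germ_stalkMap_apply, Scheme.Hom.germ_stalkMap_apply, map_one]
    exact congrArg _ hs
  obtain ⟨O, hO, i₁, i₂, heq⟩ := TopCat.Presheaf.germ_eq (F := U.presheaf) (U := ⊤) (V := ⊤) (p w)
    trivial trivial s 1 hgerm
  rw [map_one] at heq
  refine ⟨O, hw ▸ hO, ?_⟩
  have e : (Scheme.Opens.ι O).appTop = U.presheaf.map i₁.op ≫ (Scheme.Opens.topIso O).inv := by
    rw [Scheme.Opens.ι_appTop]
    simp only [Scheme.Opens.topIso, Functor.mapIso_inv]
    rw [← Functor.map_comp]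
    rfl
  rw [e, CommRingCat.comp_apply, heq, map_one]

include hmax in
theorem exists_open_unit {U : Scheme.{u}} (f : U ⟶ X) [LocallyQuasiFinite f] (u : U) (hu : f u = η)
    (τ : Γ(pullback f jη, ⊤)) (hτ : IsUnit τ) :
    ∃ (O : U.Opens) (s : Γ((O : Scheme.{u}), ⊤)), u ∈ O ∧ IsUnit s ∧
      ∀ {P' : Scheme.{u}} (g' : P' ⟶ pullback f jη) (p' : P' ⟶ O),
        g' ≫ pullback.fst f jη = p' ≫ O.ι → g'.appTop τ = p'.appTop s := by
  let P := pullback f jη
  let p : P ⟶ U := pullback.fst f jη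
  haveI : IsPreimmersion p :=
    MorphismProperty.pullback_fst (P := @IsPreimmersion) f jη inferInstance
  obtain ⟨w, hw, -⟩ := Scheme.Pullback.exists_preimage_pullback (f := f) (g := jη) u
    (IsLocalRing.closedPoint (X.presheaf.stalk η)) (hu.trans Scheme.fromSpecStalk_closedPoint.symm)
  have hwη : f (p w) = η := (congrArg f hw).trans hu
  haveI : DiscreteTopology (f ⁻¹' {η}) := (f.isDiscrete_preimage_singleton η).to_subtype
  obtain ⟨O₁, hO₁, hfib⟩ := isOpen_induced_iff.1 (isOpen_discrete ({⟨p w, hwη⟩} : Set (f ⁻¹' {η})))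
  have huniq : ∀ w' : P, p w' ∈ O₁ → w' = w := by
    intro w' hw'
    apply p.isEmbedding.injective
    have hη : f (p w') = η := by
      refine hmax _ ?_
      have h1 : jη (pullback.snd f jη w') ∈ Set.range jη := Set.mem_range_self _
      rw [Scheme.range_fromSpecStalk, ← Scheme.Hom.comp_apply, ← pullback.condition,
        Scheme.Hom.comp_apply] at h1
      exact h1
    have h2 : (⟨p w', hη⟩ : f ⁻¹' {η}) ∈ Subtype.val ⁻¹' O₁ := hw'
    rw [hfib, Set.mem_singleton_iff] at h2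
    exact congrArg Subtype.val h2
  have hwO : p w ∈ O₁ := by
    have : (⟨p w, hwη⟩ : f ⁻¹' {η}) ∈ Subtype.val ⁻¹' O₁ := hfib ▸ rfl
    exact this
  haveI : IsIso (p.stalkMap w) := Props12.isIso_stalkMap_fst f η w
  obtain ⟨a, ha⟩ := (ConcreteCategory.bijective_of_isIso (p.stalkMap w)).2 (P.presheaf.germ ⊤ w trivial τ)
  obtain ⟨O₂, hO₂, s₂, rfl⟩ := U.presheaf.exists_germ_eq a
  have hu : IsUnit (U.presheaf.germ O₂ (p w) hO₂ s₂) := by
    have h1 : IsUnit (p.stalkMap w (U.presheaf.germ O₂ (p w) hO₂ s₂)) := by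
      rw [ha]; exact hτ.map (P.presheaf.germ ⊤ w trivial).hom
    exact (isUnit_map_iff (p.stalkMap w).hom _).1 h1
  obtain ⟨O₃, i₃, hO₃, hu₃⟩ := U.toRingedSpace.isUnit_res_of_isUnit_germ O₂ s₂ (p w) hO₂ hu
  let O : U.Opens := O₃ ⊓ ⟨O₁, hO₁⟩
  let iO : O ⟶ O₂ := homOfLE (inf_le_left.trans i₃.le)
  let s : Γ(U, O) := U.presheaf.map iO.op s₂
  have hs : IsUnit s := by
    have := hu₃.map (U.presheaf.map (homOfLE (inf_le_left : O ≤ O₃)).op).hom
    rwa [← CommRingCat.comp_apply, ← Functor.map_comp] at this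
  have hloc : P.presheaf.map (homOfLE le_top : p ⁻¹ᵁ O ⟶ ⊤).op τ = p.app O s := by
    refine TopCat.Presheaf.section_ext P.sheaf (p ⁻¹ᵁ O) _ _ fun z hz => ?_
    obtain rfl : z = w := huniq z hz.2
    refine (TopCat.Presheaf.germ_res_apply P.presheaf _ z hz τ).trans ?_
    refine ha.symm.trans ?_
    refine Eq.trans ?_ (Scheme.Hom.germ_stalkMap_apply p O z hz s)
    exact congrArg _ (TopCat.Presheaf.germ_res_apply U.presheaf iO _ hz s₂).symm
  refine ⟨O, O.topIso.inv s, hw ▸ ⟨hO₃, hwO⟩, hs.map O.topIso.inv.hom, fun {P'} g' p' h => ?_⟩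
  have hle : (⊤ : P'.Opens) ≤ g' ⁻¹ᵁ (p ⁻¹ᵁ O) := by
    intro z _
    show (g' ≫ p) z ∈ O
    rw [h]
    exact (p' z).2
  have e1 : g'.appTop = P.presheaf.map (homOfLE le_top : p ⁻¹ᵁ O ⟶ ⊤).op ≫ g'.appLE (p ⁻¹ᵁ O) ⊤ hle := by
    rw [Scheme.Hom.map_appLE, Scheme.Hom.appTop, Scheme.Hom.app_eq_appLE]
    rfl
  have eι : O.ι.appLE O ⊤ (by simp) = O.topIso.inv := by
    rw [Scheme.Opens.ι_appLE]
    rfl
  have hcongr : ∀ {A B : Scheme.{u}} {a b : A ⟶ B}, a = b → ∀ (V : B.Opens) (W : A.Opens)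
      (h₁ : W ≤ a ⁻¹ᵁ V) (h₂ : W ≤ b ⁻¹ᵁ V), a.appLE V W h₁ = b.appLE V W h₂ := by
    rintro A B a b rfl V W h₁ h₂
    rfl
  have e2 : p.app O ≫ g'.appLE (p ⁻¹ᵁ O) ⊤ hle = O.topIso.inv ≫ p'.appTop := by
    rw [← Scheme.Hom.comp_appLE, ← eι, Scheme.Hom.appTop, Scheme.Hom.app_eq_appLE,
      Scheme.Hom.appLE_comp_appLE]
    exact hcongr h _ _ _ _
  rw [e1, CommRingCat.comp_apply, hloc, ← CommRingCat.comp_apply, e2, CommRingCat.comp_apply]

/-- Injectivity, at the level of germs. -/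
theorem germ_eq_zero {Ω : Type u} [Field Ω] [IsSepClosed Ω] (ξ : Spec (CommRingCat.of Ω) ⟶ X)
    (hξ : ξ default = η) (U : X.Etale) (v : (Scheme.pointSmallEtale ξ).fiber.obj U)
    (σ : EtCoh.sect (EtCoh.Gm X) U) (hσ : (EtLim.GmPush jη).hom.app (op U) σ = 0) :
    (Scheme.pointSmallEtale ξ).toPresheafFiber U v (EtCoh.Gm X).obj σ = 0 := by
  refine germ_eq_zero_of_not_mem_sectSupp (EtCoh.Gm X) ξ U σ v fun hmem => ?_
  obtain ⟨O, hO, hO1⟩ := exists_open_one U.hom (fiberPt v) ((hom_fiberPt v).trans hξ)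
    ((EtLimit.unitOf σ : Γ(U.left, ⊤)ˣ) : Γ(U.left, ⊤))
    ((EtLimit.unitOf_map _ σ).symm.trans
      (congrArg (fun z => ((EtLimit.unitOf z : Γ(pullback U.hom jη, ⊤)ˣ) : Γ(pullback U.hom jη, ⊤))) hσ))
  exact hmem (openObj U O) (openIncl U O) ⟨⟨fiberPt v, hO⟩, rfl⟩
    (EtLimit.units_ext ((EtLimit.unitOf_map O.ι σ).trans hO1))

include hmax in
/-- Surjectivity, at the level of germs. -/
theorem exists_germ_eq {Ω : Type u} [Field Ω] [IsSepClosed Ω] (ξ : Spec (CommRingCat.of Ω) ⟶ X)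
    (hξ : ξ default = η) (U : X.Etale) (v : (Scheme.pointSmallEtale ξ).fiber.obj U)
    (t : EtCoh.sect ((EtCoh.push jη).obj (EtCoh.Gm _)) U) :
    ∃ (V : X.Etale) (g : V ⟶ U) (w : (Scheme.pointSmallEtale ξ).fiber.obj V) (σ : EtCoh.sect (EtCoh.Gm X) V),
      (Scheme.pointSmallEtale ξ).fiber.map g w = v ∧
        (EtLim.GmPush jη).hom.app (op V) σ = ((EtCoh.push jη).obj (EtCoh.Gm _)).obj.map g.op t := by
  haveI : Etale U.hom := U.prop
  haveI : LocallyQuasiFinite U.hom := AlgSpLib.locallyQuasiFinite_of_etale U.hom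
  obtain ⟨O, s, hO, hs, h⟩ := exists_open_unit hmax U.hom (fiberPt v) ((hom_fiberPt v).trans hξ)
    ((EtLimit.unitOf t : Γ(pullback U.hom jη, ⊤)ˣ) : Γ(pullback U.hom jη, ⊤)) (Units.isUnit _)
  obtain ⟨w, hw⟩ := exists_lift_point ξ U v O hO
  refine ⟨openObj U O, openIncl U O, w, EtLimit.ofUnit hs.unit, hw, EtLimit.units_ext ?_⟩
  refine (EtLimit.unitOf_map _ _).trans (Eq.symm ((EtLimit.unitOf_map _ t).trans ?_))
  exact h ((EtCoh.bc jη).map (openIncl U O)).left (pullback.fst (openObj U O).hom jη)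
    (EtCoh.isPullback_bc_map jη (openIncl U O)).w

include hmax in
/-- `G_m → j_* G_m` is bijective on stalks over `η`. -/
theorem isIso_stalk_GmPush {Ω : Type u} [Field Ω] [IsSepClosed Ω] (ξ : Spec (CommRingCat.of Ω) ⟶ X)
    (hξ : ξ default = η) : IsIso ((EtCoh.stalk ξ).map (EtLim.GmPush jη)) := by
  let Φ := Scheme.pointSmallEtale ξ
  let φ := EtLim.GmPush jη
  have hnat : ∀ (U : X.Etale) (v : Φ.fiber.obj U) (σ : EtCoh.sect (EtCoh.Gm X) U),
      (EtCoh.stalk ξ).map φ (Φ.toPresheafFiber U v (EtCoh.Gm X).obj σ) =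
        Φ.toPresheafFiber U v ((EtCoh.push jη).obj (EtCoh.Gm _)).obj (φ.hom.app (op U) σ) := fun U v σ =>
    ConcreteCategory.congr_hom (Φ.toPresheafFiber_naturality φ.hom U v) σ
  rw [ConcreteCategory.isIso_iff_bijective]
  refine ⟨(injective_iff_map_eq_zero _).2 fun a ha => ?_, fun b => ?_⟩
  · obtain ⟨U, v, σ, rfl⟩ := Φ.toPresheafFiber_jointly_surjective (P := (EtCoh.Gm X).obj) a
    obtain ⟨W, g, w, hw, hσ⟩ := (Φ.toPresheafFiber_eq_iff'
      (P := ((EtCoh.push jη).obj (EtCoh.Gm _)).obj) U v (φ.hom.app (op U) σ) 0).1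
        ((hnat U v σ).symm.trans (ha.trans (map_zero _).symm))
    rw [← hw, ← Φ.toPresheafFiber_w_apply]
    refine germ_eq_zero ξ hξ W w _ ?_
    exact (NatTrans.naturality_apply φ.hom g.op σ).trans (hσ.trans (map_zero _))
  · obtain ⟨U, v, t, rfl⟩ := Φ.toPresheafFiber_jointly_surjective
      (P := ((EtCoh.push jη).obj (EtCoh.Gm _)).obj) b
    obtain ⟨V, g, w, σ, hw, hσ⟩ := exists_germ_eq hmax ξ hξ U v t
    refine ⟨Φ.toPresheafFiber V w (EtCoh.Gm X).obj σ, (hnat V w σ).trans ?_⟩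
    rw [hσ, ← hw, ← Φ.toPresheafFiber_w_apply]

end Groth.Agent.GalEt.GmUnit
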