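import Groth.Agent.GalEt.DivCoh
import Groth.Agent.EtUnitLib.ConstUnit
import Groth.Agent.Et18.FLC

/-!
# Constant sheaves on normal noetherian schemes are pushed forward from the maximal points
-/

set_option autoImplicit false
set_option linter.all false
set_option backward.isDefEq.respectTransparency.types false
set_option backward.isDefEq.respectTransparency false
set_option backward.defeqAttrib.useBackward true
set_option synthInstance.maxHeartbeats 400000
set_option maxHeartbeats 1000000

universe u

open CategoryTheory CategoryTheory.Limits CategoryTheory.Abelian AlgebraicGeometry Opposite TopologicalSpace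
open Groth.Agent.Et18

noncomputable section

namespace Groth.Agent.GalEt

variable {X : Scheme.{u}}

/-- Torsion cohomology with uniquely divisible coefficients vanishes. -/
theorem subsingleton_of_isAddTorsion (F : EtCoh.Ab X) (hdiv : ∀ n : ℕ, 0 < n → IsIso (n • 𝟙 F)) (i : ℕ)
    (htor : IsAddTorsion (EtCoh.H X F i)) : Subsingleton (EtCoh.H X F i) := by
  refine subsingleton_of_forall_eq_zero fun x => ?_
  obtain ⟨d, hd, h0⟩ := isOfFinAddOrder_iff_nsmul_eq_zero.1 (htor x)
  haveI := hdiv d hd
  have h1 : Ext.comp x (Ext.mk₀ (d • 𝟙 F)) (add_zero i) = 0 := (comp_nsmul_id F i x d).trans h0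
  have h2 := congrArg (fun w => Ext.comp w (Ext.mk₀ (inv (d • 𝟙 F))) (add_zero i)) h1
  simp only [Ext.comp_assoc_of_second_deg_zero, Ext.mk₀_comp_mk₀, IsIso.hom_inv_id,
    Ext.zero_comp] at h2
  exact (Ext.comp_mk₀_id x).symm.trans h2

/-- Multiplication by positive integers is bijective on the constant sheaf of rationals. -/
theorem isIso_nsmul_rat (n : ℕ) (hn : 0 < n) :
    IsIso (n • 𝟙 ((cst X).obj (AddCommGrpCat.of (ULift.{u + 1} ℚ)))) := by
  rw [← CategoryTheory.Functor.map_id, ← Functor.map_nsmul]
  haveI : IsIso (n • 𝟙 (AddCommGrpCat.of (ULift.{u + 1} ℚ))) := by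
    rw [ConcreteCategory.isIso_iff_bijective]
    show Function.Bijective fun q : ULift.{u + 1} ℚ => n • q
    have hn' : (n : ℚ) ≠ 0 := by exact_mod_cast hn.ne'
    refine ⟨fun p q h => ULift.ext _ _ ?_, fun q => ⟨ULift.up (q.down / n), ULift.ext _ _ ?_⟩⟩
    · have h' : n • p.down = n • q.down := congrArg ULift.down h
      rw [nsmul_eq_mul, nsmul_eq_mul] at h'
      exact mul_left_cancel₀ hn' h'
    · show n • (q.down / n) = q.down
      rw [nsmul_eq_mul]
      field_simp
  infer_instance

namespace Div

variable [AlgebraicGeometry.IsNoetherian X]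

/-- The constant sheaves at the maximal points. -/
abbrev cPush (A : AddCommGrpCat.{u + 1}) (η : maxPoints X) : EtCoh.Ab X :=
  (EtCoh.push (X.fromSpecStalk η.1)).obj ((cst (Spec (X.presheaf.stalk η.1))).obj A)

variable [Fintype (maxPoints X)]

variable (X) in
/-- The map into the sum over the maximal points. -/
def cstPhi (A : AddCommGrpCat.{u + 1}) : (cst X).obj A ⟶ ⨁ cPush A :=
  biproduct.lift fun η => EtUnitLib.constPush (X.fromSpecStalk η.1) A

theorem comp_cstPhi (A : AddCommGrpCat.{u + 1}) (η : maxPoints X) :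
    cstPhi X A ≫ biproduct.π (cPush A) η = EtUnitLib.constPush (X.fromSpecStalk η.1) A :=
  biproduct.lift_π _ η

omit [Fintype (maxPoints X)] [AlgebraicGeometry.IsNoetherian X] in
theorem biproduct_sect_ext {ι : Type*} [Finite ι] (F : ι → EtCoh.Ab X) {U : X.Etale}
    {t t' : EtCoh.sect (⨁ F) U}
    (h : ∀ i, (biproduct.π F i).hom.app (op U) t = (biproduct.π F i).hom.app (op U) t') : t = t' := by
  classical
  letI := Fintype.ofFinite ι
  let Ev : EtCoh.Ab X ⥤ AddCommGrpCat.{u + 1} := sheafToPresheaf X.smallEtaleTopology AddCommGrpCat.{u + 1} ⋙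
    (evaluation X.Etaleᵒᵖ AddCommGrpCat.{u + 1}).obj (op U)
  haveI : Ev.Additive := { map_add := rfl }
  have htot : ∑ i, biproduct.π F i ≫ biproduct.ι F i = 𝟙 (⨁ F) := by
    refine biproduct.hom_ext' _ _ fun j => ?_
    rw [Preadditive.comp_sum, Finset.sum_eq_single j (fun b _ h => by
      rw [biproduct.ι_π_ne_assoc _ (Ne.symm h), zero_comp]) (by simp), biproduct.ι_π_self_assoc, Category.comp_id]
  have key : ∀ s : EtCoh.sect (⨁ F) U,
      s = ∑ i, (biproduct.ι F i).hom.app (op U) ((biproduct.π F i).hom.app (op U) s) := by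
    intro s
    let ev : (Ev.obj (⨁ F) ⟶ Ev.obj (⨁ F)) →+ (Ev.obj (⨁ F) : Type (u + 1)) :=
      AddMonoidHom.mk' (fun f => f s) (fun f g => rfl)
    have h1 : ev (Ev.map (∑ i, biproduct.π F i ≫ biproduct.ι F i)) = s := by
      rw [htot, Ev.map_id]
      rfl
    rw [Functor.map_sum, map_sum] at h1
    exact h1.symm.trans (Finset.sum_congr rfl fun _ _ => rfl)
  rw [key t, key t']
  exact Finset.sum_congr rfl fun i _ => congrArg _ (h i)

/-- On a normal noetherian scheme a constant sheaf is the sum of its direct images from the maximal points. -/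
theorem isIso_cstPhi (hN : ∀ x : X, IsDomain (X.presheaf.stalk x) ∧ IsIntegrallyClosed (X.presheaf.stalk x))
    (A : AddCommGrpCat.{u + 1}) : IsIso (cstPhi X A) := by
  classical
  haveI : ∀ x : X, IsDomain (O X x) := fun x => (hN x).1
  have hdom : ∀ (U : X.Etale) (u : U.left), IsDomain (O U.left u) := fun U u => by
    haveI : Etale (str U) := U.prop
    exact ((Et18.normal_stalk_iff_of_etale (str U) u).2 (hN _)).1
  have happ : ∀ V : (X.Etale)ᵒᵖ, IsIso ((cstPhi X A).hom.app V) := by
    rintro ⟨U⟩
    haveI := hdom U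
    haveI : Etale (str U) := U.prop
    haveI : IsLocallyNoetherian U.left := LocallyOfFiniteType.isLocallyNoetherian (str U)
    haveI := AlgSpLib.locallyQuasiFinite_of_etale (str U)
    have hmax : ∀ y : U.left, str U (gpt y) ∈ maxPoints X := fun y z hz => by
      obtain ⟨y', hy', hfy⟩ := Flat.generalizingMap (str U) hz
      rw [← hfy, gpt_maximal y y' hy']
    have hfib : ∀ (η : maxPoints X) (w : U.left), str U w = η.1 → w = gpt w := fun η w hw => by
      haveI := isDiscrete_iff_discreteTopology.mp ((str U).isDiscrete_preimage_singleton η.1)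
      have hg : str U (gpt w) = η.1 := by
        refine η.2 _ ?_
        rw [← hw]
        exact (gpt_specializes w).map (str U).continuous
      have h : (⟨gpt w, hg⟩ : str U ⁻¹' {η.1}) ⤳ ⟨w, hw⟩ :=
        (Topology.IsInducing.subtypeVal.specializes_iff).1 (gpt_specializes w)
      exact (congrArg Subtype.val h.eq).symm
    have hex : ∀ (η : maxPoints X) (w : U.left), str U w = η.1 →
        ∃ z : ((EtCoh.bc (X.fromSpecStalk η.1)).obj U).left, EtUnitLib.pr (X.fromSpecStalk η.1) U z = w := by
      intro η w hw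
      obtain ⟨z, hz, -⟩ := Scheme.Pullback.exists_preimage_pullback (f := str U) (g := X.fromSpecStalk η.1) w
        (IsLocalRing.closedPoint (X.presheaf.stalk η.1)) (hw.trans Scheme.fromSpecStalk_closedPoint.symm)
      exact ⟨z, hz⟩
    have hprη : ∀ (η : maxPoints X) (z : ((EtCoh.bc (X.fromSpecStalk η.1)).obj U).left),
        str U (EtUnitLib.pr (X.fromSpecStalk η.1) U z) = η.1 := by
      intro η z
      have h1 : str U (EtUnitLib.pr (X.fromSpecStalk η.1) U z) =
          X.fromSpecStalk η.1 (pullback.snd (str U) (X.fromSpecStalk η.1) z) :=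
        congrArg (fun k : pullback (str U) (X.fromSpecStalk η.1) ⟶ X => k z) pullback.condition
      have h2 : X.fromSpecStalk η.1 (pullback.snd (str U) (X.fromSpecStalk η.1) z) ∈
          Set.range (X.fromSpecStalk η.1) := Set.mem_range_self _
      rw [Scheme.range_fromSpecStalk] at h2
      exact h1.trans (η.2 _ h2)
    have hinj : ∀ η : maxPoints X, Function.Injective (EtUnitLib.pr (X.fromSpecStalk η.1) U) := fun η => by
      haveI : IsPreimmersion (EtUnitLib.pr (X.fromSpecStalk η.1) U) :=
        MorphismProperty.pullback_fst (P := @IsPreimmersion) (str U) (X.fromSpecStalk η.1) inferInstance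
      exact (EtUnitLib.pr (X.fromSpecStalk η.1) U).isEmbedding.injective
    have hval : ∀ (η : maxPoints X) (s : EtCoh.sect ((cst X).obj A) U)
        (z : ((EtCoh.bc (X.fromSpecStalk η.1)).obj U).left),
        EtUnitLib.val (U := (EtCoh.bc (X.fromSpecStalk η.1)).obj U)
          ((biproduct.π (cPush A) η).hom.app (op U) ((cstPhi X A).hom.app (op U) s)) z =
          EtUnitLib.val s (EtUnitLib.pr (X.fromSpecStalk η.1) U z) := fun η s z => by
      refine (congrArg (fun k : (cst X).obj A ⟶ cPush A η => EtUnitLib.val (U := (EtCoh.bc (X.fromSpecStalk η.1)).obj U)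
        (k.hom.app (op U) s) z) (comp_cstPhi A η)).trans ?_
      exact EtUnitLib.val_constPush (X.fromSpecStalk η.1) U s z
    rw [ConcreteCategory.isIso_iff_bijective]
    refine ⟨fun s t h => EtUnitLib.ext_val fun y => ?_, fun σ => ?_⟩
    · have hcst : ∀ r : EtCoh.sect ((cst X).obj A) U, EtUnitLib.val r y = EtUnitLib.val r (gpt y) := fun r =>
        (show EtUnitLib.val r (gpt y) = EtUnitLib.val r y from
          (gpt_specializes y).mem_open ((EtUnitLib.isLocallyConstant_val r).isOpen_fiber (EtUnitLib.val r y)) rfl).symm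
      let η : maxPoints X := ⟨str U (gpt y), hmax y⟩
      obtain ⟨z, hz⟩ := hex η (gpt y) rfl
      rw [hcst s, hcst t, ← hz, ← hval η s z, ← hval η t z, h]
    · let g : U.left → A := fun w => if hw : str U w ∈ maxPoints X then
        EtUnitLib.val (U := (EtCoh.bc (X.fromSpecStalk (⟨_, hw⟩ : maxPoints X).1)).obj U)
          ((biproduct.π (cPush A) ⟨str U w, hw⟩).hom.app (op U) σ) (hex ⟨str U w, hw⟩ w rfl).choose else 0
      have hlc : IsLocallyConstant fun y => g (gpt y) := by
        refine (IsLocallyConstant.iff_exists_open _).2 fun y => ?_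
        obtain ⟨W, V, hyW, -, -, -, hgood⟩ := exists_good y ⊤ trivial
        exact ⟨W, W.2, hyW, fun y' hy' => by rw [hgood y' hy']⟩
      obtain ⟨s, hs⟩ := EtUnitLib.exists_val_eq (U := U) hlc
      refine ⟨s, biproduct_sect_ext _ fun η => EtUnitLib.ext_val (U := (EtCoh.bc (X.fromSpecStalk η.1)).obj U) fun z => ?_⟩
      rw [hval η s z, hs, ← hfib η _ (hprη η z)]
      set w := EtUnitLib.pr (X.fromSpecStalk η.1) U z with hwdef
      have hw : str U w ∈ maxPoints X := (hprη η z).symm ▸ η.2
      rw [show g w = _ from dif_pos hw]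
      have hη : η = ⟨str U w, hw⟩ := Subtype.ext (hprη η z).symm
      clear_value w
      subst hη
      have hzz : (hex ⟨str U w, hw⟩ w rfl).choose = z :=
        hinj _ ((hex ⟨str U w, hw⟩ w rfl).choose_spec.trans hwdef)
      rw [hzz]
  have : IsIso ((sheafToPresheaf _ _).map (cstPhi X A)) := by
    have h' : ∀ V : (X.Etale)ᵒᵖ, IsIso (((sheafToPresheaf _ _).map (cstPhi X A)).app V) := happ
    exact NatIso.isIso_of_isIso_app _
  exact isIso_of_reflects_iso _ (sheafToPresheaf _ _)

/-- Rational coefficients are acyclic on normal noetherian schemes. -/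
theorem subsingleton_H_rat (hN : ∀ x : X, IsDomain (X.presheaf.stalk x) ∧ IsIntegrallyClosed (X.presheaf.stalk x))
    (i : ℕ) (hi : 0 < i) :
    Subsingleton (EtCoh.H X ((cst X).obj (AddCommGrpCat.of (ULift.{u + 1} ℚ))) i) := by
  refine subsingleton_of_isAddTorsion _ (fun n hn => isIso_nsmul_rat n hn) i ?_
  obtain ⟨j, rfl⟩ : ∃ j, i = j + 1 := ⟨i - 1, by omega⟩
  haveI : ∀ x : X, IsDomain (O X x) := fun x => (hN x).1
  let A := AddCommGrpCat.of (ULift.{u + 1} ℚ)
  haveI := isIso_cstPhi hN A
  have hP : IsAddTorsion (EtCoh.H X (⨁ cPush A : EtCoh.Ab X) (j + 1)) :=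
    isAddTorsion_H_biproduct (cPush A) (j + 1) fun η =>
      isAddTorsion_H_push_isField _ (isField_stalk (U := X) η.2) (X.fromSpecStalk η.1) j _
  exact isAddTorsion_of_addEquiv ((EtCoh.HF X (j + 1)).mapIso (asIso (cstPhi X A))).symm.addCommGroupIsoToAddEquiv hP

end Div

end Groth.Agent.GalEt
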