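import Groth.Agent.GalEt.CdArtin
import Groth.Agent.GalEt.NormalQ
import Groth.Agent.Et18.ClosedPointSupport

/-!
# Cohomology of schemes of dimension one through their maximal points
-/

set_option autoImplicit false
set_option linter.all false
set_option backward.isDefEq.respectTransparency.types false
set_option backward.isDefEq.respectTransparency false
set_option backward.defeqAttrib.useBackward true
set_option synthInstance.maxHeartbeats 400000
set_option maxHeartbeats 1000000

universe u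

open CategoryTheory CategoryTheory.Limits CategoryTheory.Abelian AlgebraicGeometry Opposite
open Groth.Agent.Et18

noncomputable section

namespace Groth.Agent.GalEt

variable {X : Scheme.{u}}

/-- If multiplication by `N` is surjective and its kernel has no cohomology in degree `q`, then `H^q` has no `N`-torsion. -/
theorem eq_zero_of_kummer (F : EtCoh.Ab X) (N : ℕ) [Epi (N • 𝟙 F)] (q : ℕ)
    (h : Subsingleton (EtCoh.H X (kernel (N • 𝟙 F)) q)) (z : EtCoh.H X F q) (hz : N • z = 0) : z = 0 := by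
  let S := ShortComplex.mk (kernel.ι (N • 𝟙 F)) (N • 𝟙 F) (kernel.condition _)
  have hS : S.ShortExact :=
    { exact := ShortComplex.exact_of_f_is_kernel _ (kernelIsKernel _)
      mono_f := inferInstanceAs (Mono (kernel.ι (N • 𝟙 F)))
      epi_g := inferInstanceAs (Epi (N • 𝟙 F)) }
  obtain ⟨v, hv⟩ := Ext.covariant_sequence_exact₂ _ hS z ((comp_nsmul_id F q z N).trans hz)
  rw [← hv, @Subsingleton.elim _ h v 0, Ext.zero_comp]

theorem killed_kernel (F : EtCoh.Ab X) (N : ℕ) : N • 𝟙 (kernel (N • 𝟙 F)) = 0 := by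
  rw [← cancel_mono (kernel.ι (N • 𝟙 F)), Preadditive.nsmul_comp, Category.id_comp, zero_comp]
  calc N • kernel.ι (N • 𝟙 F) = kernel.ι (N • 𝟙 F) ≫ (N • 𝟙 F) := by
        rw [Preadditive.comp_nsmul, Category.comp_id]
    _ = 0 := kernel.condition _

theorem isUnit_natCast_global {n : ℕ} (hinv : Dix.InvertibleOn X n) : IsUnit (n : Γ(X, ⊤)) := by
  refine X.toRingedSpace.isUnit_of_isUnit_germ ⊤ _ fun x hx => ?_
  rw [map_natCast]
  haveI : IsLocalHom (X.residue x).hom := inferInstanceAs (IsLocalHom (IsLocalRing.residue (X.presheaf.stalk x)))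
  refine (isUnit_map_iff (X.residue x).hom _).1 ?_
  rw [map_natCast]
  exact (hinv x).isUnit

variable [AlgebraicGeometry.IsNoetherian X] [Fintype (maxPoints X)]

/-- The units at the maximal points. -/
abbrev unitPhi (F : EtCoh.Ab X) :
    F ⟶ ⨁ fun η : maxPoints X => (EtCoh.push (X.fromSpecStalk η.1)).obj ((EtCoh.pull (X.fromSpecStalk η.1)).obj F) :=
  biproduct.lift fun η => (EtCoh.pullPushAdj (X.fromSpecStalk η.1)).unit.app F

theorem isIso_stalk_unitPhi (F : EtCoh.Ab X) (η : maxPoints X) :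
    IsIso ((EtCoh.stalk (sepPoint X η.1)).map (unitPhi F)) := by
  let P := fun η : maxPoints X => (EtCoh.push (X.fromSpecStalk η.1)).obj ((EtCoh.pull (X.fromSpecStalk η.1)).obj F)
  haveI := isIso_stalk_π (F := P) (fun η η' h => isZero_stalk_push_maxPoint h _) η
  haveI : IsIso ((EtCoh.stalk (sepPoint X η.1)).map (unitPhi F) ≫
      (EtCoh.stalk (sepPoint X η.1)).map (biproduct.π P η)) := by
    rw [← Functor.map_comp, biproduct.lift_π]
    exact isIso_stalk_unit η F
  exact IsIso.of_isIso_comp_right _ ((EtCoh.stalk (sepPoint X η.1)).map (biproduct.π P η))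

/-- Sheaves killed by `n` have no cohomology above degree two. -/
theorem cdKilled_dim_one (hdim : topologicalKrullDim X ≤ 1)
    (hsep : ∀ x : X, IsClosed ({x} : Set X) → IsSepClosed (X.residueField x)) {n : ℕ}
    (hcd : ∀ η : maxPoints X, CdKilled (Spec (X.residueField η.1)) n 1) : CdKilled X n 2 := fun F hF q hq => by
  obtain ⟨p, rfl⟩ : ∃ p, q = p + 1 + 2 := ⟨q - 3, by omega⟩
  refine subsingleton_of_forall_eq_zero fun z => ?_
  refine injective_H_of_isIso_maxPoints hdim hsep (unitPhi F) (isIso_stalk_unitPhi F) (p + 1) z ?_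
  refine eq_zero_of_biproduct _ (p + 1 + 2) _ fun η => ?_
  exact @Subsingleton.elim _ (subsingleton_H_push_killed hdim hsep η (hcd η) _
    (map_killed (EtCoh.pull _) hF) (p + 1 + 2) (by omega)) _ _

/-- `G_m` has no `N`-torsion in cohomology in degree at least two. -/
theorem eq_zero_Gm_dim_one [∀ x : X, PreservesFiniteLimits (EtCoh.pull (X.fromSpecStalk x))]
    (hdim : topologicalKrullDim X ≤ 1)
    (hsep : ∀ x : X, IsClosed ({x} : Set X) → IsSepClosed (X.residueField x)) {N : ℕ} (hN : IsUnit (N : Γ(X, ⊤)))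
    (hcd : ∀ η : maxPoints X, CdKilled (Spec (X.residueField η.1)) N 1)
    (q : ℕ) (hq : 2 ≤ q) (z : EtCoh.H X (EtCoh.Gm X) q) (hz : N • z = 0) : z = 0 := by
  rcases (show q = 2 ∨ 3 ≤ q by omega) with rfl | h3
  · refine eq_zero_of_components hdim hsep 0 z fun η => ?_
    haveI := subsingleton_spec_stalk η.2
    let j : Spec (X.presheaf.stalk η.1) ⟶ X := X.fromSpecStalk η.1
    refine injective_H_two_point j (Eq.trans ?_ (map_zero (EtLim.HofPush j (EtCoh.Gm (Spec (X.presheaf.stalk η.1))) 2)).symm)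
    show EtLim.HGmPull j 2 z = 0
    have hN' : IsUnit (N : Γ(Spec (X.presheaf.stalk η.1), ⊤)) := by
      rw [← map_natCast j.appTop.hom N]
      exact hN.map _
    haveI : Epi (N • 𝟙 (EtCoh.Gm (Spec (X.presheaf.stalk η.1)))) := HenselLib.Kummer.epi_powMap N hN'
    refine eq_zero_of_kummer _ N 2 (cdKilled_stalk η (hcd η) _ (killed_kernel _ N) 2 (by omega)) _ ?_
    rw [← map_nsmul, hz, map_zero]
  · haveI : Epi (N • 𝟙 (EtCoh.Gm X)) := HenselLib.Kummer.epi_powMap N hN
    exact eq_zero_of_kummer _ N q (cdKilled_dim_one hdim hsep hcd _ (killed_kernel _ N) q (by omega)) z hz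

/-- Uniquely divisible sheaves on an integral curve have no cohomology above degree one. -/
theorem subsingleton_H_uniquelyDivisible [IsReduced X] (hdim : topologicalKrullDim X ≤ 1)
    (hsep : ∀ x : X, IsClosed ({x} : Set X) → IsSepClosed (X.residueField x))
    (F : EtCoh.Ab X) (hdiv : ∀ n : ℕ, 0 < n → IsIso (n • 𝟙 F)) (i : ℕ) (hi : 2 ≤ i) :
    Subsingleton (EtCoh.H X F i) := by
  obtain ⟨p, rfl⟩ : ∃ p, i = p + 2 := ⟨i - 2, by omega⟩
  refine subsingleton_of_isAddTorsion F hdiv _ fun z => ?_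
  have htor := isAddTorsion_H_biproduct (fun η : maxPoints X => (EtCoh.push (X.fromSpecStalk η.1)).obj
    ((EtCoh.pull (X.fromSpecStalk η.1)).obj F)) (p + 2) fun η =>
      isAddTorsion_H_push_isField _ (isField_stalk_maxPoint η.2) (X.fromSpecStalk η.1) (p + 1) _
  obtain ⟨m, hm, h0⟩ := isOfFinAddOrder_iff_nsmul_eq_zero.1 (htor (Ext.comp z (Ext.mk₀ (unitPhi F)) (add_zero _)))
  refine isOfFinAddOrder_iff_nsmul_eq_zero.2 ⟨m, hm, ?_⟩
  refine injective_H_of_isIso_maxPoints hdim hsep (unitPhi F) (isIso_stalk_unitPhi F) p _ ?_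
  let T : EtCoh.H X F (p + 2) →+ EtCoh.H X _ (p + 2) :=
    AddMonoidHom.mk' (fun x => Ext.comp x (Ext.mk₀ (unitPhi F)) (add_zero (p + 2))) (fun x y => Ext.add_comp _ _ _ _)
  exact (map_nsmul T m z).trans h0

end Groth.Agent.GalEt
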