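import Groth.Agent.GalEt.GmGeneric
import Groth.Agent.GalEt.GmUnit
import Groth.Agent.VarietyLib.DivisorGlue

/-!
# `H^q(X, G_m) = 0` for `q ≥ 2` on a curve
-/

set_option autoImplicit false
set_option linter.all false
set_option backward.isDefEq.respectTransparency.types false
set_option backward.isDefEq.respectTransparency false
set_option backward.defeqAttrib.useBackward true
set_option synthInstance.maxHeartbeats 400000
set_option maxHeartbeats 1000000

universe u

open CategoryTheory CategoryTheory.Limits CategoryTheory.Abelian AlgebraicGeometry Opposite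
open Groth.Agent.Et18

namespace Groth.Agent.GalEt

/-- On a curve over an algebraically closed field `G_m` has no cohomology from degree two on. -/
theorem subsingleton_H_Gm_curve {k : Type u} [Field k] [IsAlgClosed k] {X : Scheme.{u}}
    (f : X ⟶ Spec (CommRingCat.of k)) [IsSeparated f] [LocallyOfFiniteType f] [QuasiCompact f] [IsIntegral X]
    (hdim : topologicalKrullDim X = 1) [EtCoh.BCCont (X.fromSpecStalk (genericPoint X))] (q : ℕ) (hq : 2 ≤ q) :
    Subsingleton (EtCoh.H X (EtCoh.Gm X) q) := by
  haveI : IsSepClosed k := inferInstance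
  let η := genericPoint X
  let φ := EtLim.GmPush (X.fromSpecStalk η)
  have hmax : ∀ y : X, y ⤳ η → y = η := fun y hy =>
    (Specializes.antisymm hy (genericPoint_specializes y)).eq
  have hclosed : ∀ y : X, y ≠ η → IsClosed ({y} : Set X) := fun y hy =>
    VarietyLib.isClosed_of_specializes_ne hdim.le (genericPoint_specializes y) (Ne.symm hy)
  let ξ := sepPoint X η
  haveI : IsIso ((EtCoh.stalk ξ).map φ) :=
    GmUnit.isIso_stalk_GmPush hmax ξ (sepPoint_default X η)
  have hfac : (EtCoh.stalk ξ).map (Abelian.factorThruImage φ) ≫ (EtCoh.stalk ξ).map (Abelian.image.ι φ) =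
      (EtCoh.stalk ξ).map φ := by rw [← Functor.map_comp, Abelian.image.fac]
  haveI : Mono ((EtCoh.stalk ξ).map (Abelian.factorThruImage φ)) := mono_of_mono_fac hfac
  haveI : Epi ((EtCoh.stalk ξ).map (Abelian.image.ι φ)) := epi_of_epi_fac hfac
  have hker : Subsingleton (EtCoh.H X (kernel (Abelian.factorThruImage φ)) q) := by
    refine ClosedPointSupport.subsingleton_H f _ (fun y hy => hclosed y ?_) q (by omega)
    rintro rfl
    exact (mem_supp_iff _ ξ (sepPoint_default X η)).1 hy
      (IsZero.of_iso (isZero_kernel_of_mono _) (PreservesKernel.iso _ (Abelian.factorThruImage φ)))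
  obtain ⟨p, rfl⟩ : ∃ p, q = p + 1 := ⟨q - 1, by omega⟩
  have hcok : Subsingleton (EtCoh.H X (cokernel (Abelian.image.ι φ)) p) := by
    refine ClosedPointSupport.subsingleton_H f _ (fun y hy => hclosed y ?_) p (by omega)
    rintro rfl
    exact (mem_supp_iff _ ξ (sepPoint_default X η)).1 hy
      (IsZero.of_iso (isZero_cokernel_of_epi _) (PreservesCokernel.iso _ (Abelian.image.ι φ)))
  have hpush := subsingleton_H_push_Gm_generic f hdim (p + 1) (by omega)
  let S₂ := ShortComplex.mk (Abelian.image.ι φ) (cokernel.π _) (cokernel.condition _)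
  have hS₂ : S₂.ShortExact :=
    { exact := ShortComplex.exact_cokernel _
      mono_f := inferInstanceAs (Mono (Abelian.image.ι φ))
      epi_g := inferInstanceAs (Epi (cokernel.π _)) }
  have him : Subsingleton (EtCoh.H X (Abelian.image φ) (p + 1)) := by
    refine subsingleton_of_forall_eq 0 fun z => ?_
    obtain ⟨y, hy⟩ := Ext.covariant_sequence_exact₁ _ hS₂ z (@Subsingleton.elim _ hpush _ _) rfl
    rw [← hy, show y = 0 from @Subsingleton.elim _ hcok _ _, Ext.zero_comp]
  let S₁ := ShortComplex.mk (kernel.ι (Abelian.factorThruImage φ)) (Abelian.factorThruImage φ) (kernel.condition _)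
  have hS₁ : S₁.ShortExact :=
    { exact := ShortComplex.exact_kernel _
      mono_f := inferInstanceAs (Mono (kernel.ι (Abelian.factorThruImage φ)))
      epi_g := inferInstanceAs (Epi (Abelian.factorThruImage φ)) }
  exact CdField.subsingleton_of_shortExact hS₁ hker him

end Groth.Agent.GalEt
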