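import Groth.Agent.GalEt.DimOne
import Groth.Agent.S0236
import Groth.Agent.PicLib.FiniteSetTriv

/-!
# Units at points with values in an artinian local ring
-/

set_option autoImplicit false
set_option linter.all false
set_option backward.isDefEq.respectTransparency.types false
set_option backward.isDefEq.respectTransparency false
set_option backward.defeqAttrib.useBackward true
set_option synthInstance.maxHeartbeats 400000
set_option maxHeartbeats 1000000

universe u

open CategoryTheory CategoryTheory.Limits CategoryTheory.Abelian AlgebraicGeometry Opposite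
open Groth.Agent.Et18

noncomputable section

namespace Groth.Agent.GalEt

/-- Finite affine schemes have trivial `H¹(G_m)`. -/
theorem subsingleton_H_one_Gm_finite (W : Scheme.{u}) [IsAffine W] [Finite W] :
    Subsingleton (EtCoh.H W (EtCoh.Gm W) 1) := by
  refine (Groth.Agent.S0236.result W).2 fun L hL => ?_
  obtain ⟨U, hU, -, -, ⟨e⟩⟩ := PicLib.exists_triv_of_finite hL (isAffineOpen_top W) Set.univ Set.finite_univ
    (fun _ _ => trivial)
  obtain rfl : U = ⊤ := top_le_iff.1 fun x _ => hU (Set.mem_univ x)
  let t := (Scheme.topIso W).inv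
  refine ⟨(Scheme.Modules.restrictFunctorId.app L).symm ≪≫
    (Scheme.Modules.restrictFunctorCongr (show 𝟙 W = t ≫ (⊤ : W.Opens).ι from (Scheme.topIso W).inv_hom_id.symm)).app L ≪≫
    (Scheme.Modules.restrictFunctorComp t (⊤ : W.Opens).ι).app L ≪≫
    (Scheme.Modules.restrictFunctor t).mapIso e ≪≫ Scheme.Modules.restrictUnitIso t⟩

variable {X : Scheme.{u}} [CompactSpace X] [QuasiSeparatedSpace X] {A : CommRingCat.{u}} [IsNoetherianRing A]
  [Subsingleton (Spec A)] (i : Spec A ⟶ X)

/-- `R¹ i_* G_m = 0` for a point with values in an artinian local ring. -/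
theorem isZero_Rpush_point_Gm : IsZero ((EtCoh.Rpush i 1).obj (EtCoh.Gm (Spec A))) := by
  refine isZero_Rpush_succ _ _ 0 fun V hV => ?_
  let W := (EtCoh.bc i).obj V
  haveI : EtShriek.JCont (Et18.LocCoh.str W) := jCont _
  refine @Equiv.subsingleton _ _
    ((EtCoh.HF W.left 1).mapIso (restrAlongGmIso (Et18.LocCoh.str W))).addCommGroupIsoToAddEquiv.toEquiv ?_
  let w : W.left ⟶ Spec A := Et18.LocCoh.str W
  haveI : QuasiCompact w := by
    haveI : IsAffine ((𝟭 Scheme.{u}).obj V.left) := hV
    haveI : CompactSpace ((𝟭 Scheme.{u}).obj V.left) := inferInstance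
    haveI : QuasiCompact V.hom := by
      haveI : QuasiCompact (V.hom ≫ terminal.from X) := inferInstance
      haveI : QuasiSeparated (terminal.from X) := inferInstance
      exact QuasiCompact.of_comp V.hom (terminal.from X)
    exact MorphismProperty.pullback_snd (P := @QuasiCompact) V.hom i inferInstance
  haveI : IsArtinianRing A := by
    refine isArtinianRing_iff_krullDimLE_zero.2 ?_
    rw [Ring.krullDimLE_zero_iff]
    intro I hI
    obtain ⟨M, hM, hle⟩ := Ideal.exists_le_maximal I hI.ne_top
    have := @Subsingleton.elim (Spec A) _ ⟨I, hI⟩ ⟨M, hM.isPrime⟩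
    have e : I = M := congrArg PrimeSpectrum.asIdeal this
    exact e ▸ hM
  haveI : Etale w := inferInstanceAs (Etale (Et18.LocCoh.str W))
  haveI := AlgSpLib.locallyQuasiFinite_of_etale w
  haveI : IsFinite w := IsFinite.of_locallyQuasiFinite w
  haveI : IsAffine W.left := isAffine_of_isAffineHom w
  haveI : DiscreteTopology W.left := by
    refine discreteTopology_iff_isOpen_singleton.2 fun z => ?_
    have h := w.isDiscrete_preimage_singleton (w z)
    have e : w ⁻¹' {w z} = Set.univ := Set.eq_univ_of_forall fun v => Subsingleton.elim _ _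
    rw [e] at h
    have := isDiscrete_univ_iff.1 h
    exact isOpen_discrete _
  haveI : Finite W.left := finite_of_compact_of_discrete
  exact subsingleton_H_one_Gm_finite W.left

theorem injective_H_two_point [PreservesFiniteLimits (EtCoh.pull i)] :
    Function.Injective (EtLim.HofPush i (EtCoh.Gm (Spec A)) 2) := by
  refine injective_HofPush _ _ 2 (injective_adjExtHom_two (EtCoh.pullPushAdj _) _ _ ?_)
  exact SpecSeq.epi_map_of_isZero_rightDerived_one (SiteCoh.injEmbed_shortExact _) (isZero_Rpush_point_Gm i)

end Groth.Agent.GalEt
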