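import Groth.Agent.GalEt.Basic2
import Groth.Agent.HenselLib.KummerSheaf
import Groth.Prelude.Def_Dix

/-!
# Primary torsion of cohomology and `cd`
-/

set_option autoImplicit false
set_option linter.all false
set_option backward.isDefEq.respectTransparency.types false
set_option backward.isDefEq.respectTransparency false
set_option backward.defeqAttrib.useBackward true
set_option synthInstance.maxHeartbeats 400000
set_option maxHeartbeats 1000000

universe u

open CategoryTheory CategoryTheory.Limits CategoryTheory.Abelian AlgebraicGeometry Opposite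
open Groth.Agent.Et18 Groth.Agent.Et18.CdField

noncomputable section

namespace Groth.Agent.GalEt

variable {X : Scheme.{u}}

theorem isPrimaryTorsion_of_nsmul_id {ℓ : ℕ} (F : EtCoh.Ab X) (m : ℕ) (h : ℓ ^ m • 𝟙 F = 0) :
    Dix.IsPrimaryTorsion ℓ F := by
  intro U s x
  refine ⟨U, 𝟙 U, ⟨x, rfl⟩, m, ?_⟩
  have h1 : ∀ n : ℕ, (n • 𝟙 F).hom.app (op U) (F.obj.map (𝟙 U).op s) = n • F.obj.map (𝟙 U).op s := by
    intro n
    induction n with
    | zero => rw [zero_nsmul, zero_nsmul]; rfl
    | succ n ih =>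
      rw [succ_nsmul, succ_nsmul, ← ih]
      rfl
  rw [← h1, h]
  rfl

theorem eq_zero_of_cdLEAt {p n : ℕ} (hp : p.Prime)
    (hcd : Dix.CohDimLEAt X p n)
    (F : EtCoh.Ab X) (q : ℕ) (hq : n + 1 < q ∨ (n < q ∧ ∀ m : ℕ, Epi ((p ^ m) • 𝟙 F))) (x : EtCoh.H X F q) (hx : ∃ m : ℕ, p ^ m • x = 0) :
    x = 0 := by
  obtain ⟨m, hm⟩ := hx
  let N := p ^ m
  let μ : F ⟶ F := N • 𝟙 F
  let a : kernel μ ⟶ F := kernel.ι μ
  let e : F ⟶ Abelian.image μ := Abelian.factorThruImage μ
  let b : Abelian.image μ ⟶ F := Abelian.image.ι μ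
  let S₁ := ShortComplex.mk a e (by
    rw [← cancel_mono b, Category.assoc, Abelian.image.fac, zero_comp]; exact kernel.condition μ)
  let S₂ := ShortComplex.mk b (cokernel.π μ) (kernel.condition _)
  have hS₁ : S₁.ShortExact :=
    { exact := by
        refine ShortComplex.exact_of_f_is_kernel _ (KernelFork.IsLimit.ofι' a S₁.zero fun {W} t ht =>
          ⟨kernel.lift μ t ?_, kernel.lift_ι _ _ _⟩)
        have ht' : t ≫ e = 0 := ht
        rw [← Abelian.image.fac μ, ← Category.assoc, ht', zero_comp]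
      mono_f := inferInstanceAs (Mono (kernel.ι μ))
      epi_g := inferInstanceAs (Epi (Abelian.factorThruImage μ)) }
  have hS₂ : S₂.ShortExact :=
    { exact := ShortComplex.exact_of_f_is_kernel _ (kernelIsKernel _)
      mono_f := inferInstanceAs (Mono (Abelian.image.ι μ))
      epi_g := inferInstanceAs (Epi (cokernel.π μ)) }
  have hQ : N • 𝟙 (cokernel μ) = 0 := by
    rw [← cancel_epi (cokernel.π μ), Preadditive.comp_nsmul, Category.comp_id, comp_zero]
    have : N • cokernel.π μ = μ ≫ cokernel.π μ := by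
      show N • cokernel.π μ = (N • 𝟙 F) ≫ cokernel.π μ
      rw [Preadditive.nsmul_comp, Category.id_comp]
    rw [this, cokernel.condition]
  have hK : N • 𝟙 (kernel μ) = 0 := by
    rw [← cancel_mono a, Preadditive.nsmul_comp, Category.id_comp, zero_comp]
    have : N • a = a ≫ μ := by
      show N • a = a ≫ (N • 𝟙 F)
      rw [Preadditive.comp_nsmul, Category.comp_id]
    rw [this]
    exact kernel.condition μ
  have hN : 0 < N := pow_pos hp.pos m
  let y := Ext.comp x (Ext.mk₀ e) (add_zero q)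
  have hy : Ext.comp y (Ext.mk₀ b) (add_zero q) = 0 := by
    rw [Ext.comp_assoc_of_second_deg_zero, Ext.mk₀_comp_mk₀, Abelian.image.fac]
    exact (comp_nsmul_id F q x N).trans hm
  obtain ⟨q', rfl⟩ : ∃ q', q = q' + 1 := ⟨q - 1, by omega⟩
  obtain ⟨z, hz⟩ := Ext.covariant_sequence_exact₁ _ hS₂ y hy (n₀ := q') rfl
  have hz0 : (z : EtCoh.H X (cokernel μ) q') = 0 := by
    rcases hq with hq | ⟨-, he⟩
    · exact @Subsingleton.elim _ (hcd _ (isPrimaryTorsion_of_nsmul_id _ m hQ) q' (by omega)) _ _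
    · haveI : Epi μ := he m
      exact @Subsingleton.elim _ (Sheaf.subsingleton_H_of_isZero (isZero_cokernel_of_epi μ) q') _ _
  have hy0 : Ext.comp x (Ext.mk₀ S₁.g) (add_zero _) = 0 := by
    show y = 0
    rw [← hz, show z = 0 from hz0, Ext.zero_comp]
  obtain ⟨w, hw⟩ := Ext.covariant_sequence_exact₂ _ hS₁ x hy0
  have hw0 : (w : EtCoh.H X (kernel μ) (q' + 1)) = 0 :=
    @Subsingleton.elim _ (hcd _ (isPrimaryTorsion_of_nsmul_id _ m hK) _ (by omega)) _ _
  rw [← hw, show w = 0 from hw0, Ext.zero_comp]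


end Groth.Agent.GalEt
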