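import Groth.Agent.GalEt.MaxLift
import Groth.Agent.GalEt.ArtinPoint
import Groth.Agent.GalEt.CdPrimary
import Groth.Agent.Et18.IntegralPush

/-!
# Direct images from maximal points of sheaves killed by an integer
-/

set_option autoImplicit false
set_option linter.all false
set_option backward.isDefEq.respectTransparency.types false
set_option backward.isDefEq.respectTransparency false
set_option backward.defeqAttrib.useBackward true
set_option synthInstance.maxHeartbeats 400000
set_option maxHeartbeats 1000000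

universe u

open CategoryTheory CategoryTheory.Limits CategoryTheory.Abelian AlgebraicGeometry Opposite
open Groth.Agent.Et18

noncomputable section

namespace Groth.Agent.GalEt

variable {X X' : Scheme.{u}}

/-- Cohomology of sheaves killed by `n` vanishes above the degree `d`. -/
def CdKilled (X : Scheme.{u}) (n d : ℕ) : Prop :=
  ∀ F : EtCoh.Ab X, n • 𝟙 F = 0 → ∀ q, d < q → Subsingleton (EtCoh.H X F q)

theorem map_killed {C D : Type*} [Category C] [Category D] [Preadditive C] [Preadditive D] (T : C ⥤ D) [T.Additive]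
    {n : ℕ} {F : C} (h : n • 𝟙 F = 0) : n • 𝟙 (T.obj F) = 0 := by
  rw [← T.map_id, ← T.map_nsmul, h, T.map_zero]

theorem killed_of_mono {C : Type*} [Category C] [Preadditive C] {n : ℕ} {F G : C} (a : F ⟶ G) [Mono a]
    (h : n • 𝟙 G = 0) : n • 𝟙 F = 0 := by
  rw [← cancel_mono a, Preadditive.nsmul_comp, Category.id_comp, zero_comp]
  calc n • a = a ≫ (n • 𝟙 G) := by rw [Preadditive.comp_nsmul, Category.comp_id]
    _ = 0 := by rw [h, comp_zero]

theorem killed_of_iso {C : Type*} [Category C] [Preadditive C] {n : ℕ} {F G : C} (a : F ≅ G)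
    (h : n • 𝟙 G = 0) : n • 𝟙 F = 0 := killed_of_mono a.hom h

theorem cdKilled_of_cdLEAt {d : ℕ} : ∀ (n : ℕ), 0 < n →
    (∀ ℓ : ℕ, ℓ.Prime → ℓ ∣ n → Dix.CohDimLEAt X ℓ d) → CdKilled X n d := by
  intro n
  induction n using Nat.strong_induction_on with
  | _ n ih =>
    intro hn hcd F hF q hq
    rcases Nat.lt_or_ge n 2 with h1 | h2
    · obtain rfl : n = 1 := by omega
      rw [one_nsmul] at hF
      exact Sheaf.subsingleton_H_of_isZero ((IsZero.iff_id_eq_zero F).2 hF) q
    · obtain ⟨ℓ, hℓ, m, rfl⟩ := Nat.exists_prime_and_dvd (show n ≠ 1 by omega)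
      have hm : 0 < m := Nat.pos_of_mul_pos_left hn
      let μ : F ⟶ F := ℓ • 𝟙 F
      let S := ShortComplex.mk (kernel.ι μ) (Abelian.factorThruImage μ) (by
        rw [← cancel_mono (Abelian.image.ι μ), Category.assoc, Abelian.image.fac, zero_comp]
        exact kernel.condition μ)
      have hS : S.ShortExact :=
        { exact := by
            refine ShortComplex.exact_of_f_is_kernel _ (KernelFork.IsLimit.ofι' (kernel.ι μ) S.zero fun {W} t ht =>
              ⟨kernel.lift μ t ?_, kernel.lift_ι _ _ _⟩)
            have ht' : t ≫ Abelian.factorThruImage μ = 0 := ht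
            rw [← Abelian.image.fac μ, ← Category.assoc, ht', zero_comp]
          mono_f := inferInstanceAs (Mono (kernel.ι μ))
          epi_g := inferInstanceAs (Epi (Abelian.factorThruImage μ)) }
      have hK : ℓ • 𝟙 (kernel μ) = 0 := by
        rw [← cancel_mono (kernel.ι μ), Preadditive.nsmul_comp, Category.id_comp, zero_comp]
        calc ℓ • kernel.ι μ = kernel.ι μ ≫ μ := by
              show _ = _ ≫ (ℓ • 𝟙 F)
              rw [Preadditive.comp_nsmul, Category.comp_id]
          _ = 0 := kernel.condition μ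
      have hI : m • 𝟙 (Abelian.image μ) = 0 := by
        rw [← cancel_epi (Abelian.factorThruImage μ), ← cancel_mono (Abelian.image.ι μ), Preadditive.comp_nsmul,
          Category.comp_id, comp_zero, zero_comp, Preadditive.nsmul_comp, Abelian.image.fac]
        show m • (ℓ • 𝟙 F) = 0
        rw [smul_smul, mul_comm, hF]
      exact CdField.subsingleton_of_shortExact hS
        (hcd ℓ hℓ (dvd_mul_right ℓ m) _ (isPrimaryTorsion_of_nsmul_id _ 1 (by rw [pow_one]; exact hK)) q hq)
        (ih m (lt_mul_of_one_lt_left hm hℓ.one_lt) hm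
          (fun p hp hd => hcd p hp (hd.trans (dvd_mul_left m ℓ))) _ hI q hq)

theorem CdKilled.of_finite {n d : ℕ} (π : X' ⟶ X) [IsIntegralHom π] (h : CdKilled X n d) : CdKilled X' n d :=
  fun G hG q hq => by
    haveI : (EtCoh.push π).Additive := inferInstance
    exact (CdField.subsingleton_H_push_iff π G q).1 (h _ (map_killed (EtCoh.push π) hG) q hq)

theorem CdKilled.of_universalHomeomorph {n d : ℕ} (π : X' ⟶ X) [IsIntegralHom π] [UniversallyInjective π]
    [Surjective π] (h : CdKilled X' n d) : CdKilled X n d := fun F hF q hq => by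
  haveI := pull_isEquivalence_of_universalHomeomorph π
  haveI : (EtCoh.pull π).Additive := inferInstance
  let e : F ≅ (EtCoh.push π).obj ((EtCoh.pull π).obj F) := by
    haveI := ((EtCoh.pullPushAdj π).toEquivalence)
    exact asIso ((EtCoh.pullPushAdj π).unit.app F)
  have := (CdField.subsingleton_H_push_iff π _ q).2 (h _ (map_killed (EtCoh.pull π) hF) q hq)
  exact @Equiv.subsingleton _ _ ((EtCoh.HF X q).mapIso e).addCommGroupIsoToAddEquiv.toEquiv this

theorem isIso_stalk_of_pt {A B : EtCoh.Ab X} (φ : A ⟶ B) {Ω Ω' : Type u} [Field Ω] [IsSepClosed Ω] [Field Ω']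
    [IsSepClosed Ω'] (ξ : Spec (CommRingCat.of Ω) ⟶ X) (ξ' : Spec (CommRingCat.of Ω') ⟶ X)
    (h : ξ default = ξ' default) [IsIso ((EtCoh.stalk ξ).map φ)] : IsIso ((EtCoh.stalk ξ').map φ) := by
  have key : ∀ F : EtCoh.Ab X, IsZero ((EtCoh.stalk ξ).obj F) → IsZero ((EtCoh.stalk ξ').obj F) := fun F hz => by
    by_contra hne
    exact (mem_supp_iff F ξ rfl).1 ((mem_supp_iff F ξ' h.symm).2 hne) hz
  haveI : Mono ((EtCoh.stalk ξ').map φ) := by
    have hk := key _ (IsZero.of_iso (isZero_kernel_of_mono ((EtCoh.stalk ξ).map φ)) (PreservesKernel.iso _ φ))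
    exact Preadditive.mono_of_kernel_zero
      ((IsZero.of_iso hk (PreservesKernel.iso (EtCoh.stalk ξ') φ).symm).eq_of_src _ _)
  haveI : Epi ((EtCoh.stalk ξ').map φ) := by
    have hk := key _ (IsZero.of_iso (isZero_cokernel_of_epi ((EtCoh.stalk ξ).map φ)) (PreservesCokernel.iso _ φ))
    exact Preadditive.epi_of_cokernel_zero
      ((IsZero.of_iso hk (PreservesCokernel.iso (EtCoh.stalk ξ') φ).symm).eq_of_tgt _ _)
  exact isIso_of_mono_of_epi _

variable [AlgebraicGeometry.IsNoetherian X]

theorem isIso_counit_maxPoint (η : maxPoints X) : IsIso (EtCoh.pullPushAdj (X.fromSpecStalk η.1)).counit :=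
  Et18.isIso_counit (MaxLift.bcLiftsEtale_fromSpecStalk η.1 η.2)

theorem subsingleton_spec_stalk {η : X} (hη : η ∈ maxPoints X) : Subsingleton (Spec (X.presheaf.stalk η)) := by
  refine ⟨fun p q => (X.fromSpecStalk η).isEmbedding.injective ?_⟩
  have h : ∀ p, X.fromSpecStalk η p = η := fun p => by
    have h2 : X.fromSpecStalk η p ∈ Set.range (X.fromSpecStalk η) := Set.mem_range_self _
    rw [Scheme.range_fromSpecStalk] at h2
    exact hη _ h2
  rw [h, h]

theorem isIso_stalk_unit (η : maxPoints X) (F : EtCoh.Ab X) :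
    IsIso ((EtCoh.stalk (sepPoint X η.1)).map ((EtCoh.pullPushAdj (X.fromSpecStalk η.1)).unit.app F)) := by
  haveI := isIso_counit_maxPoint η
  haveI := isIso_pull_map_unit_of_counit (X.fromSpecStalk η.1) F
  let c : Spec (X.presheaf.stalk η.1) := IsLocalRing.closedPoint _
  haveI := isIso_stalk_map_of_pull (X.fromSpecStalk η.1) (sepPoint (Spec (X.presheaf.stalk η.1)) c)
    ((EtCoh.pullPushAdj (X.fromSpecStalk η.1)).unit.app F)
  refine isIso_stalk_of_pt _ (sepPoint _ c ≫ X.fromSpecStalk η.1) _ ?_
  rw [Scheme.Hom.comp_apply, sepPoint_default, sepPoint_default]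
  exact Scheme.fromSpecStalk_closedPoint

omit [AlgebraicGeometry.IsNoetherian X] in
theorem isZero_stalk_push_maxPoint {η η' : maxPoints X} (h : η' ≠ η) (G : EtCoh.Ab (Spec (X.presheaf.stalk η'.1))) :
    IsZero ((EtCoh.stalk (sepPoint X η.1)).obj ((EtCoh.push (X.fromSpecStalk η'.1)).obj G)) := by
  refine isZero_stalk_push_of_disjoint _ _ _ ⟨(closure {η'.1})ᶜ, isClosed_closure.isOpen_compl⟩ ?_ ?_
  · rw [sepPoint_default]
    exact fun hm => h (Subtype.ext (η.2 η'.1 (specializes_iff_mem_closure.2 hm)))
  · rw [Set.disjoint_left]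
    rintro z hz hz'
    rw [Scheme.range_fromSpecStalk] at hz'
    exact hz (η'.2 z hz' ▸ subset_closure rfl)

/-- The residue field computes the cohomological dimension of the stalk at a maximal point. -/
theorem cdKilled_stalk (η : maxPoints X) {n d : ℕ} (h : CdKilled (Spec (X.residueField η.1)) n d) :
    CdKilled (Spec (X.presheaf.stalk η.1)) n d := by
  haveI := subsingleton_spec_stalk η.2
  let r : Spec (X.residueField η.1) ⟶ Spec (X.presheaf.stalk η.1) := Spec.map (X.residue η.1)
  haveI : IsClosedImmersion r := IsClosedImmersion.spec_of_surjective _ (IsLocalRing.residue_surjective)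
  haveI : Surjective r := ⟨fun p => ⟨default, Subsingleton.elim _ _⟩⟩
  exact h.of_universalHomeomorph r

/-- Direct images from a maximal point of sheaves killed by `n` have no cohomology in high degree. -/
theorem subsingleton_H_push_killed (hdim : topologicalKrullDim X ≤ 1)
    (hsep : ∀ x : X, IsClosed ({x} : Set X) → IsSepClosed (X.residueField x)) (η : maxPoints X) {n : ℕ}
    (hcd : CdKilled (Spec (X.residueField η.1)) n 1)
    (G : EtCoh.Ab (Spec (X.presheaf.stalk η.1))) (hG : n • 𝟙 G = 0) (q : ℕ) (hq : 3 ≤ q) :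
    Subsingleton (EtCoh.H X ((EtCoh.push (X.fromSpecStalk η.1)).obj G) q) := by
  haveI := subsingleton_spec_stalk η.2
  let A := X.presheaf.stalk η.1
  let j : Spec A ⟶ X := X.fromSpecStalk η.1
  have hA := cdKilled_stalk η hcd
  let S := ShortComplex.mk (Injective.ι G) (cokernel.π (Injective.ι G)) (cokernel.condition _)
  have hS : S.ShortExact :=
    { exact := ShortComplex.exact_cokernel _
      mono_f := inferInstanceAs (Mono (Injective.ι G))
      epi_g := inferInstanceAs (Epi (cokernel.π (Injective.ι G))) }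
  haveI hSI : Injective S.X₂ := inferInstanceAs (Injective (Injective.under G))
  have hR : ∀ p, IsZero ((EtCoh.Rpush j (p + 1)).obj S.X₃) := fun p => by
    refine isZero_Rpush_succ _ _ p fun V hV => ?_
    let W := (EtCoh.bc j).obj V
    let w : W.left ⟶ Spec A := Et18.LocCoh.str W
    haveI : QuasiCompact w := by
      haveI : IsAffine ((𝟭 Scheme.{u}).obj V.left) := hV
      haveI : CompactSpace ((𝟭 Scheme.{u}).obj V.left) := inferInstance
      haveI : QuasiCompact V.hom := by
        haveI : QuasiCompact (V.hom ≫ terminal.from X) := inferInstance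
        haveI : QuasiSeparated (terminal.from X) := inferInstance
        exact QuasiCompact.of_comp V.hom (terminal.from X)
      exact MorphismProperty.pullback_snd (P := @QuasiCompact) V.hom j inferInstance
    haveI : Etale w := inferInstanceAs (Etale (Et18.LocCoh.str W))
    haveI := AlgSpLib.locallyQuasiFinite_of_etale w
    haveI : IsArtinianRing A := by
      refine isArtinianRing_iff_krullDimLE_zero.2 ?_
      rw [Ring.krullDimLE_zero_iff]
      intro I hI
      obtain ⟨M, hM, hle⟩ := Ideal.exists_le_maximal I hI.ne_top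
      have := @Subsingleton.elim (Spec A) _ ⟨I, hI⟩ ⟨M, hM.isPrime⟩
      have e : I = M := congrArg PrimeSpectrum.asIdeal this
      exact e ▸ hM
    haveI : IsFinite w := IsFinite.of_locallyQuasiFinite w
    have hSW : (S.map (LocCoh.res W)).ShortExact := hS.map_of_exact (LocCoh.res W)
    haveI : Injective (S.map (LocCoh.res W)).X₂ := LocCoh.injective_res W S.X₂
    have h1 : Subsingleton (EtCoh.H W.left ((LocCoh.res W).obj G) (p + 1 + 1)) :=
      hA.of_finite w _ (map_killed (LocCoh.res W) hG) _ (by omega)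
    refine subsingleton_of_forall_eq 0 fun z => ?_
    obtain ⟨y, hy⟩ := Ext.covariant_sequence_exact₃ _ hSW z rfl (@Subsingleton.elim _ h1 _ _)
    rw [← hy, Ext.eq_zero_of_injective y, Ext.zero_comp]
  have hX3 : ∀ p, Subsingleton (EtCoh.H X ((EtCoh.push j).obj S.X₃) (p + 1)) := fun p => by
    haveI : (EtCoh.pull j).PreservesMonomorphisms := inferInstance
    haveI : (EtCoh.push j).PreservesInjectiveObjects :=
      Functor.preservesInjectiveObjects_of_adjunction_of_preservesMonomorphisms (EtCoh.pullPushAdj j)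
    let e := SiteCoh.extAdjEquiv (EtCoh.pullPushAdj j) (F := S.X₃) hR (EtCoh.const X ℤ) (p + 1)
    have h : Subsingleton (EtCoh.H (Spec A) S.X₃ (p + 1)) := by
      refine subsingleton_of_forall_eq 0 fun z => ?_
      obtain ⟨y, hy⟩ := Ext.covariant_sequence_exact₃ _ hS z rfl
        (@Subsingleton.elim _ (hA G hG (p + 1 + 1) (by omega)) _ _)
      rw [← hy, Ext.eq_zero_of_injective y, Ext.zero_comp]
    refine e.toEquiv.subsingleton_congr.2 ⟨fun a b => ?_⟩
    let c := EtCore.pullConst j ℤ
    have h0 : (Ext.mk₀ c.inv).comp a (zero_add (p + 1)) = (Ext.mk₀ c.inv).comp b (zero_add (p + 1)) :=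
      @Subsingleton.elim _ h _ _
    have h1 := congrArg (fun w => (Ext.mk₀ c.hom).comp w (zero_add (p + 1))) h0
    simpa only [Ext.mk₀_comp_mk₀_assoc, Iso.hom_inv_id, Ext.mk₀_id_comp] using h1
  haveI hpI : Injective ((EtCoh.push j).obj S.X₂) := by
    haveI : (EtCoh.pull j).PreservesMonomorphisms := inferInstance
    exact Injective.injective_of_adjoint (EtCoh.pullPushAdj j) _
  let b : (EtCoh.push j).obj S.X₂ ⟶ (EtCoh.push j).obj S.X₃ := (EtCoh.push j).map S.g
  have hC : ∀ p, Subsingleton (EtCoh.H X (cokernel b) (p + 1)) := fun p => by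
    refine subsingleton_H_closedPoints hsep _ (fun y hy => ?_) _ (by omega)
    by_contra hy'
    have hmax : y ∈ maxPoints X := by
      by_contra hm
      simp only [maxPoints, Set.mem_setOf_eq, not_forall] at hm
      obtain ⟨w, hw, hne⟩ := hm
      exact hy' (VarietyLib.isClosed_of_specializes_ne hdim hw hne)
    refine (mem_supp_iff _ _ (sepPoint_default X y)).1 hy ?_
    rcases eq_or_ne η ⟨y, hmax⟩ with rfl | hne
    · haveI := isIso_counit_maxPoint (⟨y, hmax⟩ : maxPoints X)
      have hp : Epi ((EtCoh.pull j).map b) := by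
        haveI : Epi ((EtCoh.pullPushAdj j).counit.app S.X₂ ≫ S.g) := epi_comp _ _
        have hn := (EtCoh.pullPushAdj j).counit.naturality S.g
        haveI : Epi ((EtCoh.pull j).map b ≫ (EtCoh.pullPushAdj j).counit.app S.X₃) := by
          rw [show (EtCoh.pull j).map b ≫ (EtCoh.pullPushAdj j).counit.app S.X₃ =
            (EtCoh.pullPushAdj j).counit.app S.X₂ ≫ S.g from hn]
          infer_instance
        exact (epi_comp_iff_of_isIso _ _).1 ‹_›
      have hz : IsZero ((EtCoh.pull j).obj (cokernel b)) :=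
        IsZero.of_iso (isZero_cokernel_of_epi _) (PreservesCokernel.iso _ b)
      let c : Spec (X.presheaf.stalk y) := IsLocalRing.closedPoint _
      by_contra hne
      have hpt : (sepPoint (Spec (X.presheaf.stalk y)) c ≫ j) default = y := by
        rw [Scheme.Hom.comp_apply, sepPoint_default]
        exact Scheme.fromSpecStalk_closedPoint
      exact (mem_supp_iff _ _ hpt).1 ((mem_supp_iff _ _ (sepPoint_default X y)).2 hne)
        (IsZero.of_iso ((EtCoh.stalk _).map_isZero hz) ((stalkPullIso j _).app _).symm)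
    · haveI : Epi ((EtCoh.stalk (sepPoint X y)).map (cokernel.π b)) := inferInstance
      exact IsZero.of_epi ((EtCoh.stalk (sepPoint X y)).map (cokernel.π b))
        (isZero_stalk_push_maxPoint (η := ⟨y, hmax⟩) hne S.X₃)
  let T₁ := ShortComplex.mk (Abelian.image.ι b) (cokernel.π b) (kernel.condition _)
  have hT₁ : T₁.ShortExact :=
    { exact := ShortComplex.exact_of_f_is_kernel _ (kernelIsKernel _)
      mono_f := inferInstanceAs (Mono (Abelian.image.ι b))
      epi_g := inferInstanceAs (Epi (cokernel.π b)) }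
  let a : (EtCoh.push j).obj G ⟶ (EtCoh.push j).obj S.X₂ := (EtCoh.push j).map S.f
  have ha : a ≫ Abelian.factorThruImage b = 0 := by
    rw [← cancel_mono (Abelian.image.ι b), Category.assoc, Abelian.image.fac, zero_comp]
    show (EtCoh.push j).map S.f ≫ (EtCoh.push j).map S.g = 0
    rw [← Functor.map_comp, S.zero, Functor.map_zero]
  let T₂ := ShortComplex.mk a (Abelian.factorThruImage b) ha
  have hT₂ : T₂.ShortExact := by
    have hm : Mono (Injective.ι G) := inferInstance
    have hk := KernelFork.mapIsLimit _ (hS.exact.fIsKernel) (EtCoh.push j)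
    exact
    { exact := by
        refine ShortComplex.exact_of_f_is_kernel _ (KernelFork.IsLimit.ofι' a ha fun {W} t ht => ?_)
        have ht' : t ≫ b = 0 := by rw [← Abelian.image.fac b, ← Category.assoc, show t ≫ Abelian.factorThruImage b = 0 from ht, zero_comp]
        exact KernelFork.IsLimit.lift' hk t ht'
      mono_f := by
        haveI : Mono S.f := hm
        exact inferInstanceAs (Mono ((EtCoh.push j).map S.f))
      epi_g := inferInstanceAs (Epi (Abelian.factorThruImage b)) }
  obtain ⟨p, rfl⟩ : ∃ p, q = p + 1 + 1 + 1 := ⟨q - 3, by omega⟩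
  refine subsingleton_of_forall_eq 0 fun z => ?_
  obtain ⟨y, hy⟩ := Ext.covariant_sequence_exact₁ _ hT₂ z (Ext.eq_zero_of_injective _) (n₀ := p + 1 + 1) rfl
  have hM : Subsingleton (EtCoh.H X (Abelian.image b) (p + 1 + 1)) := by
    refine subsingleton_of_forall_eq 0 fun w => ?_
    obtain ⟨v, hv⟩ := Ext.covariant_sequence_exact₁ _ hT₁ w (@Subsingleton.elim _ (hX3 (p + 1)) _ _) (n₀ := p + 1) rfl
    rw [← hv, @Subsingleton.elim _ (hC p) v 0, Ext.zero_comp]
  rw [← hy, @Subsingleton.elim _ hM y 0, Ext.zero_comp]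

end Groth.Agent.GalEt
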