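import Groth.Agent.GalEt.Torsion
import Groth.Agent.GalEt.GmUnit
import Groth.Agent.VarietyLib.DivisorGlue
import Mathlib.CategoryTheory.Preadditive.Biproducts

/-!
# `H^q(X, G_m)` is torsion for `q ≥ 2` on reduced noetherian schemes of dimension at most one
-/

set_option autoImplicit false
set_option linter.all false
set_option backward.isDefEq.respectTransparency.types false
set_option backward.isDefEq.respectTransparency false
set_option backward.defeqAttrib.useBackward true
set_option synthInstance.maxHeartbeats 400000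
set_option maxHeartbeats 1000000

universe u

open CategoryTheory CategoryTheory.Limits CategoryTheory.Abelian AlgebraicGeometry Opposite
open Groth.Agent.Et18

noncomputable section

namespace Groth.Agent.GalEt

variable {X : Scheme.{u}}

/-- Maximal points. -/
def maxPoints (X : Scheme.{u}) : Set X := {x | ∀ y : X, y ⤳ x → y = x}

theorem closure_mem_irreducibleComponents {x : X} (hx : x ∈ maxPoints X) :
    closure {x} ∈ irreducibleComponents (X : Type u) := by
  have hC := irreducibleComponent_mem_irreducibleComponents (X := X) x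
  obtain ⟨ζ, hζ⟩ := QuasiSober.sober (isIrreducible_irreducibleComponent (x := x)) isClosed_irreducibleComponent
  have : ζ = x := hx ζ (hζ.specializes mem_irreducibleComponent)
  subst this
  rw [hζ.def]
  exact hC

theorem finite_maxPoints [IsNoetherian X] : (maxPoints X).Finite := by
  refine Set.Finite.of_finite_image (f := fun x => closure ({x} : Set X))
    (TopologicalSpace.NoetherianSpace.finite_irreducibleComponents.subset ?_) fun x _ y _ h => ?_
  · rintro _ ⟨x, hx, rfl⟩
    exact closure_mem_irreducibleComponents hx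
  · exact (isGenericPoint_closure (x := x)).eq (show IsGenericPoint y (closure {x}) from h.symm)

theorem isField_stalk_maxPoint [IsReduced X] {η : X} (hη : η ∈ maxPoints X) :
    IsField (X.presheaf.stalk η) := by
  have h : Subsingleton (Spec (X.presheaf.stalk η)) := ⟨fun p q => (X.fromSpecStalk η).isEmbedding.injective (by
    have : ∀ p, X.fromSpecStalk η p = η := fun p => hη _ (by
      have h1 : X.fromSpecStalk η p ∈ Set.range (X.fromSpecStalk η) := Set.mem_range_self p
      rwa [Scheme.range_fromSpecStalk] at h1)
    rw [this, this])⟩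
  exact PrimeSpectrum.subsingleton_iff_isField_of_isReduced.1 h

/-- The product of the direct images of the units at the maximal points. -/
abbrev maxPush (X : Scheme.{u}) (η : maxPoints X) : EtCoh.Ab X :=
  (EtCoh.push (X.fromSpecStalk η.1)).obj (EtCoh.Gm (Spec (X.presheaf.stalk η.1)))

theorem isZero_stalk_maxPush {η η' : maxPoints X} (h : η' ≠ η) :
    IsZero ((EtCoh.stalk (sepPoint X η.1)).obj (maxPush X η')) := by
  refine isZero_stalk_push_of_disjoint _ _ _ ⟨(closure {η'.1})ᶜ, isClosed_closure.isOpen_compl⟩ ?_ ?_
  · rw [sepPoint_default]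
    exact fun hm => h (Subtype.ext (η.2 η'.1 (specializes_iff_mem_closure.2 hm)))
  · rw [Set.disjoint_left]
    rintro z hz hz'
    rw [Scheme.range_fromSpecStalk] at hz'
    exact hz (η'.2 z hz' ▸ subset_closure rfl)

variable [IsNoetherian X]

/-- On a reduced noetherian scheme of dimension at most one, `H^q(X, G_m)` is torsion for `q ≥ 2`. -/
theorem isAddTorsion_H_Gm_dim_one [IsReduced X] (hdim : topologicalKrullDim X ≤ 1) (q : ℕ) (hq : 2 ≤ q) :
    IsAddTorsion (EtCoh.H X (EtCoh.Gm X) q) := by
  classical
  haveI : Fintype (maxPoints X) := (finite_maxPoints (X := X)).fintype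
  let P : EtCoh.Ab X := ⨁ maxPush X
  let φ : EtCoh.Gm X ⟶ P := biproduct.lift fun η => EtLim.GmPush (X.fromSpecStalk η.1)
  have htot : ∑ η', biproduct.π (maxPush X) η' ≫ biproduct.ι (maxPush X) η' = 𝟙 P := by
    refine biproduct.hom_ext' _ _ fun j => ?_
    rw [Preadditive.comp_sum, Finset.sum_eq_single j (fun b _ h => by
      rw [biproduct.ι_π_ne_assoc _ (Ne.symm h), zero_comp]) (by simp), biproduct.ι_π_self_assoc, Category.comp_id]
  have hiso : ∀ η : maxPoints X, IsIso ((EtCoh.stalk (sepPoint X η.1)).map φ) := fun η => by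
    let T := EtCoh.stalk (sepPoint X η.1)
    haveI : PreservesLimitsOfShape (Discrete WalkingPair) T := inferInstance
    haveI : T.Additive := Functor.additive_of_preserves_binary_products T
    haveI : IsIso (T.map (biproduct.π (maxPush X) η)) := by
      refine ⟨T.map (biproduct.ι (maxPush X) η), ?_, ?_⟩
      · have h1 : T.map (∑ η', biproduct.π (maxPush X) η' ≫ biproduct.ι (maxPush X) η') =
            T.map (𝟙 P) := by rw [htot]
        rw [Functor.map_sum, Finset.sum_eq_single η (fun η' _ h => ?_) (by simp), Functor.map_comp,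
          CategoryTheory.Functor.map_id] at h1
        · exact h1
        · rw [Functor.map_comp, (isZero_stalk_maxPush h).eq_of_tgt (T.map (biproduct.π (maxPush X) η')) 0,
            zero_comp]
      · rw [← T.map_comp, biproduct.ι_π_self, CategoryTheory.Functor.map_id]
    haveI : IsIso (T.map φ ≫ T.map (biproduct.π (maxPush X) η)) := by
      rw [← T.map_comp, biproduct.lift_π]
      exact GmUnit.isIso_stalk_GmPush η.2 _ (sepPoint_default X η.1)
    exact IsIso.of_isIso_comp_right _ (T.map (biproduct.π (maxPush X) η))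
  have hclosed : ∀ y : X, y ∉ maxPoints X → IsClosed ({y} : Set X) := fun y hy => by
    simp only [maxPoints, Set.mem_setOf_eq, not_forall] at hy
    obtain ⟨z, hz, hne⟩ := hy
    exact VarietyLib.isClosed_of_specializes_ne hdim hz hne
  have hsupp : ∀ (F : EtCoh.Ab X), (∀ η : maxPoints X, IsZero ((EtCoh.stalk (sepPoint X η.1)).obj F)) →
      ∀ y ∈ EtPBC.supp F, IsClosed ({y} : Set X) := fun F hF y hy => hclosed y fun hy' =>
    (mem_supp_iff _ _ (sepPoint_default X y)).1 hy (hF ⟨y, hy'⟩)
  obtain ⟨p, rfl⟩ : ∃ p, q = p + 1 := ⟨q - 1, by omega⟩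
  have hfac : ∀ η : maxPoints X, Mono ((EtCoh.stalk (sepPoint X η.1)).map (Abelian.factorThruImage φ)) ∧
      Epi ((EtCoh.stalk (sepPoint X η.1)).map (Abelian.image.ι φ)) := fun η => by
    haveI := hiso η
    have h : (EtCoh.stalk (sepPoint X η.1)).map (Abelian.factorThruImage φ) ≫
        (EtCoh.stalk (sepPoint X η.1)).map (Abelian.image.ι φ) = (EtCoh.stalk (sepPoint X η.1)).map φ := by
      rw [← Functor.map_comp, Abelian.image.fac]
    exact ⟨mono_of_mono_fac h, epi_of_epi_fac h⟩
  have hker : IsAddTorsion (EtCoh.H X (kernel (Abelian.factorThruImage φ)) (p + 1)) :=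
    isAddTorsion_H_closedPoints _ (hsupp _ fun η => by
      haveI := (hfac η).1
      exact IsZero.of_iso (isZero_kernel_of_mono _) (PreservesKernel.iso _ (Abelian.factorThruImage φ)))
      _ (by omega)
  have hcok : IsAddTorsion (EtCoh.H X (cokernel (Abelian.image.ι φ)) p) :=
    isAddTorsion_H_closedPoints _ (hsupp _ fun η => by
      haveI := (hfac η).2
      exact IsZero.of_iso (isZero_cokernel_of_epi _) (PreservesCokernel.iso _ (Abelian.image.ι φ)))
      _ (by omega)
  have hP : IsAddTorsion (EtCoh.H X P (p + 1)) := by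
    let G := EtCoh.HF X (p + 1)
    haveI : G.Additive := inferInstance
    intro z
    have hterm : ∀ η : maxPoints X, IsAddTorsion (G.obj (maxPush X η)) := fun η => by
      letI := (isField_stalk_maxPoint η.2).toField
      exact isAddTorsion_H_push_field (K := X.presheaf.stalk η.1) (X.fromSpecStalk η.1) p _
    choose m hm h0 using fun η => isOfFinAddOrder_iff_nsmul_eq_zero.1
      (hterm η (G.map (biproduct.π (maxPush X) η) z))
    refine isOfFinAddOrder_iff_nsmul_eq_zero.2 ⟨∏ η, m η, Finset.prod_pos fun η _ => hm η, ?_⟩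
    have h1 : (G.map (∑ η, biproduct.π (maxPush X) η ≫ biproduct.ι (maxPush X) η)) z = G.map (𝟙 P) z := by
      rw [htot]
    show (∏ η, m η) • (show (G.obj P : Type (u + 1)) from z) = 0
    rw [G.map_sum, G.map_id] at h1
    refine (congrArg ((∏ η, m η) • ·) h1.symm).trans ?_
    let ev : (G.obj P ⟶ G.obj P) →+ (G.obj P : Type (u + 1)) :=
      AddMonoidHom.mk' (fun f => f z) (fun f g => rfl)
    show (∏ η, m η) • ev (∑ η, G.map (biproduct.π (maxPush X) η ≫ biproduct.ι (maxPush X) η)) = 0
    rw [map_sum, Finset.smul_sum]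
    refine Finset.sum_eq_zero fun η hη => ?_
    obtain ⟨k, hk⟩ := Finset.dvd_prod_of_mem m hη
    rw [hk, mul_comm, mul_nsmul', Functor.map_comp]
    show k • m η • (G.map (biproduct.ι (maxPush X) η) (G.map (biproduct.π (maxPush X) η) z)) = 0
    rw [← map_nsmul, h0, map_zero, nsmul_zero]
  let S₂ := ShortComplex.mk (Abelian.image.ι φ) (cokernel.π _) (cokernel.condition _)
  have hS₂ : S₂.ShortExact :=
    { exact := ShortComplex.exact_cokernel _
      mono_f := inferInstanceAs (Mono (Abelian.image.ι φ))
      epi_g := inferInstanceAs (Epi (cokernel.π _)) }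
  let S₁ := ShortComplex.mk (kernel.ι (Abelian.factorThruImage φ)) (Abelian.factorThruImage φ) (kernel.condition _)
  have hS₁ : S₁.ShortExact :=
    { exact := ShortComplex.exact_kernel _
      mono_f := inferInstanceAs (Mono (kernel.ι (Abelian.factorThruImage φ)))
      epi_g := inferInstanceAs (Epi (Abelian.factorThruImage φ)) }
  exact isAddTorsion_of_shortExact hS₁ hker (isAddTorsion_left hS₂ hcok hP)

end Groth.Agent.GalEt
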