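import Groth.Agent.GalEt.DivCoker
import Groth.Agent.CAlgH3.Factorial
import Groth.Agent.CAlgH3.RegularLocal

/-!
# The divisor sequence of an integral scheme
-/

set_option autoImplicit false
set_option linter.all false
set_option backward.isDefEq.respectTransparency.types false
set_option backward.isDefEq.respectTransparency false
set_option backward.defeqAttrib.useBackward true
set_option synthInstance.maxHeartbeats 400000
set_option maxHeartbeats 1000000

universe u

open CategoryTheory CategoryTheory.Limits AlgebraicGeometry Opposite TopologicalSpace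

noncomputable section

namespace Groth.Agent.GalEt.Div

variable {X : Scheme.{u}}

theorem locFact_of_regular [IsLocallyNoetherian X]
    (hreg : ∀ x : X, IsRegularLocalRing (X.presheaf.stalk x)) : LocFact X where
  out U u := by
    haveI : Etale (str U) := U.prop
    haveI : IsRegularLocalRing (U.left.presheaf.stalk u) :=
      (Et18.isRegularLocalRing_stalk_iff_of_etale (str U) u).2 (hreg _)
    haveI := CAlgH3.isDomain_of_isRegularLocalRing (U.left.presheaf.stalk u)
    exact ⟨inferInstance, CAlgH3.ufm_of_regular _⟩

theorem maxPoints_eq [IsIntegral X] : maxPoints X = {genericPoint X} :=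
  Set.ext fun y => ⟨fun hy => (hy _ (genericPoint_specializes y)).symm, fun hy z hz => by
    rw [Set.mem_singleton_iff] at hy
    subst hy
    exact (Specializes.antisymm hz (genericPoint_specializes z)).eq⟩

/-- The divisor sequence of an integral locally noetherian scheme with factorial étale local rings. -/
theorem divisor_sequence [LocFact X] [IsLocallyNoetherian X] [IsIntegral X]
    (c : Cofan fun x : Ht1 X => D x) (hc : IsColimit c) :
    Mono (EtLim.GmPush (X.fromSpecStalk (genericPoint ↥X))) ∧
      Nonempty (cokernel (EtLim.GmPush (X.fromSpecStalk (genericPoint ↥X))) ≅ c.pt) := by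
  classical
  let η₀ : maxPoints X := ⟨genericPoint X, (maxPoints_eq (X := X)).symm ▸ Set.mem_singleton _⟩
  letI : Unique (maxPoints X) :=
    { default := η₀
      uniq := fun η => Subtype.ext ((maxPoints_eq (X := X)) ▸ η.2 : η.1 ∈ ({genericPoint X} : Set X)) }
  letI : Fintype (maxPoints X) := Unique.fintype
  haveI := phi_mono (X := X)
  haveI : IsIso (biproduct.π (maxPush X) η₀) := by
    refine ⟨biproduct.ι (maxPush X) η₀, biproduct.hom_ext' _ _ fun j => ?_, biproduct.ι_π_self _ _⟩
    obtain rfl : j = η₀ := Subsingleton.elim _ _
    rw [biproduct.ι_π_self_assoc, Category.comp_id]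
  have e : phi X ≫ biproduct.π (maxPush X) η₀ = EtLim.GmPush (X.fromSpecStalk (genericPoint ↥X)) :=
    biproduct.lift_π _ η₀
  obtain ⟨h⟩ := nonempty_isColimit_skyCofan (X := X)
  refine ⟨e ▸ mono_comp (phi X) _, ⟨?_⟩⟩
  exact cokernelIsoOfEq e.symm ≪≫ cokernelCompIsIso _ _ ≪≫ h.coconePointUniqueUpToIso hc

end Groth.Agent.GalEt.Div
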