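import Groth.Agent.GalEt.GmGeneric
import Groth.Agent.GalEt.AdjInjective
import Groth.Prelude.Def_Dix

/-!
# Skyscrapers at points of quasi-separated schemes in degrees one and two
-/

set_option autoImplicit false
set_option linter.all false
set_option backward.isDefEq.respectTransparency.types false
set_option backward.isDefEq.respectTransparency false
set_option backward.defeqAttrib.useBackward true
set_option synthInstance.maxHeartbeats 400000
set_option maxHeartbeats 1000000

universe u

open CategoryTheory CategoryTheory.Limits CategoryTheory.Abelian AlgebraicGeometry Opposite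
open Groth.Agent.Et18 Groth.Agent.Et18.CdField

noncomputable section

namespace Groth.Agent.GalEt

variable (K : Type u) [Field K]

/-- Sections of a constant sheaf over a field extension are constant. -/
theorem exists_cstSec_eq (A : AddCommGrpCat.{u + 1}) (M : Type u) [Field M] [Algebra K M] [Module.Finite K M]
    [Algebra.IsSeparable K M] (t : EtCoh.sect ((cst (Spec (CommRingCat.of K))).obj A) (UObj K M)) :
    ∃ a : A, cstSec A (UObj K M) a = t := by
  let U := UObj K M
  let ρ : Spec (CommRingCat.of (SeparableClosure M)) ⟶ U.left := mor M (SeparableClosure M)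
  let ξ : Spec (CommRingCat.of (SeparableClosure M)) ⟶ Spec (CommRingCat.of K) := ρ ≫ U.hom
  let v : (Scheme.pointSmallEtale ξ).fiber.obj U := Over.homMk ρ rfl
  let Φ := Scheme.pointSmallEtale ξ
  obtain ⟨a, ha⟩ := (cstGerm_bijective ξ A).2 (Φ.toPresheafFiber U v ((cst _).obj A).obj t)
  refine ⟨a, sub_eq_zero.1 ?_⟩
  have h0 : Φ.toPresheafFiber U v ((cst _).obj A).obj (cstSec A U a - t) = 0 := by
    rw [map_sub, sub_eq_zero]
    exact (ConcreteCategory.congr_hom (cstSec_germ ξ A U v) a).trans ha
  have h1 := not_mem_sectSupp_of_germ_eq_zero ((cst (Spec (CommRingCat.of K))).obj A) ξ U _ v h0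
  rw [EtShriek.sectSupp, Set.mem_setOf_eq] at h1
  push Not at h1
  obtain ⟨W, g, ⟨z, hz⟩, hσ⟩ := h1
  haveI : Subsingleton U.left := inferInstanceAs (Subsingleton ↥(Spec (CommRingCat.of M)))
  exact H0Lift.sect_ext_of_cover _ _ (fun _ : PUnit.{u + 2} => W) (fun _ => g)
    (fun x => ⟨⟨⟩, z, Subsingleton.elim _ x⟩) _ _ fun _ => hσ.trans (map_zero _).symm

/-- Constant torsion-free sheaves have no first cohomology on fields. -/
theorem subsingleton_H_one_cst (A : AddCommGrpCat.{u + 1}) [IsAddTorsionFree A] :
    Subsingleton (EtCoh.H (Spec (CommRingCat.of K)) ((cst (Spec (CommRingCat.of K))).obj A) 1) := by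
  refine subsingleton_H_one K _ fun M _ _ _ _ a ha => ⟨0, ?_⟩
  let F := (cst (Spec (CommRingCat.of K))).obj A
  have htriv : ∀ (σ : M ≃ₐ[K] M) (t : EtCoh.sect F (UObj K M)), F.obj.map (act K M σ).op t = t := by
    intro σ t
    obtain ⟨m, rfl⟩ := exists_cstSec_eq K A M t
    exact ConcreteCategory.congr_hom (cstSec_res A (act K M σ)) m
  have hadd : ∀ σ τ, a (σ * τ) = a τ + a σ := fun σ τ => by rw [ha, htriv]
  intro σ
  rw [htriv, sub_self]
  obtain ⟨n, hn, hσ⟩ := isOfFinOrder_iff_pow_eq_one.1 (isOfFinOrder_of_finite σ)
  have hpow : ∀ k : ℕ, a (σ ^ k) = k • a σ := by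
    intro k
    induction k with
    | zero =>
      rw [pow_zero, zero_nsmul]
      have h := hadd 1 1
      rw [one_mul] at h
      exact left_eq_add.1 h
    | succ k ih => rw [pow_succ, hadd, ih, succ_nsmul, add_comm]
  have h0 : n • a σ = 0 := by
    rw [← hpow, hσ]
    have h := hadd 1 1
    rw [one_mul] at h
    exact left_eq_add.1 h
  obtain ⟨m, hm⟩ := exists_cstSec_eq K A M (a σ)
  have hinj : Function.Injective (cstSec A (UObj K M)) := by
    intro b c hbc
    let ρ : Spec (CommRingCat.of (SeparableClosure M)) ⟶ (UObj K M).left := mor M (SeparableClosure M)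
    let ξ : Spec (CommRingCat.of (SeparableClosure M)) ⟶ Spec (CommRingCat.of K) := ρ ≫ (UObj K M).hom
    let v : (Scheme.pointSmallEtale ξ).fiber.obj (UObj K M) := Over.homMk ρ rfl
    refine (cstGerm_bijective ξ A).1 ?_
    exact (ConcreteCategory.congr_hom (cstSec_germ ξ A _ v) b).symm.trans
      ((congrArg ((Scheme.pointSmallEtale ξ).toPresheafFiber _ v ((cst _).obj A).obj) hbc).trans
        (ConcreteCategory.congr_hom (cstSec_germ ξ A _ v) c))
  rw [← hm, ← map_nsmul] at h0
  have h1 : n • m = n • (0 : A) := by rw [nsmul_zero]; exact hinj (h0.trans (map_zero _).symm)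
  rw [← hm, IsAddTorsionFree.nsmul_right_injective (Nat.pos_iff_ne_zero.1 hn) h1, map_zero]

variable {K}

/-- Sheaves on a scheme étale and quasi-compact over a field are acyclic when they are so at every point. -/
theorem subsingleton_H_etale_of_points {W : Scheme.{u}} (w : W ⟶ Spec (CommRingCat.of K)) [Etale w]
    [QuasiCompact w] (F : EtCoh.Ab W) (q : ℕ)
    (h : ∀ (L : Type u) [Field L] [Algebra K L] [Module.Finite K L] [Algebra.IsSeparable K L]
      (i : Spec (CommRingCat.of L) ⟶ W) [IsClosedImmersion i] [Etale i], i ≫ w = mor K L →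
      Subsingleton (EtCoh.H (Spec (CommRingCat.of L)) ((EtCoh.pull i).obj F) q)) :
    Subsingleton (EtCoh.H W F q) := by
  classical
  haveI := AlgSpLib.locallyQuasiFinite_of_etale w
  haveI : IsFinite w := IsFinite.of_locallyQuasiFinite w
  haveI : CompactSpace W := QuasiCompact.compactSpace_of_compactSpace w
  haveI : DiscreteTopology W := by
    refine discreteTopology_iff_isOpen_singleton.2 fun z => ?_
    have h := w.isDiscrete_preimage_singleton (w z)
    have e : w ⁻¹' {w z} = Set.univ := Set.eq_univ_of_forall fun v => Subsingleton.elim _ _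
    rw [e] at h
    have := isDiscrete_univ_iff.1 h
    exact isOpen_discrete _
  haveI : Finite W := finite_of_compact_of_discrete
  letI : Fintype W := Fintype.ofFinite W
  refine subsingleton_H_of_points Finset.univ (fun x _ => isClosed_discrete _) _ (by simp) q
    fun x _ => ?_
  haveI : IsClosedImmersion (W.fromSpecResidueField x) :=
    IsClosedImmersion.of_isPreimmersion _
      (by rw [Scheme.range_fromSpecResidueField]; exact isClosed_discrete _)
  let g : Spec (W.residueField x) ⟶ Spec (CommRingCat.of K) := W.fromSpecResidueField x ≫ w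
  let φ := Spec.preimage g
  let L : Type u := W.residueField x
  letI : Field L := inferInstanceAs (Field (W.residueField x))
  letI : Algebra K L := φ.hom.toAlgebra
  have hg : g = mor K L := (Spec.map_preimage g).symm
  haveI : IsFinite (mor K L) := hg ▸ (inferInstance : IsFinite g)
  haveI : Module.Finite K L := RingHom.finite_algebraMap.1 ((IsFinite.SpecMap_iff _).1 inferInstance)
  haveI : FormallyUnramified (W.fromSpecResidueField x) := inferInstance
  haveI : FormallyUnramified g :=
    MorphismProperty.comp_mem _ (W.fromSpecResidueField x) w inferInstance inferInstance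
  haveI : FormallyUnramified (mor K L) := hg ▸ (inferInstance : FormallyUnramified g)
  haveI : Algebra.FormallyUnramified K L :=
    RingHom.formallyUnramified_algebraMap.1
      ((HasRingHomProperty.Spec_iff (P := @FormallyUnramified)).1 (inferInstance : FormallyUnramified (mor K L)))
  haveI : Algebra.IsSeparable K L := Algebra.FormallyUnramified.isSeparable K L
  haveI : Etale g := hg ▸ etale_mor K L
  haveI : Etale (W.fromSpecResidueField x) :=
    MorphismProperty.of_postcomp (W' := @Etale) _ (W.fromSpecResidueField x) w inferInstance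
      (inferInstanceAs (Etale g))
  exact h L (W.fromSpecResidueField x) hg

variable {X : Scheme.{u}} [CompactSpace X] [QuasiSeparatedSpace X] (x : X)

theorem quasiCompact_bc_str (V : X.Etale) (hV : IsAffine V.left) :
    QuasiCompact (Et18.LocCoh.str ((EtCoh.bc (X.fromSpecResidueField x)).obj V)) := by
  haveI : IsAffine ((𝟭 Scheme.{u}).obj V.left) := hV
  haveI : CompactSpace ((𝟭 Scheme.{u}).obj V.left) := inferInstance
  haveI : QuasiCompact V.hom := by
    haveI : QuasiCompact (V.hom ≫ terminal.from X) := inferInstance
    haveI : QuasiSeparated (terminal.from X) := inferInstance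
    exact QuasiCompact.of_comp V.hom (terminal.from X)
  exact MorphismProperty.pullback_snd (P := @QuasiCompact) V.hom (X.fromSpecResidueField x) inferInstance

/-- `R¹ i_{x*} G_m = 0`. -/
theorem isZero_Rpush_sky_Gm :
    IsZero ((EtCoh.Rpush (X.fromSpecResidueField x) 1).obj (EtCoh.Gm (Spec (X.residueField x)))) := by
  refine isZero_Rpush_succ _ _ 0 fun V hV => ?_
  let W := (EtCoh.bc (X.fromSpecResidueField x)).obj V
  haveI := quasiCompact_bc_str x V hV
  haveI : EtShriek.JCont (Et18.LocCoh.str W) := jCont _
  refine @Equiv.subsingleton _ _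
    ((EtCoh.HF W.left 1).mapIso (restrAlongGmIso (Et18.LocCoh.str W))).addCommGroupIsoToAddEquiv.toEquiv ?_
  refine subsingleton_H_etale_of_points (K := (X.residueField x : Type u)) (Et18.LocCoh.str W) _ 1
    fun L _ _ _ _ i _ _ _ => ?_
  exact @Equiv.subsingleton _ _
    ((EtCoh.HF (Spec (CommRingCat.of L)) 1).mapIso (pullGmIso i)).addCommGroupIsoToAddEquiv.toEquiv
    (subsingleton_H_one_Gm L)

theorem subsingleton_H_one_sky (F : EtCoh.Ab (Spec (X.residueField x)))
    (hK : Subsingleton (EtCoh.H (Spec (X.residueField x)) F 1)) :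
    Subsingleton (EtCoh.H X ((Dix.skyPush X x).obj F) 1) := by
  let i := X.fromSpecResidueField x
  haveI : PreservesFiniteLimits (EtCoh.pull i) := inferInstance
  haveI : (EtCoh.pull i).PreservesMonomorphisms := inferInstance
  refine subsingleton_of_forall_eq 0 fun z => ?_
  refine injective_HofPush i F 1 (injective_adjExtHom_one (EtCoh.pullPushAdj i) _ F) ?_
  exact @Subsingleton.elim _ hK _ _

/-- `H²` of the units at a point. -/
theorem injective_H_two_sky [PreservesFiniteLimits (EtCoh.pull (X.fromSpecResidueField x))] :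
    Function.Injective (EtLim.HofPush (X.fromSpecResidueField x) (EtCoh.Gm (Spec (X.residueField x))) 2) := by
  refine injective_HofPush _ _ 2 (injective_adjExtHom_two (EtCoh.pullPushAdj _) _ _ ?_)
  exact SpecSeq.epi_map_of_isZero_rightDerived_one (SiteCoh.injEmbed_shortExact _) (isZero_Rpush_sky_Gm x)

end Groth.Agent.GalEt
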