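import Groth.Agent.GalEt.Basic2
import Groth.Agent.Et18.H0Lift.Supports
import Mathlib.GroupTheory.GroupAction.Basic
import Mathlib.FieldTheory.Normal.Basic

/-!
# Sheaves on a field trivialised by a Galois extension of `p`-power degree

Such a finite `p`-primary sheaf has a filtration with quotients the constant sheaf `ℤ/p`.
-/

set_option autoImplicit false
set_option linter.all false
set_option backward.isDefEq.respectTransparency.types false
set_option backward.isDefEq.respectTransparency false
set_option backward.defeqAttrib.useBackward true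
set_option synthInstance.maxHeartbeats 400000
set_option maxHeartbeats 1000000

universe u

open CategoryTheory CategoryTheory.Limits CategoryTheory.Abelian AlgebraicGeometry Opposite
open Groth.Agent.Et18 Groth.Agent.Et18.CdField

noncomputable section

namespace Groth.Agent.GalEt

variable (K : Type u) [Field K]

/-- The spectrum of a finite separable extension on the small étale site. -/
def UObj (M : Type u) [Field M] [Algebra K M] [Module.Finite K M] [Algebra.IsSeparable K M] :
    (Spec (CommRingCat.of K)).Etale :=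
  haveI := etale_mor K M
  Scheme.Etale.mk (mor K M)

/-- A nonzero stalk is detected at any geometric point. -/
theorem isZero_of_stalk (G : EtCoh.Ab (Spec (CommRingCat.of K))) {Ω : Type u} [Field Ω] [IsSepClosed Ω]
    (ξ : Spec (CommRingCat.of Ω) ⟶ Spec (CommRingCat.of K))
    (h : Subsingleton ((EtCoh.stalk ξ).obj G)) : IsZero G := by
  refine isZero_of_stalks fun x => ?_
  by_contra hx
  have hmem := (mem_supp_iff _ (sepPoint _ x) (sepPoint_default _ x)).2 hx
  exact (mem_supp_iff _ ξ (Subsingleton.elim _ x)).1 hmem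
    (@AddCommGrpCat.isZero_of_subsingleton _ h)

/-- Every point of an étale scheme over a field is hit by the spectrum of a finite separable
extension. -/
theorem exists_field_hit (V : (Spec (CommRingCat.of K)).Etale) (v : V.left) :
    ∃ (N : Type u) (_ : Field N) (_ : Algebra K N) (_ : Module.Finite K N)
      (_ : Algebra.IsSeparable K N) (g : UObj K N ⟶ V), v ∈ Set.range g.left := by
  haveI : Etale V.hom := V.prop
  obtain ⟨_, ⟨(W : V.left.Opens), hW, rfl⟩, hv, -⟩ :=
    V.left.isBasis_affineOpens.exists_subset_of_mem_open (Set.mem_univ v) isOpen_univ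
  obtain ⟨φ, hφ⟩ := Spec.map_surjective (hW.fromSpec ≫ V.hom)
  letI : Algebra K Γ(V.left, W) := φ.hom.toAlgebra
  haveI : Algebra.Etale K Γ(V.left, W) := by
    have h : Etale (Spec.map φ) := hφ ▸ inferInstance
    exact RingHom.etale_algebraMap.1 ((HasRingHomProperty.Spec_iff (P := @Etale)).1 h)
  haveI := Algebra.FormallyUnramified.finite_of_free K Γ(V.left, W)
  let P := (hW.primeIdealOf ⟨v, hv⟩).asIdeal
  haveI : IsArtinianRing Γ(V.left, W) := IsArtinianRing.of_finite K _
  haveI : P.IsMaximal := IsArtinianRing.isMaximal_of_isPrime P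
  letI := Ideal.Quotient.field P
  haveI : Algebra.FormallyUnramified Γ(V.left, W) (Γ(V.left, W) ⧸ P) :=
    Algebra.FormallyUnramified.of_surjective (Algebra.ofId _ _) Ideal.Quotient.mk_surjective
  haveI : Algebra.FormallyUnramified K (Γ(V.left, W) ⧸ P) := .comp K Γ(V.left, W) _
  haveI : Algebra.IsSeparable K (Γ(V.left, W) ⧸ P) := Algebra.FormallyUnramified.isSeparable _ _
  let q : CommRingCat.of Γ(V.left, W) ⟶ CommRingCat.of (Γ(V.left, W) ⧸ P) :=
    CommRingCat.ofHom (Ideal.Quotient.mk P)
  refine ⟨Γ(V.left, W) ⧸ P, inferInstance, inferInstance, inferInstance, inferInstance,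
    MorphismProperty.Over.homMk (Spec.map q ≫ hW.fromSpec)
      (by rw [Category.assoc, ← hφ, ← Spec.map_comp]; rfl) trivial,
    (default : ↥(Spec (CommRingCat.of (Γ(V.left, W) ⧸ P)))), ?_⟩
  show (Spec.map q ≫ hW.fromSpec) (default : ↥(Spec (CommRingCat.of (Γ(V.left, W) ⧸ P)))) = v
  rw [Scheme.Hom.comp_apply]
  have hpt : (Spec.map q) (default : ↥(Spec (CommRingCat.of (Γ(V.left, W) ⧸ P)))) =
      hW.primeIdealOf ⟨v, hv⟩ := by
    apply PrimeSpectrum.ext
    have key : ∀ z : ↥(Spec (CommRingCat.of (Γ(V.left, W) ⧸ P))),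
        Ideal.comap (Ideal.Quotient.mk P) z.asIdeal = P := fun z => by
      rcases Ideal.eq_bot_or_top z.asIdeal with h | h
      · rw [h, ← RingHom.ker_eq_comap_bot, Ideal.mk_ker]
      · exact absurd h z.2.ne_top
    exact key _
  exact (congrArg hW.fromSpec hpt).trans (hW.fromSpec_primeIdealOf ⟨v, hv⟩)

variable (M : Type u) [Field M] [Algebra K M] [Module.Finite K M] [IsGalois K M]

/-- The Galois action on the spectrum. -/
def act (σ : M ≃ₐ[K] M) : UObj K M ⟶ UObj K M :=
  MorphismProperty.Over.homMk (Spec.map (CommRingCat.ofHom σ.toAlgHom.toRingHom))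
    (by
      show _ ≫ mor K M = mor K M
      rw [mor, ← Spec.map_comp, ← CommRingCat.ofHom_comp]
      exact congrArg (fun f => Spec.map (CommRingCat.ofHom f)) σ.toAlgHom.comp_algebraMap) trivial

theorem act_mul (σ τ : M ≃ₐ[K] M) : act K M (σ * τ) = act K M σ ≫ act K M τ := by
  apply MorphismProperty.Over.Hom.ext
  show Spec.map _ = Spec.map _ ≫ Spec.map _
  rw [← Spec.map_comp]
  rfl

theorem act_one : act K M 1 = 𝟙 _ := MorphismProperty.Over.Hom.ext (Spec.map_id _)

variable (G : EtCoh.Ab (Spec (CommRingCat.of K)))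

/-- The Galois action on sections. -/
abbrev galAction : MulAction (M ≃ₐ[K] M) (EtCoh.sect G (UObj K M)) where
  smul σ t := G.obj.map (act K M σ).op t
  one_smul t := by
    show G.obj.map (act K M 1).op t = t
    rw [act_one, op_id, G.obj.map_id]; rfl
  mul_smul σ τ t := by
    show G.obj.map (act K M (σ * τ)).op t = G.obj.map (act K M σ).op (G.obj.map (act K M τ).op t)
    rw [act_mul, op_comp, Functor.map_comp_apply]

/-- The structure map to the final object. -/
abbrev toTop : UObj K M ⟶ EtCoh.top (Spec (CommRingCat.of K)) :=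
  (EtCore.topIsTerminal _).from _

theorem sect_ext (s s' : EtCoh.sect G (EtCoh.top (Spec (CommRingCat.of K))))
    (h : G.obj.map (toTop K M).op s = G.obj.map (toTop K M).op s') : s = s' :=
  H0Lift.sect_ext_of_cover G _ (fun _ : PUnit.{u + 2} => UObj K M) (fun _ => toTop K M)
    (fun x => ⟨⟨⟩, (default : ↥(Spec (CommRingCat.of M))),
      Subsingleton.elim (α := ↥(Spec (CommRingCat.of K))) _ x⟩) s s' fun _ => h

/-- Galois invariant sections descend. -/
theorem exists_descent (t : EtCoh.sect G (UObj K M))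
    (ht : ∀ σ : M ≃ₐ[K] M, G.obj.map (act K M σ).op t = t) :
    ∃ s, G.obj.map (toTop K M).op s = t := by
  refine Exists.imp (fun s hs => hs PUnit.unit) (H0Lift.exists_glue_cover (F := G)
    (EtCoh.top (Spec (CommRingCat.of K)))
    (fun _ : PUnit.{u + 2} => UObj K M) (fun _ => toTop K M)
    (fun x => ⟨⟨⟩, (default : ↥(Spec (CommRingCat.of M))),
      Subsingleton.elim (α := ↥(Spec (CommRingCat.of K))) _ x⟩) (fun _ => t) ?_)
  intro _ _ R gk gl _ r hr
  choose N iF iA iM iS g hg using exists_field_hit K R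
  have h0 : G.obj.map gk.op t = G.obj.map gl.op t := by
    refine H0Lift.sect_ext_of_cover G R
      (fun x : ULift.{u + 1} R.left => @UObj K _ (N x.down) (iF x.down) (iA x.down) (iM x.down) (iS x.down))
      (fun x => g x.down) (fun x => ⟨⟨x⟩, hg x⟩) _ _ fun x => ?_
    letI := iF x.down
    letI := iA x.down
    obtain ⟨φ₁, hφ₁⟩ := Spec.map_surjective
      ((g x.down ≫ gk).left : Spec (CommRingCat.of (N x.down)) ⟶ Spec (CommRingCat.of M))
    obtain ⟨φ₂, hφ₂⟩ := Spec.map_surjective
      ((g x.down ≫ gl).left : Spec (CommRingCat.of (N x.down)) ⟶ Spec (CommRingCat.of M))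
    have e₁ : φ₁.hom.comp (algebraMap K M) = algebraMap K (N x.down) := by
      have h : Spec.map φ₁ ≫ mor K M = mor K (N x.down) :=
        hφ₁.symm ▸ MorphismProperty.Over.w (g x.down ≫ gk)
      rw [mor, mor, ← Spec.map_comp] at h
      exact congrArg CommRingCat.Hom.hom (Spec.map_injective h)
    have e₂ : φ₂.hom.comp (algebraMap K M) = algebraMap K (N x.down) := by
      have h : Spec.map φ₂ ≫ mor K M = mor K (N x.down) :=
        hφ₂.symm ▸ MorphismProperty.Over.w (g x.down ≫ gl)
      rw [mor, mor, ← Spec.map_comp] at h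
      exact congrArg CommRingCat.Hom.hom (Spec.map_injective h)
    let ψ₂ : M →ₐ[K] N x.down := ⟨φ₂.hom, fun c => RingHom.congr_fun e₂ c⟩
    letI : Algebra M (N x.down) := φ₁.hom.toAlgebra
    haveI : IsScalarTower K M (N x.down) := IsScalarTower.of_algebraMap_eq' e₁.symm
    let σ₀ := ψ₂.restrictNormal M
    let σ : M ≃ₐ[K] M := AlgEquiv.ofBijective σ₀ (Algebra.IsAlgebraic.algHom_bijective σ₀)
    have e : g x.down ≫ gl = (g x.down ≫ gk) ≫ act K M σ := by
      apply MorphismProperty.Over.Hom.ext
      show (g x.down ≫ gl).left = (g x.down ≫ gk).left ≫ (act K M σ).left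
      rw [← hφ₁, ← hφ₂]
      show Spec.map φ₂ = Spec.map φ₁ ≫ Spec.map (CommRingCat.ofHom σ.toAlgHom.toRingHom)
      rw [← Spec.map_comp]
      refine congrArg Spec.map (CommRingCat.hom_ext (RingHom.ext fun m => ?_))
      exact (AlgHom.restrictNormal_commutes ψ₂ M m).symm
    refine (Functor.map_comp_apply G.obj gk.op (g x.down).op t).symm.trans
      (Eq.trans ?_ (Functor.map_comp_apply G.obj gl.op (g x.down).op t))
    refine Eq.trans ?_ (congrArg (fun f => G.obj.map (Quiver.Hom.op f) t) e).symm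
    refine Eq.trans ?_ (Functor.map_comp_apply G.obj (act K M σ).op (g x.down ≫ gk).op t).symm
    exact congrArg (G.obj.map (g x.down ≫ gk).op) (ht σ).symm
  rw [sub_eq_zero.2 h0] at hr
  exact hr R (𝟙 R) ⟨r, rfl⟩ (map_zero _)

/-- The separably closed field of the base point. -/
abbrev Om : Type u := AlgebraicClosure M

/-- The base geometric point of `Spec M`. -/
abbrev eta : Spec (CommRingCat.of (Om M)) ⟶ Spec (CommRingCat.of M) := mor M (Om M)

/-- The base geometric point of `Spec K`. -/
abbrev xi : Spec (CommRingCat.of (Om M)) ⟶ Spec (CommRingCat.of K) := eta M ≫ mor K M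

/-- The germ at the base point of sections over `Spec M`. -/
def germU : G.obj.obj (op (UObj K M)) ⟶ (EtCoh.stalk (xi K M)).obj G :=
  (Scheme.pointSmallEtale (xi K M)).toPresheafFiber (UObj K M) (Over.homMk (eta M) rfl) G.obj

theorem germU_injective : Function.Injective (germU K M G) := by
  refine (injective_iff_map_eq_zero (germU K M G).hom).2 fun t ht => ?_
  have h0 : germU K M G t = germU K M G 0 := ht.trans (map_zero _).symm
  obtain ⟨W, g, w, -, h⟩ :=
    ((Scheme.pointSmallEtale (xi K M)).toPresheafFiber_eq_iff' (P := G.obj) _ _ t 0).mp h0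
  refine H0Lift.sect_ext_of_cover G (UObj K M) (fun _ : PUnit.{u + 2} => W) (fun _ => g)
    (fun x => ⟨⟨⟩, (w.left : Spec (CommRingCat.of (Om M)) ⟶ W.left) (default : ↥(Spec (CommRingCat.of (Om M)))),
      Subsingleton.elim (α := ↥(Spec (CommRingCat.of M))) _ x⟩) t 0 fun _ => h

/-- Finite `p`-primary sheaves all of whose germs are defined over `M`. -/
structure Good (p : ℕ) : Prop where
  tors : EtAcyc.IsLTorsion {p} G
  fin : Finite ((EtCoh.stalk (xi K M)).obj G)
  surj : Function.Surjective (germU K M G)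

variable {G}

theorem exists_pow_nsmul_stalk {p : ℕ} (h : Good K M G p) (a : (EtCoh.stalk (xi K M)).obj G) :
    ∃ k : ℕ, p ^ k • a = 0 := by
  obtain ⟨m, hm, h0⟩ := (isLTorsion_iff_stalks _ _).1 h.tors _ (xi K M) a
  refine ⟨m.primeFactorsList.length, ?_⟩
  rwa [← Nat.eq_prime_pow_of_unique_prime_dvd hm.1.ne' fun {d} hd hdvd => hm.2 d hd hdvd]

theorem Good.of_epi {p : ℕ} (h : Good K M G p) {Q : EtCoh.Ab (Spec (CommRingCat.of K))} (φ : G ⟶ Q)
    [Epi φ] : Good K M Q p := by
  haveI : Epi ((EtCoh.stalk (xi K M)).map φ) := inferInstance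
  have hs : Function.Surjective ((EtCoh.stalk (xi K M)).map φ) :=
    (AddCommGrpCat.epi_iff_surjective _).1 inferInstance
  haveI := h.fin
  refine ⟨Et18.isLTorsion_of_epi _ φ h.tors, Finite.of_surjective _ hs, fun b => ?_⟩
  obtain ⟨a, rfl⟩ := hs b
  obtain ⟨t, rfl⟩ := h.surj a
  exact ⟨φ.hom.app (op (UObj K M)) t,
    ((Scheme.pointSmallEtale (xi K M)).toPresheafFiber_naturality_apply φ.hom (UObj K M)
      (Over.homMk (eta M) rfl) t).symm⟩

/-- A nonzero global section killed by `p`. -/
theorem exists_section {p : ℕ} (hp : p.Prime) (hM : IsPGroup p (M ≃ₐ[K] M)) (h : Good K M G p)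
    [Nontrivial ((EtCoh.stalk (xi K M)).obj G)] :
    ∃ s : EtCoh.sect G (EtCoh.top (Spec (CommRingCat.of K))),
      p • s = 0 ∧ germU K M G (G.obj.map (toTop K M).op s) ≠ 0 := by
  haveI := Fact.mk hp
  letI := galAction K M G
  haveI := h.fin
  have hinj := germU_injective K M G
  haveI : Finite (EtCoh.sect G (UObj K M)) := Finite.of_injective _ hinj
  haveI : Nontrivial (EtCoh.sect G (UObj K M)) := Function.Surjective.nontrivial h.surj
  have htors : ∀ t : EtCoh.sect G (UObj K M), ∃ k : ℕ, p ^ k • t = 0 := fun t => by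
    obtain ⟨k, hk⟩ := exists_pow_nsmul_stalk K M h (germU K M G t)
    exact ⟨k, hinj (by rw [map_nsmul, map_zero]; exact hk)⟩
  have hdvd : p ∣ Nat.card (EtCoh.sect G (UObj K M)) := by
    have h1 : Nat.card (EtCoh.sect G (UObj K M)) ≠ 1 := Finite.one_lt_card.ne'
    obtain ⟨q, hq, hqd⟩ := Nat.exists_prime_and_dvd h1
    haveI := Fact.mk hq
    obtain ⟨t, ht⟩ := exists_prime_addOrderOf_dvd_card' q hqd
    obtain ⟨k, hk⟩ := htors t
    have := addOrderOf_dvd_iff_nsmul_eq_zero.2 hk
    rw [ht] at this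
    rwa [(Nat.prime_dvd_prime_iff_eq hq hp).1 (hq.dvd_of_dvd_pow this)] at hqd
  obtain ⟨b, hb, hb0⟩ := hM.exists_fixed_point_of_prime_dvd_card_of_fixed_point
    (EtCoh.sect G (UObj K M)) hdvd (a := 0) (fun σ => map_zero (G.obj.map (act K M σ).op).hom)
  classical
  let k := Nat.find (htors b)
  have hk : k ≠ 0 := fun h0 => hb0 (by
    have := Nat.find_spec (htors b)
    rw [show Nat.find (htors b) = 0 from h0] at this
    simpa using this.symm)
  let c := p ^ (k - 1) • b
  have hc : c ≠ 0 := Nat.find_min (htors b) (Nat.sub_lt (Nat.pos_of_ne_zero hk) one_pos)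
  have hpc : p • c = 0 := by
    show p • (p ^ (k - 1) • b) = 0
    rw [smul_smul, ← pow_succ', Nat.sub_add_cancel (Nat.pos_of_ne_zero hk)]
    exact Nat.find_spec (htors b)
  obtain ⟨s, hs⟩ := exists_descent K M G c fun σ =>
    (map_nsmul (G.obj.map (act K M σ).op).hom _ _).trans (congrArg (p ^ (k - 1) • ·) (hb σ))
  refine ⟨s, sect_ext K M G _ _ (by rw [map_nsmul, hs, map_zero, hpc]), ?_⟩
  rw [hs]
  exact fun h0 => hc (hinj (h0.trans (map_zero _).symm))

/-- The basic exact sequence: a copy of `ℤ/p` in a nonzero sheaf. -/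
theorem exists_mono_zmod_const {p : ℕ} (hp : p.Prime) (hM : IsPGroup p (M ≃ₐ[K] M))
    (h : Good K M G p) [Nontrivial ((EtCoh.stalk (xi K M)).obj G)] :
    ∃ ψ : EtCoh.const (Spec (CommRingCat.of K)) (ZMod p) ⟶ G, Mono ψ ∧
      ¬ Function.Injective ((EtCoh.stalk (xi K M)).map (cokernel.π ψ)) := by
  haveI := Fact.mk hp
  let X := Spec (CommRingCat.of K)
  obtain ⟨s, hps, hgs⟩ := exists_section K M hp hM h
  let f : ZMod p →+ G.obj.obj (op (EtCoh.top X)) :=
    ZMod.lift p ⟨zmultiplesHom _ s, by rw [zmultiplesHom_apply, natCast_zsmul]; exact hps⟩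
  let A := AddCommGrpCat.of (ULift.{u + 1} (ZMod p))
  let f' : A ⟶ G.obj.obj (op (EtCoh.top X)) :=
    AddCommGrpCat.ofHom (f.comp AddEquiv.ulift.toAddMonoidHom)
  let ψ : EtCoh.const X (ZMod p) ⟶ G := ((EtCore.constAdj X).homEquiv A G).symm f'
  have hψ : ∀ a : A, (EtCoh.stalk (xi K M)).map ψ (cstGerm (xi K M) A a) =
      germU K M G (G.obj.map (toTop K M).op (f' a)) := by
    intro a
    have h1 : cstSec A (EtCoh.top X) ≫ ψ.hom.app (op (EtCoh.top X)) = f' :=
      (EtCore.constAdj X).homEquiv A G |>.apply_symm_apply f'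
    have h2 := (Scheme.pointSmallEtale (xi K M)).toPresheafFiber_naturality_apply ψ.hom
      (EtCoh.top X) (topPt (xi K M)) (cstSec A (EtCoh.top X) a)
    refine h2.trans ?_
    rw [← ConcreteCategory.comp_apply (cstSec A (EtCoh.top X)), h1]
    refine (congrArg (fun v => (Scheme.pointSmallEtale (xi K M)).toPresheafFiber (EtCoh.top X) v G.obj (f' a))
      (fiber_top_eq (xi K M) (topPt (xi K M))
        ((Scheme.pointSmallEtale (xi K M)).fiber.map (toTop K M) (Over.homMk (eta M) rfl)))).trans ?_
    exact ((Scheme.pointSmallEtale (xi K M)).toPresheafFiber_w_apply _ _ G.obj _).symm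
  let F : ZMod p →+ (EtCoh.stalk (xi K M)).obj G :=
    ((germU K M G).hom.comp (G.obj.map (toTop K M).op).hom).comp f
  have hF1 : F 1 ≠ 0 := by
    have : f 1 = s := by
      have := ZMod.lift_coe p ⟨zmultiplesHom _ s, by rw [zmultiplesHom_apply, natCast_zsmul]; exact hps⟩ 1
      simpa [f] using this
    show germU K M G (G.obj.map (toTop K M).op (f 1)) ≠ 0
    rwa [this]
  have hFinj : Function.Injective F := (injective_iff_map_eq_zero F).2 fun z hz => by
    by_contra hne
    apply hF1
    rw [show (1 : ZMod p) = (z⁻¹).val • z by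
      rw [nsmul_eq_mul, ZMod.natCast_val, ZMod.cast_id, inv_mul_cancel₀ hne], map_nsmul, hz, nsmul_zero]
  have hψinj : Function.Injective ((EtCoh.stalk (xi K M)).map ψ) := fun a b hab => by
    obtain ⟨a, rfl⟩ := (cstGerm_bijective (xi K M) A).2 a
    obtain ⟨b, rfl⟩ := (cstGerm_bijective (xi K M) A).2 b
    rw [hψ, hψ] at hab
    exact congrArg _ (ULift.ext _ _ (hFinj hab))
  have hmono : Mono ψ := by
    refine Preadditive.mono_of_kernel_zero ((isZero_of_stalk K (kernel ψ) (xi K M) ?_).eq_of_src _ _)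
    refine ⟨fun a b => ?_⟩
    haveI : Mono ((EtCoh.stalk (xi K M)).map (kernel.ι ψ)) := inferInstance
    have hk : ∀ c : (EtCoh.stalk (xi K M)).obj (kernel ψ), c = 0 := fun c => by
      refine (AddCommGrpCat.mono_iff_injective _).1 ‹_› ?_
      rw [map_zero]
      refine hψinj ?_
      rw [map_zero, ← ConcreteCategory.comp_apply, ← Functor.map_comp, kernel.condition,
        Functor.map_zero]
      rfl
    rw [hk a, hk b]
  refine ⟨ψ, hmono, fun hi => hF1 ?_⟩
  have h0 : (EtCoh.stalk (xi K M)).map (cokernel.π ψ)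
      ((EtCoh.stalk (xi K M)).map ψ (cstGerm (xi K M) A (ULift.up 1))) = 0 := by
    rw [← ConcreteCategory.comp_apply, ← Functor.map_comp, cokernel.condition, Functor.map_zero]
    rfl
  have h1 := hi (h0.trans (map_zero _).symm)
  rw [hψ] at h1
  exact h1

/-- A good sheaf has no cohomology in degree `n` when `ℤ/p` has none. -/
theorem Good.subsingleton_H {p : ℕ} (hp : p.Prime) (hM : IsPGroup p (M ≃ₐ[K] M)) (n : ℕ)
    (hz : Subsingleton (EtCoh.H (Spec (CommRingCat.of K))
      (EtCoh.const (Spec (CommRingCat.of K)) (ZMod p)) n))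
    (h : Good K M G p) : Subsingleton (EtCoh.H (Spec (CommRingCat.of K)) G n) := by
  generalize hN : Nat.card ((EtCoh.stalk (xi K M)).obj G) = N
  induction N using Nat.strong_induction_on generalizing G with
  | _ N ih =>
    subst hN
    haveI := h.fin
    rcases subsingleton_or_nontrivial ((EtCoh.stalk (xi K M)).obj G) with h0 | h0
    · have hzero := isZero_of_stalk K G (xi K M) h0
      refine subsingleton_of_forall_eq_zero fun z => ?_
      refine (Ext.comp_mk₀_id z).symm.trans ?_
      rw [hzero.eq_of_src (𝟙 _) 0, Ext.mk₀_zero, Ext.comp_zero]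
    · obtain ⟨ψ, hψ, hni⟩ := exists_mono_zmod_const K M hp hM h
      haveI : Epi ((EtCoh.stalk (xi K M)).map (cokernel.π ψ)) := inferInstance
      have hs : Function.Surjective ((EtCoh.stalk (xi K M)).map (cokernel.π ψ)) :=
        (AddCommGrpCat.epi_iff_surjective _).1 inferInstance
      refine subsingleton_of_shortExact (shortExact_cokernel ψ) hz ?_
      refine ih _ (lt_of_le_of_ne (Nat.card_le_card_of_surjective _ hs) fun he => ?_)
        (h.of_epi K M (cokernel.π ψ)) rfl
      haveI : Finite ((EtCoh.stalk (xi K M)).obj (cokernel ψ)) := Finite.of_surjective _ hs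
      exact hni (hs.bijective_of_nat_card_le he.symm.le).1

/-- A sheaf made constant with finite `p`-primary value by `M` is good. -/
theorem good_of_triv {p : ℕ} (hG : EtAcyc.IsLTorsion {p} G) {A : AddCommGrpCat.{u + 1}} [Finite A]
    (hT : Triv (mor K M) G A) : Good K M G p := by
  haveI := etale_mor K M
  haveI : EtShriek.JCont (mor K M) := jCont (mor K M)
  obtain ⟨i⟩ := hT
  let i' : (EtShriek.restrAlong (mor K M)).obj G ≅ (cst _).obj A :=
    ((pullRestrIso (mor K M)).app G).symm ≪≫ i
  let eU : (EtShriek.compEtale (mor K M)).obj (EtCoh.top (Spec (CommRingCat.of M))) ≅ UObj K M :=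
    MorphismProperty.Over.isoMk (Iso.refl _)
      ((Category.id_comp _).trans (Category.id_comp _).symm)
  let η := eta M
  let eA : (EtCoh.stalk (xi K M)).obj G ≅ A :=
    ((stalkPullIso (mor K M) η).app G).symm ≪≫ (EtCoh.stalk η).mapIso i ≪≫
      (asIso (cstGerm η A)).symm
  let c : A ⟶ G.obj.obj (op (UObj K M)) :=
    cstSec A (EtCoh.top (Spec (CommRingCat.of M))) ≫ i'.inv.hom.app (op _) ≫
      G.obj.map eU.inv.op
  have hcinj : Function.Injective c := by
    haveI : IsIso (i'.inv.hom.app (op (EtCoh.top (Spec (CommRingCat.of M))))) :=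
      inferInstanceAs (IsIso ((CategoryTheory.sheafToPresheaf _ _ ⋙
        (CategoryTheory.evaluation _ _).obj (op (EtCoh.top (Spec (CommRingCat.of M))))).map i'.inv))
    have hsec : Function.Injective (cstSec A (EtCoh.top (Spec (CommRingCat.of M)))) := fun a b hab =>
      (cstGerm_bijective η A).1 (by rw [cstGerm, ConcreteCategory.comp_apply, ConcreteCategory.comp_apply, hab])
    intro a b hab
    refine hsec ((ConcreteCategory.bijective_of_isIso (i'.inv.hom.app _)).1 ?_)
    exact (ConcreteCategory.bijective_of_isIso (G.obj.map eU.inv.op)).1 hab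
  haveI hfin : Finite ((EtCoh.stalk (xi K M)).obj G) :=
    Finite.of_injective eA.hom (ConcreteCategory.bijective_of_isIso eA.hom).1
  refine ⟨hG, hfin, ?_⟩
  have hinj : Function.Injective (fun a => germU K M G (c a)) :=
    (germU_injective K M G).comp hcinj
  have hcard : Nat.card A = Nat.card ((EtCoh.stalk (xi K M)).obj G) :=
    (Nat.card_congr (Equiv.ofBijective _ (ConcreteCategory.bijective_of_isIso eA.hom))).symm
  intro b
  obtain ⟨a, ha⟩ := (hinj.bijective_of_nat_card_le hcard.ge).2 b
  exact ⟨c a, ha⟩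

end Groth.Agent.GalEt
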