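import Groth.Agent.GalEt.Cyclic
import Groth.Prelude.Def_SixF3
import Mathlib.GroupTheory.IndexNormal
import Mathlib.FieldTheory.Galois.GaloisClosure

/-!
# `cd_p ≤ 1`, the Brauer group and norms
-/

set_option autoImplicit false
set_option linter.all false
set_option backward.isDefEq.respectTransparency.types false
set_option backward.isDefEq.respectTransparency false
set_option backward.defeqAttrib.useBackward true
set_option synthInstance.maxHeartbeats 400000
set_option maxHeartbeats 1000000

universe u

open CategoryTheory CategoryTheory.Limits CategoryTheory.Abelian AlgebraicGeometry Opposite Polynomial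
open Groth.Agent.Et18 Groth.Agent.Et18.CdField

noncomputable section

namespace Groth.Agent.GalEt

variable {p : ℕ}

theorem mor_tower (K P M : Type u) [Field K] [Field P] [Field M] [Algebra K P] [Algebra K M]
    [Algebra P M] [IsScalarTower K P M] : mor P M ≫ mor K P = mor K M := by
  rw [mor, mor, mor, ← Spec.map_comp, ← CommRingCat.ofHom_comp, ← IsScalarTower.algebraMap_eq]

theorem eq_zero_of_kill_tower (K P M : Type u) [Field K] [Field P] [Field M] [Algebra K P]
    [Algebra K M] [Algebra P M] [IsScalarTower K P M] (F : EtCoh.Ab (Spec (CommRingCat.of K))) (q : ℕ)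
    (x : EtCoh.H (Spec (CommRingCat.of K)) F q) (h : EtCore.Hpull (mor K M) F q x = 0) :
    EtCore.Hpull (mor P M) _ q (EtCore.Hpull (mor K P) F q x) = 0 := by
  rw [HpullComp.Hpull_comp]
  have e : ∀ {Y : Scheme.{u}} (f g : Y ⟶ Spec (CommRingCat.of K)), f = g →
      EtCore.Hpull f F q x = 0 → EtCore.Hpull g F q x = 0 := fun f g h => h ▸ id
  rw [e _ _ (mor_tower K P M).symm h, map_zero]

/-- Pullback of units. -/
def gmComp (K L : Type u) [Field K] [Field L] [Algebra K L] :
    (EtCoh.pull (mor K L)).obj (EtCoh.Gm (Spec (CommRingCat.of K))) ⟶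
      EtCoh.Gm (Spec (CommRingCat.of L)) :=
  ((EtCoh.pullPushAdj (mor K L)).homEquiv _ _).symm (EtLim.GmPush (mor K L))

theorem isIso_gmComp (K L : Type u) [Field K] [Field L] [Algebra K L] [Module.Finite K L] [Etale (mor K L)] :
    IsIso (gmComp K L) := by
  let π := mor K L
  haveI : EtShriek.JCont π := jCont π
  let j : (EtShriek.restrAlong π).obj (EtCoh.Gm (Spec (CommRingCat.of K))) ≅
      EtCoh.Gm (Spec (CommRingCat.of L)) :=
    (CategoryTheory.fullyFaithfulSheafToPresheaf _ _).preimageIso
      (NatIso.ofComponents (fun _ => Iso.refl _) (fun _ => rfl))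
  have h : gmComp K L = (pullRestrIso π).hom.app _ ≫ j.hom := by
    rw [gmComp, Equiv.symm_apply_eq, Adjunction.homEquiv_unit, Functor.map_comp, ← Category.assoc,
      unit_pullRestr]
    apply CategoryTheory.Sheaf.hom_ext
    refine NatTrans.ext (funext fun V => ConcreteCategory.hom_ext _ _ fun t => ?_)
    rfl
  rw [h]
  infer_instance

/-- Pullback of classes is natural in the coefficients. -/
theorem Hpull_map {X Y : Scheme.{u}} (f : X ⟶ Y) [PreservesFiniteLimits (EtCoh.pull f)]
    {G G' : EtCoh.Ab Y} (φ : G ⟶ G') (q : ℕ) (y : EtCoh.H Y G q) :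
    EtCore.Hpull f G' q ((EtCoh.HF Y q).map φ y) =
      (EtCoh.HF X q).map ((EtCoh.pull f).map φ) (EtCore.Hpull f G q y) := by
  rw [HpullComp.Hpull_eq_hPull, HpullComp.Hpull_eq_hPull, HF_map_apply, HF_map_apply]
  exact EtLimit.extPull_comp (EtCoh.pull f) _ _ _ _ _ ((Category.comp_id _).trans (Category.id_comp _).symm) q y

theorem eq_zero_of_kill_tower' (K L M : Type u) [Field K] [Field L] [Field M] [Algebra K L]
    [Algebra K M] [Algebra L M] [IsScalarTower K L M] (F : EtCoh.Ab (Spec (CommRingCat.of K))) (q : ℕ)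
    (x : EtCoh.H (Spec (CommRingCat.of K)) F q) (h : EtCore.Hpull (mor K L) F q x = 0) :
    EtCore.Hpull (mor K M) F q x = 0 := by
  have e : ∀ {Y : Scheme.{u}} (f g : Y ⟶ Spec (CommRingCat.of K)), f = g →
      EtCore.Hpull f F q x = 0 → EtCore.Hpull g F q x = 0 := fun f g h => h ▸ id
  refine e _ _ (mor_tower K L M) ?_
  have h' := HpullComp.Hpull_comp (mor L M) (mor K L) q F x
  rw [h, map_zero] at h'
  exact (ConcreteCategory.bijective_of_isIso
    ((EtCoh.HF _ q).map ((EtCore.pullComp (mor L M) (mor K L)).hom.app F))).1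
    (h'.symm.trans (map_zero _).symm)

theorem mem_zpowers_of_card_prime {G : Type*} [Group G] [Finite G] (hp : p.Prime)
    (hG : Nat.card G = p) : ∃ σ : G, ∀ τ, τ ∈ Subgroup.zpowers σ := by
  haveI := Fact.mk hp
  haveI := isCyclic_of_prime_card hG
  exact IsCyclic.exists_generator

/-- `ℤ/p` has no cohomology in degree two when `μ_p` has none and `K` has a primitive root. -/
theorem subsingleton_H_zmod_of_root (K : Type u) [Field K] (hp : p.Prime) (hpK : (p : K) ≠ 0)
    (ζ : K) (hζ : IsPrimitiveRoot ζ p)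
    (hBr : ∀ x : EtCoh.H (Spec (CommRingCat.of K)) (EtCoh.Gm (Spec (CommRingCat.of K))) 2,
      p • x = 0 → x = 0) :
    Subsingleton (EtCoh.H (Spec (CommRingCat.of K)) (EtCoh.const _ (ZMod p)) 2) := by
  let S := Spec (CommRingCat.of K)
  let e := (Scheme.ΓSpecIso (CommRingCat.of K)).commRingCatIsoToRingEquiv
  have hn : IsUnit (p : Γ(S, ⊤)) := by
    rw [← map_natCast e.symm p]
    exact (isUnit_iff_ne_zero.2 hpK).map e.symm
  let z : Γ(S, ⊤)ˣ := Units.map e.symm.toRingHom.toMonoidHom (Units.mk0 ζ (hζ.ne_zero hp.ne_zero))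
  have hz : z ^ p = 1 := by
    apply Units.ext
    show e.symm ζ ^ p = 1
    rw [← map_pow, hζ.pow_eq_one, map_one]
  have hc : aeval (z : Γ(S, ⊤)) (cyclotomic p ℤ) = 0 := by
    show aeval (e.symm ζ) (cyclotomic p ℤ) = 0
    rw [show e.symm ζ = (e.symm.toRingHom.toIntAlgHom) ζ from rfl, aeval_algHom_apply]
    have h : aeval ζ (cyclotomic p ℤ) = 0 := by
      haveI : NeZero (p : K) := ⟨hpK⟩
      rw [aeval_def, eval₂_eq_eval_map, map_cyclotomic]
      exact (Polynomial.isRoot_cyclotomic_iff.2 hζ)
    rw [h, map_zero]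
  obtain ⟨i⟩ := HenselLib.Kummer.nonempty_iso p hp.one_lt.le z hz hn hc
  have hepi := HenselLib.Kummer.epi_powMap (S := S) p hn
  have hS := EtSix.kummerShortExact hepi
  haveI : Mono (EtCoh.muι S p) := hS.mono_f
  have hμ : p • 𝟙 (EtCoh.mu S p) = 0 := by
    rw [← cancel_mono (EtCoh.muι S p), Preadditive.nsmul_comp, Category.id_comp, Limits.zero_comp]
    exact (TorsionColim.nsmul_id_comp _ _).symm.trans (kernel.condition _)
  have key : ∀ w : EtCoh.H S (EtCoh.mu S p) 2, w = 0 := fun w => by
    have h1 : (Ext.comp w (Ext.mk₀ (EtCoh.muι S p)) (add_zero 2) : EtCoh.H S (EtCoh.Gm S) 2) = 0 := by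
      refine hBr _ ?_
      have h2 := map_nsmul (((Ext.bilinearComp _ _ _ 2 0 2 (add_zero 2)).flip)
        (Ext.mk₀ (EtCoh.muι S p))) p w
      refine h2.symm.trans ?_
      rw [nsmul_eq_zero_of_nsmul_id _ p hμ 2 w, map_zero]
    obtain ⟨z', hz'⟩ := Ext.covariant_sequence_exact₁ _ hS w h1 (rfl : 1 + 1 = 2)
    rw [← hz', show z' = 0 from (subsingleton_H_one_Gm K).elim _ _, Ext.zero_comp]
  refine subsingleton_of_forall_eq_zero fun w => ?_
  refine ((EtCoh.HF S 2).mapIso i.symm).addCommGroupIsoToAddEquiv.injective ?_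
  rw [map_zero]
  exact key _

/-- Adjoining a primitive `p`-th root of unity is an extension of degree prime to `p`. -/
theorem exists_root_extension (L : Type u) [Field L] (hp : p.Prime) (hpL : (p : L) ≠ 0) :
    ∃ (L' : Type u) (_ : Field L') (_ : Algebra L L') (_ : Module.Finite L L')
      (_ : Algebra.IsSeparable L L') (ζ : L'), IsPrimitiveRoot ζ p ∧ ¬ p ∣ Module.finrank L L' := by
  haveI : NeZero (p : L) := ⟨hpL⟩
  haveI : NeZero (p : SeparableClosure L) := NeZero.nat_of_injective (algebraMap L (SeparableClosure L)).injective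
  have hdeg : (cyclotomic p (SeparableClosure L)).degree ≠ 0 :=
    (degree_cyclotomic_pos p _ hp.pos).ne'
  obtain ⟨ζ, hζ⟩ := IsSepClosed.exists_root (cyclotomic p (SeparableClosure L)) hdeg
    (separable_cyclotomic p (SeparableClosure L))
  have hζ' : IsPrimitiveRoot ζ p := Polynomial.isRoot_cyclotomic_iff.1 hζ
  have hint : IsIntegral L ζ := Algebra.IsIntegral.isIntegral ζ
  let L' := IntermediateField.adjoin L ({ζ} : Set (SeparableClosure L))
  haveI : Module.Finite L L' := IntermediateField.adjoin.finiteDimensional hint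
  haveI : Algebra.IsSeparable L L' :=
    Algebra.isSeparable_tower_bot_of_isSeparable L L' (SeparableClosure L)
  refine ⟨L', inferInstance, inferInstance, inferInstance, inferInstance,
    IntermediateField.AdjoinSimple.gen L ζ, ?_, ?_⟩
  · exact IsPrimitiveRoot.of_map_of_injective (f := (algebraMap L' (SeparableClosure L))) hζ'
      (algebraMap L' (SeparableClosure L)).injective
  · intro hd
    have h1 : Module.finrank L L' = (minpoly L ζ).natDegree := IntermediateField.adjoin.finrank hint
    have h2 : (minpoly L ζ).natDegree ≤ p - 1 := by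
      have hdvd : minpoly L ζ ∣ cyclotomic p L := minpoly.dvd L ζ (by
        rw [aeval_def, eval₂_eq_eval_map, map_cyclotomic]
        exact hζ)
      have := natDegree_le_of_dvd hdvd (cyclotomic_ne_zero p L)
      rwa [natDegree_cyclotomic, Nat.totient_prime hp] at this
    have h3 := Nat.le_of_dvd Module.finrank_pos hd
    have := hp.pos
    omega

section Norms

variable (k : Type u) [Field k]

/-- Norms from cyclic extensions of degree `p` are surjective, over every finite separable extension. -/
def NormSurj (p : ℕ) : Prop :=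
  ∀ (K : Type u) [Field K] [Algebra k K] [FiniteDimensional k K] [Algebra.IsSeparable k K]
    (L : Type u) [Field L] [Algebra K L] [FiniteDimensional K L] [IsGalois K L],
    Module.finrank K L = p → ∀ x : K, x ≠ 0 → ∃ y : L, Algebra.norm K y = x

theorem eq_zero_of_pGroup (hp : p.Prime) (h3 : NormSurj k p) :
    ∀ (m : ℕ) (K : Type u) [Field K] [Algebra k K] [FiniteDimensional k K] [Algebra.IsSeparable k K]
      (M : Type u) [Field M] [Algebra K M] [FiniteDimensional K M] [IsGalois K M],
      Nat.card (M ≃ₐ[K] M) = p ^ m →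
      ∀ x : EtCoh.H (Spec (CommRingCat.of K)) (EtCoh.Gm (Spec (CommRingCat.of K))) 2,
        EtCore.Hpull (mor K M) _ 2 x = 0 → x = 0 := by
  haveI := Fact.mk hp
  intro m
  induction m with
  | zero =>
    intro K _ _ _ _ M _ _ _ _ hM x hx
    have h := finrank_nsmul_eq_zero K M _ 2 x hx
    rwa [← IsGalois.card_aut_eq_finrank, hM, pow_zero, one_nsmul] at h
  | succ m ih =>
    intro K _ _ _ _ M _ _ _ _ hM x hx
    obtain ⟨H, hH⟩ := Sylow.exists_subgroup_card_pow_prime p (n := m) (G := M ≃ₐ[K] M)
      (by rw [hM]; exact pow_dvd_pow p (Nat.le_succ m))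
    have hidx : H.index = p := by
      have h := Subgroup.card_mul_index H
      rw [hH, hM, pow_succ] at h
      exact Nat.eq_of_mul_eq_mul_left (pow_pos hp.pos m) h
    haveI : H.Normal := Subgroup.normal_of_index_eq_minFac_card (by
      rw [hidx, hM, Nat.Prime.pow_minFac hp (Nat.succ_ne_zero m)])
    let P := IntermediateField.fixedField H
    haveI : Algebra.IsSeparable K P := Algebra.isSeparable_tower_bot_of_isSeparable K P M
    haveI : IsGalois K P := IsGalois.of_fixedField_normal_subgroup H
    have hPK : Module.finrank K P = p := by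
      rw [IntermediateField.finrank_eq_fixingSubgroup_index, IntermediateField.fixingSubgroup_fixedField,
        hidx]
    letI : Algebra k P := ((algebraMap K P).comp (algebraMap k K)).toAlgebra
    haveI : IsScalarTower k K P := IsScalarTower.of_algebraMap_eq' rfl
    haveI : Algebra.IsSeparable k P := Algebra.IsSeparable.trans k K P
    haveI : FiniteDimensional k P := Module.Finite.trans K P
    haveI : FiniteDimensional P M := Module.Finite.of_restrictScalars_finite K P M
    have hPM : Nat.card (M ≃ₐ[P] M) = p ^ m := by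
      rw [IsGalois.card_aut_eq_finrank, IntermediateField.finrank_fixedField_eq_card, hH]
    have hxP : EtCore.Hpull (mor K P) _ 2 x = 0 := by
      haveI := etale_mor K P
      have h1 := eq_zero_of_kill_tower K P M _ 2 x hx
      haveI : IsIso (gmComp K P) := isIso_gmComp K P
      refine ((EtCoh.HF (Spec (CommRingCat.of P)) 2).mapIso (asIso (gmComp K P))).addCommGroupIsoToAddEquiv.injective ?_
      rw [map_zero]
      refine ih P M hPM _ ?_
      exact (Hpull_map (mor P M) (gmComp K P) 2 _).trans (by rw [h1, map_zero])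
    obtain ⟨σ, hσ⟩ := mem_zpowers_of_card_prime (G := P ≃ₐ[K] P) hp
      (by rw [IsGalois.card_aut_eq_finrank, hPK])
    exact eq_zero_of_cyclic K P σ hσ (fun c hc => h3 K P hPK c hc) x hxP

theorem eq_zero_on_intermediate (hp : p.Prime) (h3 : NormSurj k p) (K : Type u) [Field K] [Algebra k K]
    [FiniteDimensional k K] [Algebra.IsSeparable k K] (P M : Type u) [Field P] [Field M] [Algebra K P]
    [Algebra K M] [Algebra P M] [IsScalarTower K P M] [Module.Finite K P] [Algebra.IsSeparable K P]
    [FiniteDimensional P M] [IsGalois P M] (a : ℕ) (hM : Nat.card (M ≃ₐ[P] M) = p ^ a)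
    (x : EtCoh.H (Spec (CommRingCat.of K)) (EtCoh.Gm (Spec (CommRingCat.of K))) 2)
    (hxM : EtCore.Hpull (mor K M) _ 2 x = 0) : EtCore.Hpull (mor K P) _ 2 x = 0 := by
  letI : Algebra k P := ((algebraMap K P).comp (algebraMap k K)).toAlgebra
  haveI : IsScalarTower k K P := IsScalarTower.of_algebraMap_eq' rfl
  haveI : Algebra.IsSeparable k P := Algebra.IsSeparable.trans k K P
  haveI : FiniteDimensional k P := Module.Finite.trans K P
  haveI := etale_mor K P
  have h1 := eq_zero_of_kill_tower K P M _ 2 x hxM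
  haveI : IsIso (gmComp K P) := isIso_gmComp K P
  refine ((EtCoh.HF (Spec (CommRingCat.of P)) 2).mapIso (asIso (gmComp K P))).addCommGroupIsoToAddEquiv.injective ?_
  rw [map_zero]
  refine eq_zero_of_pGroup k hp h3 a P M hM _ ?_
  exact (Hpull_map (mor P M) (gmComp K P) 2 _).trans (by rw [h1, map_zero])

/-- Norm surjectivity kills the `p`-torsion of the Brauer group. -/
theorem eq_zero_of_normSurj (hp : p.Prime) (h3 : NormSurj k p) (K : Type u) [Field K] [Algebra k K]
    [FiniteDimensional k K] [Algebra.IsSeparable k K]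
    (x : EtCoh.H (Spec (CommRingCat.of K)) (EtCoh.Gm (Spec (CommRingCat.of K))) 2)
    (hx : ∃ m : ℕ, p ^ m • x = 0) : x = 0 := by
  haveI := Fact.mk hp
  obtain ⟨j, hj⟩ := hx
  obtain ⟨L, _, _, _, _, hL⟩ := exists_Hpull_eq_zero K 1 _ x
  let ι : L →ₐ[K] SeparableClosure K := IsSepClosed.lift
  letI : Algebra L (SeparableClosure K) := ι.toRingHom.toAlgebra
  haveI : IsScalarTower K L (SeparableClosure K) :=
    IsScalarTower.of_algebraMap_eq' ι.comp_algebraMap.symm
  let M := IntermediateField.normalClosure K L (SeparableClosure K)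
  let S : Sylow p (M ≃ₐ[K] M) := default
  let P := IntermediateField.fixedField (S : Subgroup (M ≃ₐ[K] M))
  haveI : Algebra.IsSeparable K P := Algebra.isSeparable_tower_bot_of_isSeparable K P M
  haveI : FiniteDimensional P M := Module.Finite.of_restrictScalars_finite K P M
  have hxM : EtCore.Hpull (mor K M) _ 2 x = 0 := by
    have h := eq_zero_of_kill_tower' K L M _ 2 x hL
    exact h
  have hidx : ¬ p ∣ Module.finrank K P := by
    rw [IntermediateField.finrank_eq_fixingSubgroup_index, IntermediateField.fixingSubgroup_fixedField]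
    exact S.not_dvd_index
  obtain ⟨a, ha⟩ : ∃ a, Nat.card (M ≃ₐ[P] M) = p ^ a := by
    rw [IsGalois.card_aut_eq_finrank, IntermediateField.finrank_fixedField_eq_card]
    exact IsPGroup.iff_card.1 S.isPGroup'
  have hxP : EtCore.Hpull (mor K P) _ 2 x = 0 := eq_zero_on_intermediate k hp h3 K P M a ha x hxM
  exact eq_zero_of_coprime (finrank_nsmul_eq_zero K P _ 2 x hxP) hj
    (Nat.Coprime.pow_right j ((Nat.Prime.coprime_iff_not_dvd hp).2 hidx).symm)

end Norms

end Groth.Agent.GalEt
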