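import Groth.Agent.GalEt.PGroup
import Groth.Agent.HenselLib.KummerSheaf
import Mathlib.RepresentationTheory.Homological.GroupCohomology.Hilbert90

/-!
# First étale cohomology of a field by crossed homomorphisms; Hilbert 90 for `G_m`
-/

set_option autoImplicit false
set_option linter.all false
set_option backward.isDefEq.respectTransparency.types false
set_option backward.isDefEq.respectTransparency false
set_option backward.defeqAttrib.useBackward true
set_option synthInstance.maxHeartbeats 400000
set_option maxHeartbeats 1000000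

universe u

open CategoryTheory CategoryTheory.Limits CategoryTheory.Abelian AlgebraicGeometry Opposite
open Groth.Agent.Et18 Groth.Agent.Et18.CdField

noncomputable section

namespace Groth.Agent.GalEt

variable (K : Type u) [Field K]

/-- The morphism of sites objects of a tower. -/
def towerHom (L M : Type u) [Field L] [Field M] [Algebra K L] [Algebra K M] [Algebra L M]
    [IsScalarTower K L M] [Module.Finite K L] [Module.Finite K M] [Algebra.IsSeparable K L]
    [Algebra.IsSeparable K M] : UObj K M ⟶ UObj K L :=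
  MorphismProperty.Over.homMk (Spec.map (CommRingCat.ofHom (algebraMap L M)))
    (by
      show _ ≫ mor K L = mor K M
      rw [mor, mor, ← Spec.map_comp, ← CommRingCat.ofHom_comp, ← IsScalarTower.algebraMap_eq]) trivial

/-- Sections of an epimorphism lift over a finite Galois extension. -/
theorem exists_galois_lift {I Q : EtCoh.Ab (Spec (CommRingCat.of K))} (g : I ⟶ Q) [Epi g]
    (s : EtCoh.sect Q (EtCoh.top (Spec (CommRingCat.of K)))) :
    ∃ (M : Type u) (_ : Field M) (_ : Algebra K M) (_ : Module.Finite K M) (_ : IsGalois K M)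
      (y : EtCoh.sect I (UObj K M)),
      g.hom.app (op (UObj K M)) y = Q.obj.map (toTop K M).op s := by
  haveI : Sheaf.IsLocallySurjective g :=
    (Sheaf.isLocallySurjective_iff_epi' (A := AddCommGrpCat.{u + 1}) g).2 inferInstance
  obtain ⟨Z, k, ⟨y, hy⟩, z, -⟩ := EtCechLib.exists_mem_of_mem
    (Presheaf.imageSieve_mem (Spec (CommRingCat.of K)).smallEtaleTopology g.hom s)
    ((default : ↥(Spec (CommRingCat.of K))) : (EtCoh.top (Spec (CommRingCat.of K))).left)
  obtain ⟨L, _, _, _, _, a, -⟩ := exists_field_hit K Z z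
  let ι : L →ₐ[K] SeparableClosure K := IsSepClosed.lift
  letI : Algebra L (SeparableClosure K) := ι.toRingHom.toAlgebra
  haveI : IsScalarTower K L (SeparableClosure K) :=
    IsScalarTower.of_algebraMap_eq' ι.comp_algebraMap.symm
  let M := IntermediateField.normalClosure K L (SeparableClosure K)
  let b : UObj K M ⟶ Z := towerHom K L M ≫ a
  refine ⟨M, inferInstance, inferInstance, inferInstance, inferInstance, I.obj.map b.op y, ?_⟩
  rw [NatTrans.naturality_apply]
  refine (congrArg (Q.obj.map b.op) hy).trans ?_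
  refine (Functor.map_comp_apply Q.obj k.op b.op s).symm.trans ?_
  exact congrArg (fun f => Q.obj.map f s) (congrArg Quiver.Hom.op ((EtCore.topIsTerminal _).hom_ext (b ≫ k) (toTop K M)))

/-- `H¹` vanishes when every Galois crossed homomorphism into the sections is principal. -/
theorem subsingleton_H_one (F : EtCoh.Ab (Spec (CommRingCat.of K)))
    (h : ∀ (M : Type u) [Field M] [Algebra K M] [Module.Finite K M] [IsGalois K M]
      (a : (M ≃ₐ[K] M) → EtCoh.sect F (UObj K M)),
      (∀ σ τ, a (σ * τ) = F.obj.map (act K M σ).op (a τ) + a σ) →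
      ∃ b, ∀ σ, F.obj.map (act K M σ).op b - b = a σ) :
    Subsingleton (EtCoh.H (Spec (CommRingCat.of K)) F 1) := by
  refine subsingleton_of_forall_eq_zero fun x => ?_
  let S := SiteCoh.injEmbed F
  have hE := SiteCoh.injEmbed_shortExact F
  haveI := hE.epi_g
  haveI := hE.mono_f
  haveI : Injective S.X₂ := inferInstanceAs (Injective (Injective.under F))
  obtain ⟨θ, rfl⟩ := Ext.covariant_sequence_exact₁ _ hE x (Ext.eq_zero_of_injective _)
    (rfl : 0 + 1 = 1)
  obtain ⟨s, rfl⟩ := (Ext.mk₀_bijective _ _).2 θ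
  let s₀ := EtLimit.secOf s
  obtain ⟨M, _, _, _, _, y, hy⟩ := exists_galois_lift K S.g s₀
  let U := UObj K M
  -- the kernel of `g` on sections is the image of `f`
  have hker : ∀ (w : EtCoh.sect S.X₂ U), S.g.hom.app (op U) w = 0 →
      ∃ v : EtCoh.sect F U, S.f.hom.app (op U) v = w := by
    intro w hw
    have h2 : ((S.map (CategoryTheory.sheafToPresheaf _ AddCommGrpCat.{u + 1} ⋙
        (CategoryTheory.evaluation _ _).obj (op U)))).Exact := by
      haveI : PreservesFiniteLimits (CategoryTheory.sheafToPresheaf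
          (Spec (CommRingCat.of K)).smallEtaleTopology AddCommGrpCat.{u + 1} ⋙
        (CategoryTheory.evaluation _ _).obj (op U)) := comp_preservesFiniteLimits _ _
      exact hE.exact.map_of_mono_of_preservesKernel _ hE.mono_f inferInstance
    exact (ShortComplex.ab_exact_iff _).1 h2 w hw
  have hfinj : Function.Injective (S.f.hom.app (op U)) :=
    app_injective_of_mono S.f (op U)
  have hinv : ∀ σ : M ≃ₐ[K] M, S.g.hom.app (op U) (S.X₂.obj.map (act K M σ).op y - y) = 0 := by
    intro σ
    rw [map_sub, NatTrans.naturality_apply, hy]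
    refine sub_eq_zero.2 ((Functor.map_comp_apply S.X₃.obj (toTop K M).op (act K M σ).op s₀).symm.trans ?_)
    exact congrArg (fun f => S.X₃.obj.map f s₀)
      (congrArg Quiver.Hom.op ((EtCore.topIsTerminal _).hom_ext (act K M σ ≫ toTop K M) (toTop K M)))
  choose a ha using fun σ => hker _ (hinv σ)
  have hnat : ∀ (σ : M ≃ₐ[K] M) (v : EtCoh.sect F U),
      S.f.hom.app (op U) (F.obj.map (act K M σ).op v) =
        S.X₂.obj.map (act K M σ).op (S.f.hom.app (op U) v) :=
    fun σ v => NatTrans.naturality_apply S.f.hom _ v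
  obtain ⟨b, hb⟩ := h M a fun σ τ => hfinj (by
    rw [map_add, hnat, ha, ha, ha, map_sub, act_mul, op_comp, Functor.map_comp_apply]
    abel)
  let y' := y - S.f.hom.app (op U) b
  have hy' : ∀ σ : M ≃ₐ[K] M, S.X₂.obj.map (act K M σ).op y' = y' := by
    intro σ
    have h1 := congrArg (S.f.hom.app (op U)) (hb σ)
    rw [map_sub, hnat, ha] at h1
    rw [map_sub]
    exact sub_eq_sub_iff_sub_eq_sub.1 h1.symm
  obtain ⟨t, ht⟩ := exists_descent K M S.X₂ y' hy'
  have hgt : S.g.hom.app (op _) t = s₀ := by
    refine sect_ext K M S.X₃ _ _ ?_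
    rw [← NatTrans.naturality_apply, ht, ← hy]
    show S.g.hom.app (op U) (y - S.f.hom.app (op U) b) = _
    rw [map_sub]
    have h0 : S.g.hom.app (op U) (S.f.hom.app (op U) b) = 0 := by
      rw [← ConcreteCategory.comp_apply, ← NatTrans.comp_app]
      have : S.f.hom ≫ S.g.hom = 0 := congrArg (fun φ => φ.hom) S.zero
      rw [this]
      rfl
    rw [h0, sub_zero]
  obtain ⟨l, hl⟩ := EtLimit.exists_secOf t
  have hls : l ≫ S.g = s := EtLimit.secOf_injective (by
    rw [TorsionColim.secOf_comp, hl, hgt])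
  rw [← hls, ← Ext.mk₀_comp_mk₀, Ext.comp_assoc_of_second_deg_zero, hE.comp_extClass, Ext.comp_zero]

/-- Hilbert 90: `H¹(K, G_m) = 0`. -/
theorem subsingleton_H_one_Gm :
    Subsingleton (EtCoh.H (Spec (CommRingCat.of K)) (EtCoh.Gm (Spec (CommRingCat.of K))) 1) := by
  refine subsingleton_H_one K _ fun M _ _ _ _ a ha => ?_
  let U := UObj K M
  let e : Γ(U.left, ⊤)ˣ ≃* Mˣ := Units.mapEquiv (Scheme.ΓSpecIso (CommRingCat.of M)).commRingCatIsoToRingEquiv.toMulEquiv
  choose v hv using fun σ => HenselLib.Kummer.sec_surjective (a σ)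
  have hact : ∀ (σ : M ≃ₐ[K] M) (w : Γ(U.left, ⊤)ˣ),
      e (Units.map (act K M σ).left.appTop.hom.toMonoidHom w) = σ • e w := by
    intro σ w
    apply Units.ext
    exact RingHom.congr_fun (congrArg CommRingCat.Hom.hom
      (Scheme.ΓSpecIso_naturality (CommRingCat.ofHom σ.toAlgHom.toRingHom))) (w : Γ(U.left, ⊤))
  have hf : groupCohomology.IsMulCocycle₁ (fun σ => e (v σ)) := fun σ τ => by
    show e (v (σ * τ)) = σ • e (v τ) * e (v σ)
    rw [← hact, ← map_mul]
    refine congrArg e (HenselLib.Kummer.sec_injective ?_)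
    rw [HenselLib.Kummer.sec_mul, ← HenselLib.Kummer.map_sec, hv, hv, hv]
    exact ha σ τ
  obtain ⟨β, hβ⟩ := groupCohomology.isMulCoboundary₁_of_isMulCocycle₁_of_aut_to_units _ hf
  refine ⟨HenselLib.Kummer.sec (e.symm β), fun σ => sub_eq_of_eq_add' ?_⟩
  rw [HenselLib.Kummer.map_sec, ← hv, ← HenselLib.Kummer.sec_mul]
  refine congrArg HenselLib.Kummer.sec (e.injective ?_)
  rw [hact, map_mul, MulEquiv.apply_symm_apply]
  have h1 : σ • β / β = e (v σ) := hβ σ
  exact (div_eq_iff_eq_mul'.1 h1)

end Groth.Agent.GalEt
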