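import Groth.Agent.Et18.CdField
import Groth.Agent.Et18.Descent0.ClosedPoint
import Groth.Agent.Et18.HpullComp
import Groth.Agent.EtGabber.Local

/-!
# Étale cohomology of a field: restriction to finite separable extensions

The kernel of restriction along a finite étale cover of degree `d` is killed by `d`, and a class of
positive degree dies on a finite separable extension.
-/

set_option autoImplicit false
set_option linter.all false
set_option backward.isDefEq.respectTransparency.types false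
set_option backward.isDefEq.respectTransparency false
set_option backward.defeqAttrib.useBackward true
set_option synthInstance.maxHeartbeats 400000
set_option maxHeartbeats 1000000

universe u

open CategoryTheory CategoryTheory.Limits CategoryTheory.Abelian AlgebraicGeometry Opposite
open Groth.Agent.Et18 Groth.Agent.Et18.CdField Groth.Agent.EtMV

noncomputable section

namespace Groth.Agent.GalEt

variable {X Y : Scheme.{u}}

/-- A class killed by pullback along an integral morphism dies in the direct image. -/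
theorem comp_unit_eq_zero (π : Y ⟶ X) [IsIntegralHom π] [PreservesFiniteLimits (EtCoh.pull π)]
    (F : EtCoh.Ab X) (n : ℕ) (α : EtCoh.H X F n) (hα : EtCore.Hpull π F n α = 0) :
    Ext.comp α (Ext.mk₀ ((EtCoh.pullPushAdj π).unit.app F)) (add_zero n) = 0 := by
  have := push_preservesHomology_of_integral π
  haveI : PreservesFiniteColimits (EtCoh.push π) :=
    (EtCoh.push π).preservesFiniteColimits_of_preservesHomology
  haveI : PreservesFiniteLimits (EtCoh.push π) :=
    (EtCoh.push π).preservesFiniteLimits_of_preservesHomology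
  have h0 : Ext.mapExactFunctor.{u + 1, u + 1} (EtCoh.pull π) α = 0 := by
    have h1 : (Ext.mk₀ (EtCore.pullConst π ℤ).inv).comp
        (Ext.mapExactFunctor.{u + 1, u + 1} (EtCoh.pull π) α) (zero_add n) = 0 := hα
    have h2 := congrArg (fun w => (Ext.mk₀ (EtCore.pullConst π ℤ).hom).comp w (zero_add n)) h1
    simp only [Ext.mk₀_comp_mk₀_assoc, Iso.hom_inv_id, Ext.comp_zero] at h2
    exact (Ext.mk₀_id_comp _).symm.trans h2
  have h3 := Descent0.ext_app_map_map.{_, _, _, _, u + 1, u + 1} (EtCoh.pull π) (EtCoh.push π)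
    (EtCoh.pullPushAdj π).unit n F α
  rw [h0, Ext.mapExactFunctor_zero, Ext.comp_zero] at h3
  exact h3.symm

/-- The kernel of pullback along a finite étale morphism of degree `d` is killed by `d`. -/
theorem nsmul_eq_zero_of_Hpull (π : Y ⟶ X) [IsFinite π] [Etale π]
    [PreservesFiniteLimits (EtCoh.pull π)] (d : ℕ) (hd : ∀ x : X, π.finrank x = d) (F : EtCoh.Ab X)
    (n : ℕ) (α : EtCoh.H X F n) (hα : EtCore.Hpull π F n α = 0) : d • α = 0 := by
  haveI : EtShriek.JCont π := jCont π
  have h1 := congrArg (fun w => Ext.comp w (Ext.mk₀ ((pushPullAdj π).counit.app F)) (add_zero n))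
    (comp_unit_eq_zero π F n α hα)
  simp only [Ext.comp_assoc_of_second_deg_zero, Ext.mk₀_comp_mk₀, Ext.zero_comp] at h1
  rw [unit_trace π d hd F] at h1
  have h2 : (Ext.mk₀ (d • 𝟙 F) : Ext.{u + 1} F F 0) = d • Ext.mk₀ (𝟙 F) :=
    map_nsmul (Ext.addEquiv₀ (X := F) (Y := F)).symm.toAddMonoidHom _ _
  rw [h2] at h1
  have h3 : Ext.comp α (d • Ext.mk₀ (𝟙 F)) (add_zero n) =
      d • Ext.comp α (Ext.mk₀ (𝟙 F)) (add_zero n) :=
    map_nsmul ((Ext.bilinearComp _ _ _ n 0 n (add_zero n)) α) _ _
  rw [h3, Ext.comp_mk₀_id] at h1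
  exact h1

section Field

variable (K : Type u) [Field K] (L : Type u) [Field L] [Algebra K L] [Module.Finite K L]

theorem finrank_mor (x : Spec (CommRingCat.of K)) :
    (mor K L).finrank x = Module.finrank K L := by
  rw [show mor K L = Spec.map (CommRingCat.ofHom (algebraMap K L)) from rfl,
    Scheme.Hom.finrank_SpecMap_algebraMap, Module.rankAtStalk_eq_finrank_of_free]
  rfl

/-- The degree of a finite separable extension kills the kernel of restriction. -/
theorem finrank_nsmul_eq_zero [Algebra.IsSeparable K L] [PreservesFiniteLimits (EtCoh.pull (mor K L))]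
    (F : EtCoh.Ab (Spec (CommRingCat.of K))) (n : ℕ) (α : EtCoh.H (Spec (CommRingCat.of K)) F n)
    (hα : EtCore.Hpull (mor K L) F n α = 0) : Module.finrank K L • α = 0 :=
  haveI := etale_mor K L
  nsmul_eq_zero_of_Hpull (mor K L) _ (finrank_mor K L) F n α hα

end Field

/-- Global sections of an epimorphism lift after a finite separable extension. -/
theorem exists_lift_field (K : Type u) [Field K] {I G : EtCoh.Ab (Spec (CommRingCat.of K))}
    (g : I ⟶ G) [Epi g] (s : EtCoh.const (Spec (CommRingCat.of K)) ℤ ⟶ G) :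
    ∃ (L : Type u) (_ : Field L) (_ : Algebra K L) (_ : Module.Finite K L)
      (_ : Algebra.IsSeparable K L)
      (l : EtCoh.const (Spec (CommRingCat.of L)) ℤ ⟶ (EtCoh.pull (mor K L)).obj I),
      l ≫ (EtCoh.pull (mor K L)).map g =
        (EtCore.pullConst (mor K L) ℤ).inv ≫ (EtCoh.pull (mor K L)).map s := by
  haveI : Sheaf.IsLocallySurjective g :=
    (Sheaf.isLocallySurjective_iff_epi' (A := AddCommGrpCat.{u + 1}) g).2 inferInstance
  let X := Spec (CommRingCat.of K)
  let M := AddCommGrpCat.of (ULift.{u + 1} ℤ)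
  let one : M := ULift.up 1
  let s₀ := sec M s one
  obtain ⟨Z, k, ⟨y, hy⟩, z, -⟩ := EtCechLib.exists_mem_of_mem
    (Presheaf.imageSieve_mem X.smallEtaleTopology g.hom s₀) ((default : ↥(Spec (CommRingCat.of K))) : (EtCoh.top X).left)
  haveI : Etale Z.hom := Z.prop
  obtain ⟨L, iF, iA, iM, iS, p, hp⟩ := exists_field_point K Z.left Z.hom z
  refine ⟨L, iF, iA, iM, iS, ?_⟩
  let π := mor K L
  let sel : EtCoh.top (Spec (CommRingCat.of L)) ⟶ (EtCoh.bc π).obj Z :=
    MorphismProperty.Over.homMk (pullback.lift p (𝟙 _) (by rw [hp, Category.id_comp]))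
      (pullback.lift_snd _ _ _) trivial
  let N := (EtCoh.pull π).obj I
  let eta' : ∀ (F : EtCoh.Ab X) (V : X.Etale), F.obj.obj (op V) →
      ((EtCoh.pull π).obj F).obj.obj (op ((EtCoh.bc π).obj V)) := fun F V t =>
    EtGabber.eta π F V t
  let t := N.obj.map sel.op (eta' I Z y)
  let tt : M ⟶ N.obj.obj (op (EtCoh.top (Spec (CommRingCat.of L)))) :=
    AddCommGrpCat.ofHom ((zmultiplesHom _ t).comp AddEquiv.ulift.toAddMonoidHom)
  let l : EtCoh.const (Spec (CommRingCat.of L)) ℤ ⟶ N := ((EtCore.constAdj _).homEquiv M N).symm tt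
  have hl : sec M l = tt := Equiv.apply_symm_apply _ _
  refine ⟨l, ((EtCore.constAdj _).homEquiv M _).injective ?_⟩
  have h1 : sec M (l ≫ (EtCoh.pull π).map g) = tt ≫ ((EtCoh.pull π).map g).hom.app _ :=
    ((EtCore.constAdj _).homEquiv_naturality_right _ _).trans (by rw [← hl]; rfl)
  have h2 : sec M ((EtCore.pullConst π ℤ).inv ≫ (EtCoh.pull π).map s) one =
      ((EtCoh.pull π).obj G).obj.map (EtCore.bcTopIso π).inv.op (eta' G (EtCoh.top X) s₀) := by
    have := sec_pull π M s (𝟙 ((EtCoh.pull π).obj G)) one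
    rwa [Category.comp_id] at this
  have h3 : sec M (l ≫ (EtCoh.pull π).map g) one =
      sec M ((EtCore.pullConst π ℤ).inv ≫ (EtCoh.pull π).map s) one := by
    rw [h2, h1]
    show ((EtCoh.pull π).map g).hom.app _ (tt one) = _
    have ht : tt one = t := one_zsmul t
    rw [ht, show t = N.obj.map sel.op (EtGabber.eta π I Z y) from rfl, NatTrans.naturality_apply,
      EtGabber.pull_map_eta]
    have hy' : g.hom.app (op Z) y = G.obj.map k.op s₀ := hy
    rw [hy']
    have hn := NatTrans.naturality_apply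
      ((EtCoh.pullPushAdj π).homEquiv _ _ (𝟙 ((EtCoh.pull π).obj G))).hom k.op s₀
    refine (congrArg (((EtCoh.pull π).obj G).obj.map sel.op) hn).trans ?_
    refine ((ConcreteCategory.congr_hom (((EtCoh.pull π).obj G).obj.map_comp ((EtCoh.bc π).map k).op
      sel.op) _).symm).trans ?_
    refine congrArg (fun m => ((EtCoh.pull π).obj G).obj.map (Quiver.Hom.op m)
      (EtGabber.eta π G (EtCoh.top X) s₀)) ?_
    exact (EtCore.bcTopIsTerminal π).hom_ext _ _
  refine AddCommGrpCat.hom_ext (AddMonoidHom.ext fun n => ?_)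
  obtain ⟨n⟩ := n
  have hn : (ULift.up n : ULift.{u + 1} ℤ) = n • one := by
    apply ULift.ext
    show n = n • (1 : ℤ)
    simp
  show sec M (l ≫ (EtCoh.pull π).map g) (ULift.up n) =
    sec M ((EtCore.pullConst π ℤ).inv ≫ (EtCoh.pull π).map s) (ULift.up n)
  rw [hn, map_zsmul, map_zsmul, h3]

/-- A class of positive degree on a field dies on a finite separable extension. -/
theorem exists_Hpull_eq_zero (K : Type u) [Field K] (n : ℕ) :
    ∀ (F : EtCoh.Ab (Spec (CommRingCat.of K))) (ξ : EtCoh.H (Spec (CommRingCat.of K)) F (n + 1)),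
      ∃ (L : Type u) (_ : Field L) (_ : Algebra K L) (_ : Module.Finite K L)
        (_ : Algebra.IsSeparable K L),
        EtCore.Hpull (mor K L) F (n + 1) ξ = 0 := by
  induction n with
  | zero =>
    intro F ξ
    let S := SiteCoh.injEmbed F
    have hE := SiteCoh.injEmbed_shortExact F
    haveI := hE.epi_g
    haveI : Injective S.X₂ := inferInstanceAs (Injective (Injective.under F))
    obtain ⟨θ, rfl⟩ := Ext.covariant_sequence_exact₁ _ hE ξ (Ext.eq_zero_of_injective _)
      (rfl : 0 + 1 = 0 + 1)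
    obtain ⟨s, rfl⟩ := (Ext.mk₀_bijective _ _).2 θ
    obtain ⟨L, iF, iA, iM, iS, l, hl⟩ := exists_lift_field K S.g s
    refine ⟨L, iF, iA, iM, iS, ?_⟩
    show (Ext.mk₀ (EtCore.pullConst (mor K L) ℤ).inv).comp
      (Ext.mapExactFunctor.{u + 1, u + 1} (EtCoh.pull (mor K L)) _) (zero_add _) = 0
    rw [Ext.mapExactFunctor_comp, Ext.mapExactFunctor_mk₀, Ext.mapExactFunctor_extClass,
      Ext.mk₀_comp_mk₀_assoc, ← hl, ← Ext.mk₀_comp_mk₀_assoc]
    erw [(hE.map_of_exact (EtCoh.pull (mor K L))).comp_extClass]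
    rw [Ext.comp_zero]
  | succ n ih =>
    intro F ξ
    let S := SiteCoh.injEmbed F
    have hE := SiteCoh.injEmbed_shortExact F
    haveI : Injective S.X₂ := inferInstanceAs (Injective (Injective.under F))
    obtain ⟨θ, rfl⟩ := Ext.covariant_sequence_exact₁ _ hE ξ (Ext.eq_zero_of_injective _)
      (rfl : (n + 1) + 1 = _)
    obtain ⟨L, iF, iA, iM, iS, h⟩ := ih _ θ
    refine ⟨L, iF, iA, iM, iS, ?_⟩
    show (Ext.mk₀ (EtCore.pullConst (mor K L) ℤ).inv).comp
      (Ext.mapExactFunctor.{u + 1, u + 1} (EtCoh.pull (mor K L)) _) (zero_add _) = 0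
    have h' : (Ext.mk₀ (EtCore.pullConst (mor K L) ℤ).inv).comp
      (Ext.mapExactFunctor.{u + 1, u + 1} (EtCoh.pull (mor K L)) θ) (zero_add _) = 0 := h
    rw [Ext.mapExactFunctor_comp,
      ← Ext.comp_assoc _ _ _ (zero_add (n + 1)) rfl (by omega : 0 + (n + 1) + 1 = n + 1 + 1), h',
      Ext.zero_comp]

/-- Cohomology of a field in positive degree is torsion. -/
theorem exists_pos_nsmul_eq_zero (K : Type u) [Field K] (F : EtCoh.Ab (Spec (CommRingCat.of K)))
    (i : ℕ) (hi : 0 < i) (x : EtCoh.H (Spec (CommRingCat.of K)) F i) :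
    ∃ d : ℕ, 0 < d ∧ d • x = 0 := by
  obtain ⟨n, rfl⟩ : ∃ n, i = n + 1 := ⟨i - 1, (Nat.succ_pred_eq_of_pos hi).symm⟩
  obtain ⟨L, _, _, _, _, h⟩ := exists_Hpull_eq_zero K n F x
  exact ⟨_, Module.finrank_pos, finrank_nsmul_eq_zero K L F _ x h⟩

end Groth.Agent.GalEt
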