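import Groth.Agent.GalEt.Basic
import Mathlib.FieldTheory.Galois.Basic
import Mathlib.GroupTheory.Sylow

/-!
# Étale cohomology of a field: consequences of the transfer
-/

set_option autoImplicit false
set_option linter.all false
set_option backward.isDefEq.respectTransparency.types false
set_option backward.isDefEq.respectTransparency false
set_option backward.defeqAttrib.useBackward true
set_option synthInstance.maxHeartbeats 400000
set_option maxHeartbeats 1000000

universe u

open CategoryTheory CategoryTheory.Limits CategoryTheory.Abelian AlgebraicGeometry Opposite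
open Groth.Agent.Et18 Groth.Agent.Et18.CdField

noncomputable section

namespace Groth.Agent.GalEt

theorem eq_zero_of_coprime {A : Type*} [AddCommGroup A] {x : A} {a b : ℕ} (ha : a • x = 0)
    (hb : b • x = 0) (h : Nat.Coprime a b) : x = 0 := by
  have h1 : addOrderOf x ∣ Nat.gcd a b :=
    Nat.dvd_gcd (addOrderOf_dvd_iff_nsmul_eq_zero.2 ha) (addOrderOf_dvd_iff_nsmul_eq_zero.2 hb)
  rw [h.gcd_eq_one, Nat.dvd_one] at h1
  exact AddMonoid.addOrderOf_eq_one_iff.1 h1

theorem subsingleton_of_forall_eq_zero {A : Type*} [AddCommGroup A] (h : ∀ x : A, x = 0) :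
    Subsingleton A := ⟨fun a b => (h a).trans (h b).symm⟩

variable {X : Scheme.{u}}

/-- Composing with a multiple of the identity multiplies the class. -/
theorem comp_nsmul_id (F : EtCoh.Ab X) (n : ℕ) (x : EtCoh.H X F n) (d : ℕ) :
    Ext.comp x (Ext.mk₀ (d • 𝟙 F)) (add_zero n) = d • x := by
  have h2 : (Ext.mk₀ (d • 𝟙 F) : Ext.{u + 1} F F 0) = d • Ext.mk₀ (𝟙 F) :=
    map_nsmul (Ext.addEquiv₀ (X := F) (Y := F)).symm.toAddMonoidHom _ _
  rw [h2]
  have h3 : Ext.comp x (d • Ext.mk₀ (𝟙 F)) (add_zero n) =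
      d • Ext.comp x (Ext.mk₀ (𝟙 F)) (add_zero n) :=
    map_nsmul ((Ext.bilinearComp _ _ _ n 0 n (add_zero n)) x) _ _
  rw [h3, Ext.comp_mk₀_id]

/-- Coefficients killed by `d` give cohomology killed by `d`. -/
theorem nsmul_eq_zero_of_nsmul_id (F : EtCoh.Ab X) (d : ℕ) (h : d • 𝟙 F = 0) (n : ℕ)
    (x : EtCoh.H X F n) : d • x = 0 := by
  rw [← comp_nsmul_id F n x d, h, Ext.mk₀_zero, Ext.comp_zero]

/-- A sheaf killed by a positive integer is torsion. -/
theorem isTorsion_of_nsmul_id (F : EtCoh.Ab X) (d : ℕ) (hd : 0 < d) (h : d • 𝟙 F = 0) :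
    EtCoh.IsTorsion F := fun U s x =>
  ⟨U, 𝟙 U, ⟨x, rfl⟩, (isOfFinAddOrder_iff_nsmul_eq_zero).2 ⟨d, hd, by
    rw [op_id, F.obj.map_id]
    show d • s = 0
    have h1 : (((CategoryTheory.sheafToPresheaf _ _) ⋙ (CategoryTheory.evaluation _ _).obj (op U)).map (d • 𝟙 F)) s = 0 := by
      rw [h, Functor.map_zero]; rfl
    rw [Functor.map_nsmul, CategoryTheory.Functor.map_id] at h1
    exact h1⟩⟩

section Field

variable (k : Type u) [Field k]

/-- Uniquely divisible coefficients are acyclic. -/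
theorem subsingleton_H_of_isIso_nsmul (F : EtCoh.Ab (Spec (CommRingCat.of k)))
    (hdiv : ∀ n : ℕ, 0 < n → IsIso (n • 𝟙 F)) (i : ℕ) (hi : 0 < i) :
    Subsingleton (EtCoh.H (Spec (CommRingCat.of k)) F i) := by
  refine subsingleton_of_forall_eq_zero fun x => ?_
  obtain ⟨d, hd, h0⟩ := exists_pos_nsmul_eq_zero k F i hi x
  haveI := hdiv d hd
  have h1 : Ext.comp x (Ext.mk₀ (d • 𝟙 F)) (add_zero i) = 0 := (comp_nsmul_id F i x d).trans h0
  have h2 := congrArg (fun w => Ext.comp w (Ext.mk₀ (inv (d • 𝟙 F))) (add_zero i)) h1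
  simp only [Ext.comp_assoc_of_second_deg_zero, Ext.mk₀_comp_mk₀, IsIso.hom_inv_id,
    Ext.zero_comp] at h2
  exact (Ext.comp_mk₀_id x).symm.trans h2

/-- `cd_p` of all sheaves is at most one more than `cd_p` of torsion sheaves. -/
theorem eq_zero_of_cd_torsion {p n : ℕ} (hp : p.Prime)
    (hcd : ∀ (G : EtCoh.Ab X), EtCoh.IsTorsion G → ∀ q : ℕ, n < q →
        ∀ x : EtCoh.H X G q, (∃ m : ℕ, p ^ m • x = 0) → x = 0)
    (F : EtCoh.Ab X) (q : ℕ) (hq : n + 1 < q) (x : EtCoh.H X F q) (hx : ∃ m : ℕ, p ^ m • x = 0) :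
    x = 0 := by
  obtain ⟨m, hm⟩ := hx
  let N := p ^ m
  let μ : F ⟶ F := N • 𝟙 F
  let a : kernel μ ⟶ F := kernel.ι μ
  let e : F ⟶ Abelian.image μ := Abelian.factorThruImage μ
  let b : Abelian.image μ ⟶ F := Abelian.image.ι μ
  let S₁ := ShortComplex.mk a e (by
    rw [← cancel_mono b, Category.assoc, Abelian.image.fac, zero_comp]; exact kernel.condition μ)
  let S₂ := ShortComplex.mk b (cokernel.π μ) (kernel.condition _)
  have hS₁ : S₁.ShortExact :=
    { exact := by
        refine ShortComplex.exact_of_f_is_kernel _ (KernelFork.IsLimit.ofι' a S₁.zero fun {W} t ht =>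
          ⟨kernel.lift μ t ?_, kernel.lift_ι _ _ _⟩)
        have ht' : t ≫ e = 0 := ht
        rw [← Abelian.image.fac μ, ← Category.assoc, ht', zero_comp]
      mono_f := inferInstanceAs (Mono (kernel.ι μ))
      epi_g := inferInstanceAs (Epi (Abelian.factorThruImage μ)) }
  have hS₂ : S₂.ShortExact :=
    { exact := ShortComplex.exact_of_f_is_kernel _ (kernelIsKernel _)
      mono_f := inferInstanceAs (Mono (Abelian.image.ι μ))
      epi_g := inferInstanceAs (Epi (cokernel.π μ)) }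
  have hQ : N • 𝟙 (cokernel μ) = 0 := by
    rw [← cancel_epi (cokernel.π μ), Preadditive.comp_nsmul, Category.comp_id, comp_zero]
    have : N • cokernel.π μ = μ ≫ cokernel.π μ := by
      show N • cokernel.π μ = (N • 𝟙 F) ≫ cokernel.π μ
      rw [Preadditive.nsmul_comp, Category.id_comp]
    rw [this, cokernel.condition]
  have hK : N • 𝟙 (kernel μ) = 0 := by
    rw [← cancel_mono a, Preadditive.nsmul_comp, Category.id_comp, zero_comp]
    have : N • a = a ≫ μ := by
      show N • a = a ≫ (N • 𝟙 F)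
      rw [Preadditive.comp_nsmul, Category.comp_id]
    rw [this]
    exact kernel.condition μ
  have hN : 0 < N := pow_pos hp.pos m
  let y := Ext.comp x (Ext.mk₀ e) (add_zero q)
  have hy : Ext.comp y (Ext.mk₀ b) (add_zero q) = 0 := by
    rw [Ext.comp_assoc_of_second_deg_zero, Ext.mk₀_comp_mk₀, Abelian.image.fac]
    exact (comp_nsmul_id F q x N).trans hm
  obtain ⟨q', rfl⟩ : ∃ q', q = q' + 1 := ⟨q - 1, by omega⟩
  obtain ⟨z, hz⟩ := Ext.covariant_sequence_exact₁ _ hS₂ y hy (n₀ := q') rfl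
  have hz0 : (z : EtCoh.H X (cokernel μ) q') = 0 :=
    hcd _ (isTorsion_of_nsmul_id _ N hN hQ) q' (by omega) z
      ⟨m, nsmul_eq_zero_of_nsmul_id _ N hQ q' z⟩
  have hy0 : Ext.comp x (Ext.mk₀ S₁.g) (add_zero _) = 0 := by
    show y = 0
    rw [← hz, show z = 0 from hz0, Ext.zero_comp]
  obtain ⟨w, hw⟩ := Ext.covariant_sequence_exact₂ _ hS₁ x hy0
  have hw0 : (w : EtCoh.H X (kernel μ) (q' + 1)) = 0 :=
    hcd _ (isTorsion_of_nsmul_id _ N hN hK) _ (by omega) w
      ⟨m, nsmul_eq_zero_of_nsmul_id _ N hK _ w⟩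
  rw [← hw, show w = 0 from hw0, Ext.zero_comp]

/-- `cd_p` does not grow along integral morphisms. -/
theorem eq_zero_of_cd_integral {Y : Scheme.{u}} (f : Y ⟶ X) [IsIntegralHom f] {p n : ℕ}
    (hcd : ∀ (G : EtCoh.Ab X), EtCoh.IsTorsion G → ∀ q : ℕ, n < q →
        ∀ x : EtCoh.H X G q, (∃ m : ℕ, p ^ m • x = 0) → x = 0)
    (F : EtCoh.Ab Y) (hF : EtCoh.IsTorsion F) (q : ℕ) (hq : n < q) (x : EtCoh.H Y F q)
    (hx : ∃ m : ℕ, p ^ m • x = 0) : x = 0 := by
  have := push_preservesHomology_of_integral f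
  haveI : PreservesFiniteColimits (EtCoh.push f) :=
    (EtCoh.push f).preservesFiniteColimits_of_preservesHomology
  haveI : (EtCoh.pull f).PreservesMonomorphisms := inferInstance
  obtain ⟨e⟩ := SiteCoh.extAdjEquiv_of_exact (EtCoh.pullPushAdj f) F (EtCoh.const X ℤ) q
  obtain ⟨m, hm⟩ := hx
  let c := EtCore.pullConst f ℤ
  let x' : Ext.{u + 1} ((EtCoh.pull f).obj (EtCoh.const X ℤ)) F q :=
    (Ext.mk₀ c.hom).comp x (zero_add q)
  have hx' : p ^ m • x' = 0 := by
    have h3 : (Ext.mk₀ c.hom).comp (p ^ m • x) (zero_add q) = p ^ m • x' :=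
      map_nsmul ((Ext.bilinearComp _ _ _ 0 q q (zero_add q)) (Ext.mk₀ c.hom)) _ _
    have h4 : (p ^ m • x : EtCoh.H Y F q) = 0 := hm
    rw [← h3, h4, Ext.comp_zero]
  have hpush : EtCoh.IsTorsion ((EtCoh.push f).obj F) := by
    rw [TorsionColim.isTorsion_iff] at hF ⊢
    exact isLTorsion_push f hF
  have h0 : e.symm x' = 0 := hcd _ hpush q hq _ ⟨m, by rw [← map_nsmul, hx', map_zero]⟩
  have h1 : x' = 0 := by
    have := congrArg e h0
    rwa [AddEquiv.apply_symm_apply, map_zero] at this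
  have h2 := congrArg (fun w => (Ext.mk₀ c.inv).comp w (zero_add q)) h1
  simp only [x', Ext.mk₀_comp_mk₀_assoc, Iso.inv_hom_id, Ext.comp_zero] at h2
  exact (Ext.mk₀_id_comp x).symm.trans h2

/-- `cd_p` is unchanged by finite separable extensions of degree prime to `p`. -/
theorem eq_zero_of_cd_coprime (K : Type u) [Field K] [Algebra k K] [FiniteDimensional k K]
    [Algebra.IsSeparable k K] (p : ℕ) (hp : p.Prime) (hdeg : ¬ p ∣ Module.finrank k K) (n : ℕ)
    (hcd : ∀ (F : EtCoh.Ab (Spec (CommRingCat.of K))), EtCoh.IsTorsion F → ∀ q : ℕ, n < q →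
        ∀ x : EtCoh.H (Spec (CommRingCat.of K)) F q, (∃ m : ℕ, p ^ m • x = 0) → x = 0)
    (F : EtCoh.Ab (Spec (CommRingCat.of k))) (hF : EtCoh.IsTorsion F) (q : ℕ) (hq : n < q)
    (x : EtCoh.H (Spec (CommRingCat.of k)) F q) (hx : ∃ m : ℕ, p ^ m • x = 0) : x = 0 := by
  obtain ⟨m, hm⟩ := hx
  have hF' : EtCoh.IsTorsion ((EtCoh.pull (mor k K)).obj F) := by
    rw [TorsionColim.isTorsion_iff] at hF ⊢
    exact isLTorsion_pull' _ hF
  have h0 : EtCore.Hpull (mor k K) F q x = 0 :=
    hcd _ hF' q hq _ ⟨m, by rw [← map_nsmul, hm, map_zero]⟩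
  exact eq_zero_of_coprime (finrank_nsmul_eq_zero k K F q x h0) hm
    (Nat.Coprime.pow_right m ((Nat.Prime.coprime_iff_not_dvd hp).2 hdeg).symm)

/-- A class killed by `L` is killed by an extension of degree prime to any prime not dividing
its order. -/
theorem exists_coprime_extension (F : EtCoh.Ab (Spec (CommRingCat.of k))) (i : ℕ)
    (α : EtCoh.H (Spec (CommRingCat.of k)) F i) (L : Type u) [Field L] [Algebra k L]
    [FiniteDimensional k L] [Algebra.IsSeparable k L]
    (hα : EtCore.Hpull (mor k L) F i α = 0) (p : ℕ) (hp : p.Prime) (hpα : ¬ p ∣ addOrderOf α) :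
    ∃ (L' : Type u) (_ : Field L') (_ : Algebra k L') (_ : FiniteDimensional k L')
      (_ : Algebra.IsSeparable k L'),
      ¬ p ∣ Module.finrank k L' ∧ EtCore.Hpull (mor k L') F i α = 0 := by
  haveI := Fact.mk hp
  let ι : L →ₐ[k] SeparableClosure k := IsSepClosed.lift
  letI : Algebra L (SeparableClosure k) := ι.toRingHom.toAlgebra
  haveI : IsScalarTower k L (SeparableClosure k) :=
    IsScalarTower.of_algebraMap_eq' ι.comp_algebraMap.symm
  let M := IntermediateField.normalClosure k L (SeparableClosure k)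
  haveI : IsGalois k M := inferInstance
  let P : Sylow p (M ≃ₐ[k] M) := default
  let L' := IntermediateField.fixedField (P : Subgroup (M ≃ₐ[k] M))
  haveI : Algebra.IsSeparable k L' := Algebra.isSeparable_tower_bot_of_isSeparable k L' M
  haveI : Algebra.IsSeparable L' M := Algebra.isSeparable_tower_top_of_isSeparable k L' M
  have hidx : ¬ p ∣ Module.finrank k L' := by
    rw [IntermediateField.finrank_eq_fixingSubgroup_index, IntermediateField.fixingSubgroup_fixedField]
    exact P.not_dvd_index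
  refine ⟨L', inferInstance, inferInstance, inferInstance, inferInstance, hidx, ?_⟩
  let β := EtCore.Hpull (mor k L') F i α
  have e1 : mor L' M ≫ mor k L' = mor k M := by
    rw [mor, mor, mor, ← Spec.map_comp, ← CommRingCat.ofHom_comp, ← IsScalarTower.algebraMap_eq]
  have e2 : mor L M ≫ mor k L = mor k M := by
    rw [mor, mor, mor, ← Spec.map_comp, ← CommRingCat.ofHom_comp, ← IsScalarTower.algebraMap_eq]
  have hkill : ∀ {Y : Scheme.{u}} (f g : Y ⟶ Spec (CommRingCat.of k)), f = g →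
      EtCore.Hpull f F i α = 0 → EtCore.Hpull g F i α = 0 := fun f g h => h ▸ id
  have hM : EtCore.Hpull (mor L M ≫ mor k L) F i α = 0 := by
    have h := HpullComp.Hpull_comp (mor L M) (mor k L) i F α
    rw [hα, map_zero] at h
    exact (ConcreteCategory.bijective_of_isIso
      ((EtCoh.HF _ i).map ((EtCore.pullComp (mor L M) (mor k L)).hom.app F))).1
      (h.symm.trans (map_zero _).symm)
  have hM' : EtCore.Hpull (mor L' M ≫ mor k L') F i α = 0 := hkill _ _ (e2.trans e1.symm) hM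
  have hβ : EtCore.Hpull (mor L' M) _ i β = 0 := by
    show EtCore.Hpull (mor L' M) _ i (EtCore.Hpull (mor k L') F i α) = 0
    rw [HpullComp.Hpull_comp, hM', map_zero]
  have h1 := finrank_nsmul_eq_zero L' M _ i β hβ
  obtain ⟨a, ha⟩ : ∃ a, Module.finrank L' M = p ^ a := by
    rw [IntermediateField.finrank_fixedField_eq_card]
    exact IsPGroup.iff_card.1 P.isPGroup'
  rw [ha] at h1
  have h2 : addOrderOf α • β = 0 := by rw [← map_nsmul, addOrderOf_nsmul_eq_zero, map_zero]
  exact eq_zero_of_coprime h1 h2 (Nat.Coprime.pow_left a ((Nat.Prime.coprime_iff_not_dvd hp).2 hpα))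

end Field

end Groth.Agent.GalEt
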