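import Groth.Agent.GalEt.DimOne
import Groth.Agent.GalEt.GmGeneric
import Groth.Agent.DimLib.Morphism

/-!
# `H²(X, G_m) = 0` for reduced curves over an algebraically closed field
-/

set_option autoImplicit false
set_option linter.all false
set_option backward.isDefEq.respectTransparency.types false
set_option backward.isDefEq.respectTransparency false
set_option backward.defeqAttrib.useBackward true
set_option synthInstance.maxHeartbeats 400000
set_option maxHeartbeats 1000000

universe u

open CategoryTheory CategoryTheory.Limits CategoryTheory.Abelian AlgebraicGeometry Opposite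
open Groth.Agent.Et18

noncomputable section

namespace Groth.Agent.GalEt

variable {k : Type u} [Field k] [IsAlgClosed k] {X : Scheme.{u}}

/-- Tsen's theorem at a maximal point of a curve. -/
theorem brTrivial_maxPoint (f : X ⟶ Spec (CommRingCat.of k)) [LocallyOfFiniteType f]
    (hdim : topologicalKrullDim X ≤ 1) {η : X} (K : Type u) [Field K]
    (e : K ≃+* X.residueField η) : BrTrivial K := by
  let φ : k →+* K := (e.symm : X.residueField η →+* K).comp (DimLib.baseRingHom f η)
  let _ : Algebra k K := φ.toAlgebra
  have h1 : DimLib.ptDim f η ≤ 1 := by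
    have := (DimLib.ptDim_le_topologicalKrullDim f η).trans hdim
    exact_mod_cast this
  have h2 : DimLib.trdegHom (algebraMap k K) = DimLib.ptDim f η :=
    DimLib.trdegHom_comp_ringEquiv (DimLib.baseRingHom f η) e.symm
  rw [DimLib.trdegHom_algebraMap] at h2
  have hfin : Algebra.trdeg k K < Cardinal.aleph0 :=
    (DimLib.trdeg_comp_ringEquiv (DimLib.baseRingHom f η) e.symm).trans_lt (DimLib.trdeg_baseRingHom_lt f η)
  have h3 : Algebra.trdeg k K = (DimLib.ptDim f η : ℕ) := by
    rw [← h2, Cardinal.cast_toNat_of_lt_aleph0 hfin]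
  have h4 := Groth.Agent.S0212.result k K _ h3
  refine brTrivial_of_isCr_one fun n d g hg hd hn => ?_
  obtain ⟨a, ha, ha'⟩ := h4 1 n (fun _ => g) (fun _ => d) (fun _ => hg) (fun _ => hd) (by
    simp only [Fin.sum_univ_one, pow_one] at hn ⊢
    exact lt_of_le_of_lt ((Nat.pow_le_pow_right hd h1).trans (le_of_eq (pow_one d))) hn)
  exact ⟨a, ha, ha' 0⟩

/-- `H²(X, G_m) = 0`. -/
theorem subsingleton_brCoh_curve (f : X ⟶ Spec (CommRingCat.of k)) [LocallyOfFiniteType f] [QuasiCompact f]
    [IsReduced X] (hdim : topologicalKrullDim X ≤ 1) : Subsingleton (EtCoh.H X (EtCoh.Gm X) 2) := by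
  haveI : IsLocallyNoetherian X := LocallyOfFiniteType.isLocallyNoetherian f
  haveI : CompactSpace X := QuasiCompact.compactSpace_of_compactSpace f
  haveI : IsNoetherian X := ⟨⟩
  haveI : Fintype (maxPoints X) := (finite_maxPoints (X := X)).fintype
  haveI : IsSepClosed k := inferInstance
  refine subsingleton_of_forall_eq 0 fun z => ?_
  refine eq_zero_of_components hdim (fun x hx => ClosedPointSupport.isSepClosed_residueField f hx) 0 z fun η => ?_
  have hF := isField_stalk_maxPoint η.2
  haveI : PreservesFiniteLimits (EtCoh.pull (X.fromSpecStalk η.1)) := inferInstance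
  refine injective_H_two_isField _ hF (X.fromSpecStalk η.1) (Eq.trans ?_ (map_zero _).symm)
  have hsub : Subsingleton (EtCoh.H (Spec (X.presheaf.stalk η.1)) (EtCoh.Gm (Spec (X.presheaf.stalk η.1))) 2) := by
    letI := hF.toField
    let e : (X.presheaf.stalk η.1 : Type u) ≃+* X.residueField η.1 :=
      RingEquiv.ofBijective (X.residue η.1).hom ⟨(X.residue η.1).hom.injective, IsLocalRing.residue_surjective⟩
    exact subsingleton_H_Gm (K := X.presheaf.stalk η.1) (brTrivial_maxPoint f hdim _ e) 2 (by omega)
  exact @Subsingleton.elim _ hsub _ _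

end Groth.Agent.GalEt
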