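import Groth.Agent.GalEt.Induced
import Groth.Agent.GalEt.PVanish

/-!
# Brauer classes killed by cyclic extensions and norms
-/

set_option autoImplicit false
set_option linter.all false
set_option backward.isDefEq.respectTransparency.types false
set_option backward.isDefEq.respectTransparency false
set_option backward.defeqAttrib.useBackward true
set_option synthInstance.maxHeartbeats 400000
set_option maxHeartbeats 1000000

universe u

open CategoryTheory CategoryTheory.Limits CategoryTheory.Abelian AlgebraicGeometry Opposite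
open Groth.Agent.Et18 Groth.Agent.Et18.CdField

noncomputable section

namespace Groth.Agent.GalEt

variable {K : Type u} [Field K]

local notation "SK" => Spec (CommRingCat.of K)

theorem app_zero_of_comp {S : ShortComplex (EtCoh.Ab (Spec (CommRingCat.of K)))}
    (U : (Spec (CommRingCat.of K)).Etale) (v : EtCoh.sect S.X₁ U) :
    S.g.hom.app (op U) (S.f.hom.app (op U) v) = 0 := by
  rw [← ConcreteCategory.comp_apply, ← NatTrans.comp_app]
  have : S.f.hom ≫ S.g.hom = 0 := congrArg (fun φ => φ.hom) S.zero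
  rw [this]
  rfl

theorem exists_eq_app {S : ShortComplex (EtCoh.Ab (Spec (CommRingCat.of K)))} (hS : S.ShortExact)
    (U : (Spec (CommRingCat.of K)).Etale) (w : EtCoh.sect S.X₂ U)
    (hw : S.g.hom.app (op U) w = 0) : ∃ v, S.f.hom.app (op U) v = w := by
  haveI := hS.mono_f
  have h2 : ((S.map (CategoryTheory.sheafToPresheaf _ AddCommGrpCat.{u + 1} ⋙
      (CategoryTheory.evaluation _ _).obj (op U)))).Exact := by
    haveI : PreservesFiniteLimits (CategoryTheory.sheafToPresheaf
        (Spec (CommRingCat.of K)).smallEtaleTopology AddCommGrpCat.{u + 1} ⋙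
      (CategoryTheory.evaluation _ _).obj (op U)) := comp_preservesFiniteLimits _ _
    exact hS.exact.map_of_mono_of_preservesKernel _ hS.mono_f inferInstance
  exact (ShortComplex.ab_exact_iff _).1 h2 w hw

theorem app_inj {A B : EtCoh.Ab (Spec (CommRingCat.of K))} (f : A ⟶ B) [Mono f]
    (U : (Spec (CommRingCat.of K)).Etale) : Function.Injective (f.hom.app (op U)) :=
  app_injective_of_mono f (op U)

variable (K) (L : Type u) [Field L] [Algebra K L] [Module.Finite K L] [IsGalois K L]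

theorem res_invariant {G : EtCoh.Ab (Spec (CommRingCat.of K))}
    (s : EtCoh.sect G (EtCoh.top (Spec (CommRingCat.of K)))) (σ : L ≃ₐ[K] L) :
    G.obj.map (act K L σ).op (G.obj.map (toTop K L).op s) = G.obj.map (toTop K L).op s :=
  (Functor.map_comp_apply G.obj (toTop K L).op (act K L σ).op s).symm.trans
    (congrArg (fun f => G.obj.map f s)
      (congrArg Quiver.Hom.op ((EtCore.topIsTerminal _).hom_ext (act K L σ ≫ toTop K L) (toTop K L))))

/-- Invariant sections over a bigger Galois extension descend. -/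
theorem exists_descent_rel (M : Type u) [Field M] [Algebra K M] [Module.Finite K M] [IsGalois K M]
    [Algebra L M] [IsScalarTower K L M] (G : EtCoh.Ab (Spec (CommRingCat.of K)))
    (t : EtCoh.sect G (UObj K M))
    (ht : ∀ τ : M ≃ₐ[L] M, G.obj.map (act K M (τ.restrictScalars K)).op t = t) :
    ∃ s, G.obj.map (towerHom K L M).op s = t := by
  refine Exists.imp (fun s hs => hs PUnit.unit) (H0Lift.exists_glue_cover (F := G) (UObj K L)
    (fun _ : PUnit.{u + 2} => UObj K M) (fun _ => towerHom K L M)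
    (fun x => ⟨⟨⟩, (default : ↥(Spec (CommRingCat.of M))),
      Subsingleton.elim (α := ↥(Spec (CommRingCat.of L))) _ x⟩) (fun _ => t) ?_)
  intro _ _ R gk gl he r hr
  choose N iF iA iM iS g hg using exists_field_hit K R
  have h0 : G.obj.map gk.op t = G.obj.map gl.op t := by
    refine H0Lift.sect_ext_of_cover G R
      (fun x : ULift.{u + 1} R.left => @UObj K _ (N x.down) (iF x.down) (iA x.down) (iM x.down) (iS x.down))
      (fun x => g x.down) (fun x => ⟨⟨x⟩, hg x⟩) _ _ fun x => ?_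
    letI := iF x.down
    letI := iA x.down
    haveI := iM x.down
    haveI := iS x.down
    obtain ⟨σ, hσ⟩ := exists_act_eq K M (g x.down ≫ gk) (g x.down ≫ gl)
    have hL : ∀ c : L, σ (algebraMap L M c) = algebraMap L M c := by
      obtain ⟨φ, hφ⟩ := Spec.map_surjective
        ((g x.down ≫ gk).left : Spec (CommRingCat.of (N x.down)) ⟶ Spec (CommRingCat.of M))
      have e : (g x.down ≫ gk).left ≫ Spec.map (CommRingCat.ofHom (algebraMap L M)) =
          ((g x.down ≫ gk).left ≫ Spec.map (CommRingCat.ofHom σ.toAlgHom.toRingHom)) ≫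
            Spec.map (CommRingCat.ofHom (algebraMap L M)) := by
        have e1 : (g x.down ≫ gk) ≫ towerHom K L M =
            ((g x.down ≫ gk) ≫ act K M σ) ≫ towerHom K L M := by
          rw [← hσ, Category.assoc, Category.assoc, he]
        exact congrArg (fun f => f.left) e1
      rw [← hφ, ← Spec.map_comp, ← Spec.map_comp, ← Spec.map_comp] at e
      intro c
      exact (φ.hom.injective (RingHom.congr_fun (congrArg CommRingCat.Hom.hom
        (Spec.map_injective e)) c)).symm
    let τ : M ≃ₐ[L] M := AlgEquiv.ofRingEquiv (f := σ.toRingEquiv) hL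
    have hτ : τ.restrictScalars K = σ := AlgEquiv.ext fun _ => rfl
    refine (Functor.map_comp_apply G.obj gk.op (g x.down).op t).symm.trans
      (Eq.trans ?_ (Functor.map_comp_apply G.obj gl.op (g x.down).op t))
    refine Eq.trans ?_ (congrArg (fun f => G.obj.map (Quiver.Hom.op f) t) hσ).symm
    refine Eq.trans ?_ (Functor.map_comp_apply G.obj (act K M σ).op (g x.down ≫ gk).op t).symm
    exact congrArg (G.obj.map (g x.down ≫ gk).op) (hτ ▸ (ht τ).symm)
  rw [sub_eq_zero.2 h0] at hr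
  exact hr R (𝟙 R) ⟨r, rfl⟩ (map_zero _)

/-- The units of `L` as sections of `G_m` over `Spec L`. -/
def unitsEquiv : Γ((UObj K L).left, ⊤)ˣ ≃* Lˣ :=
  Units.mapEquiv (Scheme.ΓSpecIso (CommRingCat.of L)).commRingCatIsoToRingEquiv.toMulEquiv

theorem unitsEquiv_act (σ : L ≃ₐ[K] L) (w : Γ((UObj K L).left, ⊤)ˣ) :
    unitsEquiv K L (Units.map (act K L σ).left.appTop.hom.toMonoidHom w) = σ • unitsEquiv K L w := by
  apply Units.ext
  exact RingHom.congr_fun (congrArg CommRingCat.Hom.hom
    (Scheme.ΓSpecIso_naturality (CommRingCat.ofHom σ.toAlgHom.toRingHom))) (w : Γ((UObj K L).left, ⊤))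

/-- A unit of `L` as a section. -/
def secU (x : Lˣ) : EtCoh.sect (EtCoh.Gm (Spec (CommRingCat.of K))) (UObj K L) :=
  HenselLib.Kummer.sec ((unitsEquiv K L).symm x)

theorem secU_surjective (v : EtCoh.sect (EtCoh.Gm (Spec (CommRingCat.of K))) (UObj K L)) :
    ∃ x, secU K L x = v := by
  obtain ⟨w, rfl⟩ := HenselLib.Kummer.sec_surjective v
  exact ⟨unitsEquiv K L w, congrArg HenselLib.Kummer.sec ((unitsEquiv K L).symm_apply_apply w)⟩

theorem secU_injective : Function.Injective (secU K L) :=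
  HenselLib.Kummer.sec_injective.comp (unitsEquiv K L).symm.injective

theorem secU_mul (x y : Lˣ) : secU K L (x * y) = secU K L x + secU K L y := by
  rw [secU, map_mul, HenselLib.Kummer.sec_mul]
  rfl

theorem act_secU (σ : L ≃ₐ[K] L) (x : Lˣ) :
    (EtCoh.Gm (Spec (CommRingCat.of K))).obj.map (act K L σ).op (secU K L x) = secU K L (σ • x) := by
  rw [secU, HenselLib.Kummer.map_sec]
  refine congrArg HenselLib.Kummer.sec ((unitsEquiv K L).injective ?_)
  rw [unitsEquiv_act, MulEquiv.apply_symm_apply, MulEquiv.apply_symm_apply]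

theorem sum_act_secU (x : Lˣ) :
    ∑ σ, (EtCoh.Gm (Spec (CommRingCat.of K))).obj.map (act K L σ).op (secU K L x) =
      secU K L (∏ σ : L ≃ₐ[K] L, σ • x) := by
  classical
  simp only [act_secU]
  induction (Finset.univ : Finset (L ≃ₐ[K] L)) using Finset.induction with
  | empty =>
    rw [Finset.sum_empty, Finset.prod_empty]
    show 0 = HenselLib.Kummer.sec ((unitsEquiv K L).symm 1)
    rw [map_one, HenselLib.Kummer.sec_one]
  | insert σ s hs ih => rw [Finset.sum_insert hs, Finset.prod_insert hs, ih, secU_mul]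

/-- Sections of `G_m` sequences lift over a Galois extension, by Hilbert 90. -/
theorem exists_lift_of_Gm {I Q : EtCoh.Ab (Spec (CommRingCat.of K))}
    (f : EtCoh.Gm (Spec (CommRingCat.of K)) ⟶ I) (g : I ⟶ Q) (w : f ≫ g = 0)
    (hS : (ShortComplex.mk f g w).ShortExact) (a : EtCoh.sect Q (UObj K L)) :
    ∃ y, g.hom.app (op (UObj K L)) y = a := by
  haveI := hS.epi_g
  haveI : Mono f := hS.mono_f
  haveI : Sheaf.IsLocallySurjective g :=
    (Sheaf.isLocallySurjective_iff_epi' (A := AddCommGrpCat.{u + 1}) g).2 ‹_›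
  obtain ⟨Z, k, ⟨y₀, hy₀⟩, z, -⟩ := EtCechLib.exists_mem_of_mem
    (Presheaf.imageSieve_mem (Spec (CommRingCat.of K)).smallEtaleTopology g.hom a)
    ((default : ↥(Spec (CommRingCat.of L))) : (UObj K L).left)
  obtain ⟨N, _, _, _, _, j, -⟩ := exists_field_hit K Z z
  obtain ⟨φ, hφ⟩ := Spec.map_surjective
    ((j ≫ k).left : Spec (CommRingCat.of N) ⟶ Spec (CommRingCat.of L))
  have eφ : φ.hom.comp (algebraMap K L) = algebraMap K N := by
    have h : Spec.map φ ≫ mor K L = mor K N := hφ.symm ▸ MorphismProperty.Over.w (j ≫ k)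
    rw [mor, mor, ← Spec.map_comp] at h
    exact congrArg CommRingCat.Hom.hom (Spec.map_injective h)
  letI : Algebra L N := φ.hom.toAlgebra
  haveI : IsScalarTower K L N := IsScalarTower.of_algebraMap_eq' eφ.symm
  let ι : N →ₐ[K] SeparableClosure K := IsSepClosed.lift
  letI : Algebra N (SeparableClosure K) := ι.toRingHom.toAlgebra
  haveI : IsScalarTower K N (SeparableClosure K) :=
    IsScalarTower.of_algebraMap_eq' ι.comp_algebraMap.symm
  let M := IntermediateField.normalClosure K N (SeparableClosure K)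
  letI : Algebra L M := ((algebraMap N M).comp (algebraMap L N)).toAlgebra
  haveI : IsScalarTower K L M := IsScalarTower.of_algebraMap_eq' (by
    show _ = ((algebraMap N M).comp (algebraMap L N)).comp (algebraMap K L)
    rw [RingHom.comp_assoc, ← IsScalarTower.algebraMap_eq K L N, ← IsScalarTower.algebraMap_eq K N M])
  haveI : IsGalois L M := IsGalois.tower_top_of_isGalois K L M
  haveI : Module.Finite L M := Module.Finite.of_restrictScalars_finite K L M
  let b := towerHom K N M ≫ j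
  let y₁ := I.obj.map b.op y₀
  have hb : b ≫ k = towerHom K L M := by
    apply MorphismProperty.Over.Hom.ext
    show ((towerHom K N M) ≫ j ≫ k).left = Spec.map (CommRingCat.ofHom (algebraMap L M))
    show Spec.map (CommRingCat.ofHom (algebraMap N M)) ≫ (j ≫ k).left = _
    rw [← hφ, ← Spec.map_comp]
    rfl
  have hy₁ : g.hom.app (op (UObj K M)) y₁ = Q.obj.map (towerHom K L M).op a := by
    rw [NatTrans.naturality_apply]
    refine (congrArg (Q.obj.map b.op) hy₀).trans ?_
    refine (Functor.map_comp_apply Q.obj k.op b.op a).symm.trans ?_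
    exact congrArg (fun m => Q.obj.map m a) (congrArg Quiver.Hom.op hb)
  have hinv : ∀ τ : M ≃ₐ[L] M,
      g.hom.app (op (UObj K M)) (I.obj.map (act K M (τ.restrictScalars K)).op y₁ - y₁) = 0 := by
    intro τ
    rw [map_sub, NatTrans.naturality_apply, hy₁]
    refine sub_eq_zero.2 ((Functor.map_comp_apply Q.obj (towerHom K L M).op
      (act K M (τ.restrictScalars K)).op a).symm.trans ?_)
    refine congrArg (fun m => Q.obj.map m a) (congrArg Quiver.Hom.op ?_)
    apply MorphismProperty.Over.Hom.ext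
    show Spec.map _ ≫ Spec.map _ = Spec.map _
    rw [← Spec.map_comp]
    refine congrArg Spec.map (CommRingCat.hom_ext (RingHom.ext fun c => ?_))
    exact τ.commutes c
  choose v hv using fun τ => exists_eq_app hS (UObj K M) _ (hinv τ)
  choose x hx using fun τ => secU_surjective K M (v τ)
  have hcoc : groupCohomology.IsMulCocycle₁ x := fun σ τ => by
    refine secU_injective K M (app_inj f (UObj K M) ?_)
    have e : (σ * τ).restrictScalars K = σ.restrictScalars K * τ.restrictScalars K := rfl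
    rw [secU_mul, map_add, hx, hv, hx, hv]
    have hσ : σ • x τ = (σ.restrictScalars K) • x τ := rfl
    rw [hσ, ← act_secU, hx, NatTrans.naturality_apply, hv, map_sub, e, act_mul, op_comp,
      Functor.map_comp_apply]
    abel
  obtain ⟨β, hβ⟩ := groupCohomology.isMulCoboundary₁_of_isMulCocycle₁_of_aut_to_units _ hcoc
  let y₂ := y₁ - f.hom.app (op (UObj K M)) (secU K M β)
  obtain ⟨y, hy⟩ := exists_descent_rel K L M I y₂ fun τ => by
    show I.obj.map _ (y₁ - _) = y₁ - _
    rw [map_sub, ← NatTrans.naturality_apply, act_secU]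
    have h1 : (τ.restrictScalars K) • β = β * x τ := div_eq_iff_eq_mul'.1 (hβ τ)
    rw [h1, secU_mul, map_add, hx, hv]
    abel
  refine ⟨y, H0Lift.sect_ext_of_cover Q (UObj K L) (fun _ : PUnit.{u + 2} => UObj K M)
    (fun _ => towerHom K L M) (fun x => ⟨⟨⟩, (default : ↥(Spec (CommRingCat.of M))),
      Subsingleton.elim (α := ↥(Spec (CommRingCat.of L))) _ x⟩) _ _ fun _ => ?_⟩
  rw [← NatTrans.naturality_apply, hy, ← hy₁]
  show g.hom.app (op (UObj K M)) (y₁ - _) = _
  have h0 : g.hom.app (op (UObj K M)) (f.hom.app (op (UObj K M)) (secU K M β)) = 0 :=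
    app_zero_of_comp (S := ShortComplex.mk f g w) _ _
  rw [map_sub, h0, sub_zero]

/-- A class killed by restriction to `L` comes from a section lifting over `L`. -/
theorem exists_lift_of_Hpull {S : ShortComplex (EtCoh.Ab (Spec (CommRingCat.of K)))} (hS : S.ShortExact)
    (s : EtCoh.const (Spec (CommRingCat.of K)) ℤ ⟶ S.X₃)
    (h : EtCore.Hpull (mor K L) S.X₁ 1 ((Ext.mk₀ s).comp hS.extClass (zero_add 1)) = 0) :
    ∃ y, S.g.hom.app (op (UObj K L)) y = S.X₃.obj.map (toTop K L).op (EtLimit.secOf s) := by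
  haveI := etale_mor K L
  let π := mor K L
  haveI : EtShriek.JCont π := jCont π
  have hp := hS.map_of_exact (EtCoh.pull π)
  have h1 : (Ext.mk₀ ((EtCore.pullConst π ℤ).inv ≫ (EtCoh.pull π).map s)).comp hp.extClass
      (zero_add 1) = 0 := by
    have h' : (Ext.mk₀ (EtCore.pullConst π ℤ).inv).comp
        (Ext.mapExactFunctor.{u + 1, u + 1} (EtCoh.pull π) ((Ext.mk₀ s).comp hS.extClass (zero_add 1)))
        (zero_add _) = 0 := h
    rw [Ext.mapExactFunctor_comp, Ext.mapExactFunctor_mk₀, Ext.mapExactFunctor_extClass,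
      Ext.mk₀_comp_mk₀_assoc] at h'
    exact h'
  obtain ⟨z, hz⟩ := Ext.covariant_sequence_exact₃ _ hp _ (zero_add 1) h1
  obtain ⟨l, rfl⟩ := (Ext.mk₀_bijective _ _).2 z
  rw [Ext.mk₀_comp_mk₀] at hz
  have hl : l ≫ (EtCoh.pull π).map S.g = (EtCore.pullConst π ℤ).inv ≫ (EtCoh.pull π).map s :=
    (Ext.mk₀_bijective _ _).1 hz
  let α := fun G => (pullRestrIso π).hom.app G
  have hl' : (l ≫ α S.X₂) ≫ (EtShriek.restrAlong π).map S.g =
      (EtCore.pullConst π ℤ).inv ≫ (EtCoh.pull π).map s ≫ α S.X₃ := by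
    rw [Category.assoc]
    erw [← (pullRestrIso π).hom.naturality S.g]
    rw [← Category.assoc, hl, Category.assoc]
  let eU : (EtShriek.compEtale π).obj (EtCoh.top (Spec (CommRingCat.of L))) ≅ UObj K L :=
    MorphismProperty.Over.isoMk (Iso.refl _)
      ((Category.id_comp _).trans (Category.id_comp _).symm)
  refine ⟨S.X₂.obj.map eU.inv.op (EtLimit.secOf (l ≫ α S.X₂)), ?_⟩
  rw [NatTrans.naturality_apply]
  have h2 := congrArg EtLimit.secOf hl'
  rw [TorsionColim.secOf_comp, EtLimit.secOf_pull] at h2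
  refine (congrArg (S.X₃.obj.map eU.inv.op) h2).trans ?_
  have h3 : (EtCoh.pullPushAdj π).homEquiv _ _ (α S.X₃) = (restrPushAdj π).unit.app S.X₃ := by
    rw [Adjunction.homEquiv_unit]
    exact unit_pullRestr π S.X₃
  rw [h3]
  show S.X₃.obj.map eU.inv.op
      (S.X₃.obj.map ((EtShriek.compEtale π).map (EtCore.bcTopIso π).inv).op
        (S.X₃.obj.map ((compBcAdj π).counit.app (EtCoh.top (Spec (CommRingCat.of K)))).op (EtLimit.secOf s))) = _
  refine (congrArg (S.X₃.obj.map eU.inv.op) (Functor.map_comp_apply S.X₃.obj _ _ _).symm).trans ?_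
  refine (Functor.map_comp_apply S.X₃.obj _ _ _).symm.trans ?_
  exact congrArg (fun m => S.X₃.obj.map m (EtLimit.secOf s))
    (Quiver.Hom.unop_inj ((EtCore.topIsTerminal _).hom_ext _ _))

/-- A class of degree two killed by a cyclic extension with surjective norm is zero. -/
theorem eq_zero_of_cyclic (σ : L ≃ₐ[K] L) (hσ : ∀ τ, τ ∈ Subgroup.zpowers σ)
    (hN : ∀ c : K, c ≠ 0 → ∃ y : L, Algebra.norm K y = c)
    (x : EtCoh.H (Spec (CommRingCat.of K)) (EtCoh.Gm (Spec (CommRingCat.of K))) 2)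
    (hx : EtCore.Hpull (mor K L) _ 2 x = 0) : x = 0 := by
  classical
  haveI := etale_mor K L
  let π := mor K L
  haveI : EtShriek.JCont π := jCont π
  let F := EtCoh.Gm (Spec (CommRingCat.of K))
  let S := SiteCoh.injEmbed F
  have hS := SiteCoh.injEmbed_shortExact F
  haveI : Injective S.X₂ := inferInstanceAs (Injective (Injective.under F))
  obtain ⟨θ, rfl⟩ := Ext.covariant_sequence_exact₁ _ hS x (Ext.eq_zero_of_injective _) (rfl : 1 + 1 = 2)
  let S' := SiteCoh.injEmbed S.X₃
  have hS' := SiteCoh.injEmbed_shortExact S.X₃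
  haveI : Injective S'.X₂ := inferInstanceAs (Injective (Injective.under S.X₃))
  haveI := hS.mono_f
  haveI := hS'.mono_f
  have hθ : EtCore.Hpull π S.X₃ 1 θ = 0 := by
    have := push_preservesHomology_of_integral π
    haveI : PreservesFiniteColimits (EtCoh.push π) :=
      (EtCoh.push π).preservesFiniteColimits_of_preservesHomology
    haveI : PreservesFiniteLimits (EtCoh.push π) :=
      (EtCoh.push π).preservesFiniteLimits_of_preservesHomology
    haveI : (EtCoh.pull π).PreservesInjectiveObjects :=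
      Functor.preservesInjectiveObjects_of_adjunction_of_preservesMonomorphisms (pushPullAdj π)
    haveI : Injective ((EtCoh.pull π).obj S.X₂) := Functor.injective_obj _ _
    have hp := hS.map_of_exact (EtCoh.pull π)
    have h' : (Ext.mk₀ (EtCore.pullConst π ℤ).inv).comp
        (Ext.mapExactFunctor.{u + 1, u + 1} (EtCoh.pull π) (θ.comp hS.extClass rfl))
        (zero_add _) = 0 := hx
    rw [Ext.mapExactFunctor_comp, Ext.mapExactFunctor_extClass,
      ← Ext.comp_assoc _ _ _ (zero_add 1) rfl (by omega : 0 + 1 + 1 = 2)] at h'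
    obtain ⟨z, hz⟩ := Ext.covariant_sequence_exact₃ _ hp _ rfl h'
    refine hz.symm.trans ?_
    haveI : Injective ((S.map (EtCoh.pull π)).X₂) :=
      inferInstanceAs (Injective ((EtCoh.pull π).obj S.X₂))
    rw [Ext.eq_zero_of_injective z, Ext.zero_comp]
  obtain ⟨θ', rfl⟩ := Ext.covariant_sequence_exact₁ _ hS' θ (Ext.eq_zero_of_injective _)
    (rfl : 0 + 1 = 1)
  obtain ⟨s, rfl⟩ := (Ext.mk₀_bijective _ _).2 θ'
  obtain ⟨y', hy'⟩ := exists_lift_of_Hpull K L hS' s hθ
  let U := UObj K L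
  have hinv : ∀ τ : L ≃ₐ[K] L,
      S'.g.hom.app (op U) (S'.X₂.obj.map (act K L τ).op y' - y') = 0 := fun τ => by
    rw [map_sub, NatTrans.naturality_apply, hy', res_invariant, sub_self]
  choose a' ha' using fun τ => exists_eq_app hS' U _ (hinv τ)
  letI := galModule K L S.X₃
  have hnat' : ∀ (τ : L ≃ₐ[K] L) (v : EtCoh.sect S.X₃ U),
      S'.f.hom.app (op U) (τ • v) = S'.X₂.obj.map (act K L τ).op (S'.f.hom.app (op U) v) :=
    fun τ v => NatTrans.naturality_apply S'.f.hom _ v
  have hcr : ∀ τ υ, a' (τ * υ) = τ • a' υ + a' τ := fun τ υ => app_inj S'.f U (by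
    rw [map_add, hnat', ha', ha', ha', map_sub, act_apply]
    abel)
  have hNa : ∑ τ : L ≃ₐ[K] L, τ • a' σ = 0 := by
    have e : ∀ τ : L ≃ₐ[K] L, τ • a' σ = a' (τ * σ) - a' τ := fun τ => by
      rw [hcr, add_sub_cancel_right]
    simp only [e]
    rw [Finset.sum_sub_distrib, sub_eq_zero]
    exact Fintype.sum_bijective (· * σ) (Group.mulRight_bijective σ) _ _ fun _ => rfl
  obtain ⟨y, hy⟩ := exists_lift_of_Gm K L S.f S.g S.zero hS (a' σ)
  have hnat : ∀ (τ : L ≃ₐ[K] L) (v : EtCoh.sect F U),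
      S.f.hom.app (op U) (F.obj.map (act K L τ).op v) = S.X₂.obj.map (act K L τ).op (S.f.hom.app (op U) v) :=
    fun τ v => NatTrans.naturality_apply S.f.hom _ v
  letI := galModule K L S.X₂
  obtain ⟨v, hv⟩ := exists_eq_app hS U (∑ τ : L ≃ₐ[K] L, τ • y) (by
    rw [map_sum, ← hNa]
    refine Finset.sum_congr rfl fun τ _ => ?_
    show S.g.hom.app (op U) (S.X₂.obj.map _ y) = S.X₃.obj.map (act K L τ).op (a' σ)
    rw [NatTrans.naturality_apply, hy])
  obtain ⟨c, rfl⟩ := secU_surjective K L v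
  have hc : ∀ τ : L ≃ₐ[K] L, τ • c = c := fun τ => secU_injective K L (app_inj S.f U (by
    rw [← act_secU, hnat, hv]
    show τ • (∑ υ : L ≃ₐ[K] L, υ • y) = _
    rw [Finset.smul_sum]
    simp only [smul_smul]
    exact Fintype.sum_bijective (τ * ·) (Group.mulLeft_bijective τ) _ _ fun _ => rfl))
  obtain ⟨c₀, hc₀⟩ := (IsGalois.mem_range_algebraMap_iff_fixed (F := K) (E := L) (c : L)).2
    fun τ => congrArg (fun z : Lˣ => (z : L)) (hc τ)
  have hc₀0 : c₀ ≠ 0 := fun h => c.ne_zero (by rw [← hc₀, h, map_zero])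
  obtain ⟨b, hb⟩ := hN c₀ hc₀0
  have hb0 : b ≠ 0 := fun h => hc₀0 (by rw [← hb, h, Algebra.norm_zero])
  have hprod : ∏ τ : L ≃ₐ[K] L, τ • Units.mk0 b hb0 = c := by
    apply Units.ext
    rw [← hc₀, ← hb, Algebra.norm_eq_prod_automorphisms]
    push_cast
    rfl
  let y₁ := y - S.f.hom.app (op U) (secU K L (Units.mk0 b hb0))
  have hy₁ : ∑ τ : L ≃ₐ[K] L, τ • y₁ = 0 := by
    simp only [y₁, smul_sub, Finset.sum_sub_distrib]
    rw [← hv, ← hprod, ← sum_act_secU, map_sum, sub_eq_zero]
    exact Finset.sum_congr rfl fun τ _ => hnat τ _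
  obtain ⟨A, hA, hAσ⟩ := exists_crossed σ hσ y₁ hy₁
  obtain ⟨w, hw⟩ := exists_coboundary_injective K L S.X₂ A hA
  let gw := S.g.hom.app (op U) w
  have heq : a' = fun τ => τ • gw - gw := by
    refine crossed_ext σ hσ a' _ hcr (fun τ υ => ?_) ?_
    · rw [mul_smul, smul_sub]
      abel
    · show a' σ = S.X₃.obj.map (act K L σ).op (S.g.hom.app (op U) w) - S.g.hom.app (op U) w
      rw [← NatTrans.naturality_apply, ← map_sub, hw σ, hAσ, map_sub, app_zero_of_comp, sub_zero, hy]
  obtain ⟨t, ht⟩ := exists_descent K L S'.X₂ (y' - S'.f.hom.app (op U) gw) fun τ => by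
    have h2 : a' τ = τ • gw - gw := congrFun heq τ
    have h3 := congrArg (S'.f.hom.app (op U)) h2
    rw [ha', map_sub, hnat'] at h3
    rw [map_sub]
    exact sub_eq_sub_iff_sub_eq_sub.1 h3
  have hgt : S'.g.hom.app (op _) t = EtLimit.secOf s := by
    refine sect_ext K L S'.X₃ _ _ ?_
    rw [← NatTrans.naturality_apply, ht, ← hy', map_sub, app_zero_of_comp, sub_zero]
  obtain ⟨l, hl⟩ := EtLimit.exists_secOf t
  have hls : l ≫ S'.g = s := EtLimit.secOf_injective (by rw [TorsionColim.secOf_comp, hl, hgt])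
  have hzero : (Ext.mk₀ s).comp hS'.extClass (zero_add 1) = 0 := by
    rw [← hls, ← Ext.mk₀_comp_mk₀, Ext.comp_assoc_of_second_deg_zero, hS'.comp_extClass, Ext.comp_zero]
  rw [hzero, Ext.zero_comp]

/-- If `Br K` has no `p`-torsion, norms of cyclic extensions of degree `p` are surjective. -/
theorem norm_surjective {p : ℕ} (σ : L ≃ₐ[K] L) (hσ : ∀ τ, τ ∈ Subgroup.zpowers σ)
    (hcard : Nat.card (L ≃ₐ[K] L) = p)
    (hBr : ∀ x : EtCoh.H (Spec (CommRingCat.of K)) (EtCoh.Gm (Spec (CommRingCat.of K))) 2,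
      p • x = 0 → x = 0)
    (c : K) (hc : c ≠ 0) : ∃ y : L, Algebra.norm K y = c := by
  classical
  haveI := etale_mor K L
  let F := EtCoh.Gm (Spec (CommRingCat.of K))
  let S := SiteCoh.injEmbed F
  have hS := SiteCoh.injEmbed_shortExact F
  haveI : Injective S.X₂ := inferInstanceAs (Injective (Injective.under F))
  let S' := SiteCoh.injEmbed S.X₃
  have hS' := SiteCoh.injEmbed_shortExact S.X₃
  haveI : Injective S'.X₂ := inferInstanceAs (Injective (Injective.under S.X₃))
  haveI := hS.mono_f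
  haveI := hS'.mono_f
  let U := UObj K L
  letI := galModule K L S.X₂
  letI := galModule K L S.X₃
  let cL : Lˣ := Units.map (algebraMap K L).toMonoidHom (Units.mk0 c hc)
  let v := secU K L cL
  have hcL : ∀ τ : L ≃ₐ[K] L, τ • cL = cL := fun τ => Units.ext (τ.commutes c)
  have hnat : ∀ (τ : L ≃ₐ[K] L) (v : EtCoh.sect F U),
      S.f.hom.app (op U) (F.obj.map (act K L τ).op v) = τ • S.f.hom.app (op U) v :=
    fun τ v => NatTrans.naturality_apply S.f.hom _ v
  have hgnat : ∀ (τ : L ≃ₐ[K] L) (y : EtCoh.sect S.X₂ U),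
      S.g.hom.app (op U) (τ • y) = τ • S.g.hom.app (op U) y :=
    fun τ y => NatTrans.naturality_apply S.g.hom _ y
  have hnat' : ∀ (τ : L ≃ₐ[K] L) (v : EtCoh.sect S.X₃ U),
      S'.f.hom.app (op U) (τ • v) = S'.X₂.obj.map (act K L τ).op (S'.f.hom.app (op U) v) :=
    fun τ v => NatTrans.naturality_apply S'.f.hom _ v
  obtain ⟨y, hy⟩ := exists_norm_injective K L S.X₂ (S.f.hom.app (op U) v) fun τ => by
    show τ • S.f.hom.app (op U) v = _
    rw [← hnat, act_secU, hcL]
  have hy' : ∑ τ : L ≃ₐ[K] L, τ • y = S.f.hom.app (op U) v := hy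
  let a := S.g.hom.app (op U) y
  have hNa : ∑ τ : L ≃ₐ[K] L, τ • a = 0 := by
    show ∑ τ : L ≃ₐ[K] L, τ • S.g.hom.app (op U) y = 0
    simp only [← hgnat]
    rw [← map_sum, hy', app_zero_of_comp]
  obtain ⟨A, hA, hAσ⟩ := exists_crossed σ hσ a hNa
  obtain ⟨b, hb⟩ := exists_coboundary_injective K L S'.X₂ (fun τ => S'.f.hom.app (op U) (A τ))
    (fun τ υ => by rw [hA, map_add, hnat'])
  obtain ⟨s₀, hs₀⟩ := exists_descent K L S'.X₃ (S'.g.hom.app (op U) b) fun τ => by
    rw [← sub_eq_zero, ← NatTrans.naturality_apply, ← map_sub, hb, app_zero_of_comp]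
  obtain ⟨s, hs⟩ := EtLimit.exists_secOf s₀
  let θ : EtCoh.H (Spec (CommRingCat.of K)) S.X₃ 1 := (Ext.mk₀ s).comp hS'.extClass (zero_add 1)
  let W : EtCoh.sect S.X₃ U := -∑ τ : L ≃ₐ[K] L, A τ
  have hW : p • a = σ • W - W := by
    have e : ∀ τ, τ • a - a = σ • A τ - A τ := fun τ => by
      have h1 := hA τ σ
      have h2 := hA σ τ
      have hcomm : τ * σ = σ * τ := by
        obtain ⟨i, rfl⟩ := Subgroup.mem_zpowers_iff.1 (hσ τ)
        exact ((Commute.refl σ).zpow_left i).eq
      rw [hcomm, h2, hAσ] at h1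
      rw [sub_eq_sub_iff_add_eq_add, ← h1]
    have e2 : ∑ τ : L ≃ₐ[K] L, (τ • a - a) = ∑ τ : L ≃ₐ[K] L, (σ • A τ - A τ) :=
      Finset.sum_congr rfl fun τ _ => e τ
    rw [Finset.sum_sub_distrib, Finset.sum_sub_distrib, hNa, Finset.sum_const, Finset.card_univ,
      ← Nat.card_eq_fintype_card, hcard, ← Finset.smul_sum, zero_sub] at e2
    simp only [W, smul_neg]
    rw [eq_comm, neg_sub_neg, ← neg_sub, ← e2, neg_neg]
  have hpA : (fun τ => p • A τ) = fun τ => τ • W - W := by
    refine crossed_ext σ hσ _ _ (fun τ υ => ?_) (fun τ υ => ?_) ?_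
    · rw [hA, smul_add, smul_comm]
    · rw [mul_smul, smul_sub]
      abel
    · show p • A σ = σ • W - W
      rw [hAσ, hW]
  obtain ⟨t, ht⟩ := exists_descent K L S'.X₂ (p • b - S'.f.hom.app (op U) W) fun τ => by
    have h1 := congrArg (S'.f.hom.app (op U)) (congrFun hpA τ)
    rw [map_nsmul, map_sub, hnat', ← hb τ, smul_sub] at h1
    rw [map_sub, map_nsmul]
    exact sub_eq_sub_iff_sub_eq_sub.1 h1
  have hpθ : p • θ = 0 := by
    have hgt : S'.g.hom.app (op _) t = p • s₀ := by
      refine sect_ext K L S'.X₃ _ _ ?_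
      rw [← NatTrans.naturality_apply, ht, map_nsmul, hs₀, map_sub, map_nsmul, app_zero_of_comp, sub_zero]
    obtain ⟨l, hl⟩ := EtLimit.exists_secOf t
    have hls : l ≫ S'.g = p • s := EtLimit.secOf_injective (by
      rw [TorsionColim.secOf_comp, hl, hgt, TorsionColim.secOf_nsmul, hs])
    have e1 : p • θ = (Ext.mk₀ (p • s)).comp hS'.extClass (zero_add 1) := by
      have h2 : (Ext.mk₀ (p • s) : Ext.{u + 1} _ _ 0) = p • Ext.mk₀ s :=
        map_nsmul (Ext.addEquiv₀ (X := EtCoh.const (Spec (CommRingCat.of K)) ℤ) (Y := S'.X₃)).symm.toAddMonoidHom _ _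
      rw [h2]
      exact (map_nsmul (((Ext.bilinearComp _ _ _ 0 1 1 (zero_add 1)).flip) hS'.extClass) p (Ext.mk₀ s)).symm
    rw [e1, ← hls, ← Ext.mk₀_comp_mk₀, Ext.comp_assoc_of_second_deg_zero, hS'.comp_extClass, Ext.comp_zero]
  have hx : θ.comp hS.extClass (rfl : 1 + 1 = 2) = 0 := hBr _ (by
    have h3 : (p • θ).comp hS.extClass (rfl : 1 + 1 = 2) = p • θ.comp hS.extClass rfl :=
      map_nsmul (((Ext.bilinearComp _ _ _ 1 1 2 rfl).flip) hS.extClass) p θ
    rw [← h3, hpθ, Ext.zero_comp])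
  have hθ0 : θ = 0 := by
    obtain ⟨z, hz⟩ := Ext.covariant_sequence_exact₃ _ hS θ rfl hx
    rw [← hz, Ext.eq_zero_of_injective z, Ext.zero_comp]
  obtain ⟨z, hz⟩ := Ext.covariant_sequence_exact₃ _ hS' (Ext.mk₀ s) (zero_add 1) hθ0
  obtain ⟨l', rfl⟩ := (Ext.mk₀_bijective _ _).2 z
  rw [Ext.mk₀_comp_mk₀] at hz
  have hl' : S'.g.hom.app (op _) (EtLimit.secOf l') = s₀ := by
    rw [← TorsionColim.secOf_comp, (Ext.mk₀_bijective _ _).1 hz, hs]
  obtain ⟨w, hw⟩ := exists_eq_app hS' U (b - S'.X₂.obj.map (toTop K L).op (EtLimit.secOf l')) (by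
    rw [map_sub, NatTrans.naturality_apply, hl', hs₀, sub_self])
  have hAw : A σ = σ • w - w := app_inj S'.f U (by
    rw [map_sub, hnat', hw, ← hb σ, map_sub, res_invariant]
    abel)
  obtain ⟨w', hw'⟩ := exists_lift_of_Gm K L S.f S.g S.zero hS w
  obtain ⟨v', hv'⟩ := exists_eq_app hS U (y - (σ • w' - w')) (by
    rw [map_sub, map_sub, hgnat, hw', ← hAw, hAσ, sub_self])
  obtain ⟨r, rfl⟩ := secU_surjective K L v'
  refine ⟨(r : L), (algebraMap K L).injective ?_⟩
  have hprod : ∏ τ : L ≃ₐ[K] L, τ • r = cL := secU_injective K L (app_inj S.f U (by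
    rw [← sum_act_secU, map_sum]
    show _ = S.f.hom.app (op U) v
    rw [← hy']
    refine (Finset.sum_congr rfl fun τ _ => (hnat τ _).trans (congrArg (τ • ·) hv')).trans ?_
    simp only [smul_sub, Finset.sum_sub_distrib, smul_smul]
    rw [sub_eq_self, sub_eq_zero]
    exact Fintype.sum_bijective (· * σ) (Group.mulRight_bijective σ) _ _ fun _ => rfl))
  rw [Algebra.norm_eq_prod_automorphisms]
  have h4 := congrArg (fun z : Lˣ => (z : L)) hprod
  simp only [Units.coe_prod] at h4
  exact h4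

end Groth.Agent.GalEt
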