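import Groth.Agent.GalEt.DivCoker
import Groth.Agent.GalEt.SkyPoint

/-!
# Cohomological consequences of the divisor sequence
-/

set_option autoImplicit false
set_option linter.all false
set_option backward.isDefEq.respectTransparency.types false
set_option backward.isDefEq.respectTransparency false
set_option backward.defeqAttrib.useBackward true
set_option synthInstance.maxHeartbeats 400000
set_option maxHeartbeats 1000000

universe u

open CategoryTheory CategoryTheory.Limits CategoryTheory.Abelian AlgebraicGeometry Opposite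
open Groth.Agent.Et18

noncomputable section

namespace Groth.Agent.GalEt

section Field

variable {X : Scheme.{u}} [CompactSpace X] [QuasiSeparatedSpace X] {K : Type u} [Field K]
  (i : Spec (CommRingCat.of K) ⟶ X)

/-- `R¹ i_* G_m = 0` for a point with values in a field. -/
theorem isZero_Rpush_field_Gm :
    IsZero ((EtCoh.Rpush i 1).obj (EtCoh.Gm (Spec (CommRingCat.of K)))) := by
  refine isZero_Rpush_succ _ _ 0 fun V hV => ?_
  let W := (EtCoh.bc i).obj V
  haveI := quasiCompact_bc_str' i V hV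
  haveI : EtShriek.JCont (Et18.LocCoh.str W) := jCont _
  refine @Equiv.subsingleton _ _
    ((EtCoh.HF W.left 1).mapIso (restrAlongGmIso (Et18.LocCoh.str W))).addCommGroupIsoToAddEquiv.toEquiv ?_
  refine subsingleton_H_etale_of_points (K := K) (Et18.LocCoh.str W) _ 1 fun L _ _ _ _ l _ _ _ => ?_
  exact @Equiv.subsingleton _ _
    ((EtCoh.HF (Spec (CommRingCat.of L)) 1).mapIso (pullGmIso l)).addCommGroupIsoToAddEquiv.toEquiv
    (subsingleton_H_one_Gm L)

theorem injective_H_two_field [PreservesFiniteLimits (EtCoh.pull i)] :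
    Function.Injective (EtLim.HofPush i (EtCoh.Gm (Spec (CommRingCat.of K))) 2) := by
  refine injective_HofPush _ _ 2 (injective_adjExtHom_two (EtCoh.pullPushAdj _) _ _ ?_)
  exact SpecSeq.epi_map_of_isZero_rightDerived_one (SiteCoh.injEmbed_shortExact _) (isZero_Rpush_field_Gm i)

end Field

variable {X : Scheme.{u}}

theorem eq_zero_of_biproduct {ι : Type*} [Finite ι] (F : ι → EtCoh.Ab X) (q : ℕ)
    (z : ((EtCoh.HF X q).obj (⨁ F) : Type (u + 1)))
    (h : ∀ i, (EtCoh.HF X q).map (biproduct.π F i) z = 0) : z = 0 := by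
  classical
  letI := Fintype.ofFinite ι
  let G := EtCoh.HF X q
  have htot : ∑ i, biproduct.π F i ≫ biproduct.ι F i = 𝟙 (⨁ F) := by
    refine biproduct.hom_ext' _ _ fun j => ?_
    rw [Preadditive.comp_sum, Finset.sum_eq_single j (fun b _ h => by
      rw [biproduct.ι_π_ne_assoc _ (Ne.symm h), zero_comp]) (by simp), biproduct.ι_π_self_assoc, Category.comp_id]
  have h1 : G.map (∑ i, biproduct.π F i ≫ biproduct.ι F i) z = z := by
    rw [htot, G.map_id]
    rfl
  rw [G.map_sum] at h1
  let ev : (G.obj (⨁ F) ⟶ G.obj (⨁ F)) →+ (G.obj (⨁ F) : Type (u + 1)) :=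
    AddMonoidHom.mk' (fun f => f z) (fun f g => rfl)
  rw [← h1]
  show ev _ = 0
  rw [map_sum]
  refine Finset.sum_eq_zero fun i _ => ?_
  show G.map (_ ≫ _) z = 0
  rw [G.map_comp, ConcreteCategory.comp_apply]
  exact (congrArg _ (h i)).trans (map_zero _)

theorem isAddTorsion_H_biproduct {ι : Type*} [Finite ι] (F : ι → EtCoh.Ab X) (q : ℕ)
    (h : ∀ i, IsAddTorsion (EtCoh.H X (F i) q)) : IsAddTorsion (EtCoh.H X (⨁ F) q) := fun z => by
  classical
  letI := Fintype.ofFinite ι
  choose m hm h0 using fun i => isOfFinAddOrder_iff_nsmul_eq_zero.1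
    (h i ((EtCoh.HF X q).map (biproduct.π F i) z))
  refine isOfFinAddOrder_iff_nsmul_eq_zero.2 ⟨∏ i, m i, Finset.prod_pos fun i _ => hm i, ?_⟩
  refine eq_zero_of_biproduct F q _ fun i => ?_
  refine (map_nsmul ((EtCoh.HF X q).map (biproduct.π F i)).hom _ z).trans ?_
  obtain ⟨k, hk⟩ := Finset.dvd_prod_of_mem m (Finset.mem_univ i)
  rw [hk, mul_comm, mul_nsmul']
  exact (congrArg (k • ·) (h0 i)).trans (nsmul_zero k)

theorem isAddTorsion_H_push_isField [CompactSpace X] [QuasiSeparatedSpace X] (A : CommRingCat.{u}) (hA : IsField A)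
    (i : Spec A ⟶ X) (n : ℕ) (F : EtCoh.Ab (Spec A)) :
    IsAddTorsion (EtCoh.H X ((EtCoh.push i).obj F) (n + 1)) := by
  letI := hA.toField
  exact isAddTorsion_H_push_field (K := A) i n F

theorem injective_H_two_isField [CompactSpace X] [QuasiSeparatedSpace X] (A : CommRingCat.{u}) (hA : IsField A)
    (i : Spec A ⟶ X) [PreservesFiniteLimits (EtCoh.pull i)] :
    Function.Injective (EtLim.HofPush i (EtCoh.Gm (Spec A)) 2) := by
  letI := hA.toField
  exact injective_H_two_field (K := A) i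

namespace Div

variable [LocFact X] [IsNoetherian X] [Fintype (maxPoints X)]

variable (X) in
/-- The divisor sequence. -/
abbrev seq : ShortComplex (EtCoh.Ab X) :=
  ShortComplex.mk (phi X) (cokernel.π (phi X)) (cokernel.condition _)

theorem seq_shortExact : (seq X).ShortExact :=
  { exact := ShortComplex.exact_cokernel _
    mono_f := phi_mono
    epi_g := inferInstanceAs (Epi (cokernel.π (phi X))) }

theorem isAddTorsion_H_Q (p : ℕ) : IsAddTorsion (EtCoh.H X (Q X) (p + 1)) := by
  obtain ⟨hc⟩ := nonempty_isColimit_fcocone (X := X)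
  have := EtCechLib.preservesColimitsOfShape_HF (X := X) (p + 1) (Finset (ULift.{u + 1} (Ht1 X)))
  intro z
  obtain ⟨S, b, hb⟩ := Concrete.isColimit_exists_rep _ (isColimitOfPreserves (EtCoh.HF X (p + 1)) hc)
    (show ((EtCoh.HF X (p + 1)).obj (Q X) : Type (u + 1)) from z)
  have hS : IsAddTorsion (EtCoh.H X (fsum S) (p + 1)) := isAddTorsion_H_biproduct _ _ fun s =>
    isAddTorsion_H_push_field (K := X.residueField s.1.down.1) (X.fromSpecResidueField s.1.down.1) p _
  obtain ⟨m, hm, h0⟩ := isOfFinAddOrder_iff_nsmul_eq_zero.1 (hS (show EtCoh.H X (fsum S) (p + 1) from b))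
  refine isOfFinAddOrder_iff_nsmul_eq_zero.2 ⟨m, hm, ?_⟩
  show m • (show ((EtCoh.HF X (p + 1)).obj (Q X) : Type (u + 1)) from z) = 0
  rw [← hb]
  exact (map_nsmul _ m b).symm.trans ((congrArg _ h0).trans (map_zero _))

theorem subsingleton_H_one_Q : Subsingleton (EtCoh.H X (Q X) 1) := by
  obtain ⟨hc⟩ := nonempty_isColimit_fcocone (X := X)
  have := EtCechLib.preservesColimitsOfShape_HF (X := X) 1 (Finset (ULift.{u + 1} (Ht1 X)))
  refine subsingleton_of_forall_eq 0 fun z => ?_
  obtain ⟨S, b, hb⟩ := Concrete.isColimit_exists_rep _ (isColimitOfPreserves (EtCoh.HF X 1) hc)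
    (show ((EtCoh.HF X 1).obj (Q X) : Type (u + 1)) from z)
  have hS : (show ((EtCoh.HF X 1).obj (fsum S) : Type (u + 1)) from b) = 0 :=
    eq_zero_of_biproduct _ 1 _ fun s => by
      haveI : IsAddTorsionFree (AddCommGrpCat.of (ULift.{u + 1} ℤ)) :=
        Function.Injective.isAddTorsionFree (AddEquiv.ulift (α := ℤ)).toAddMonoidHom (AddEquiv.ulift (α := ℤ)).injective
      exact @Subsingleton.elim _ (subsingleton_H_one_sky s.1.down.1 _
        (subsingleton_H_one_cst (X.residueField s.1.down.1) (AddCommGrpCat.of (ULift.{u + 1} ℤ)))) _ _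
  show (show ((EtCoh.HF X 1).obj (Q X) : Type (u + 1)) from z) = 0
  rw [← hb]
  exact (congrArg _ hS).trans (map_zero _)

/-- `H^q(X, G_m)` is torsion for `q ≥ 2` when all étale local rings are factorial. -/
theorem isAddTorsion_H_Gm (q : ℕ) (hq : 2 ≤ q) : IsAddTorsion (EtCoh.H X (EtCoh.Gm X) q) := by
  obtain ⟨p, rfl⟩ : ∃ p, q = p + 1 + 1 := ⟨q - 2, by omega⟩
  have hP : IsAddTorsion (EtCoh.H X (P X) (p + 1 + 1)) := isAddTorsion_H_biproduct (maxPush X) (p + 1 + 1) fun η => ?_
  · exact isAddTorsion_left (S := seq X) (n := p + 1) seq_shortExact (isAddTorsion_H_Q p) hP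
  exact isAddTorsion_H_push_isField _ (isField_stalk (U := X) η.2) (X.fromSpecStalk η.1) (p + 1) _

/-- Classes vanishing at the maximal points vanish. -/
theorem eq_zero_of_maxPoints [∀ x : X, PreservesFiniteLimits (EtCoh.pull (X.fromSpecStalk x))]
    (ξ : EtCoh.H X (EtCoh.Gm X) 2)
    (hξ : ∀ x : X, (∀ y : X, y ⤳ x → y = x) → EtLim.HGmPull (X.fromSpecStalk x) 2 ξ = 0) : ξ = 0 := by
  let ξ' : ((EtCoh.HF X 2).obj (EtCoh.Gm X) : Type (u + 1)) := ξ
  have h1 : (EtCoh.HF X 2).map (phi X) ξ' = 0 :=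
    eq_zero_of_biproduct (maxPush X) 2 _ fun η => by
      refine injective_H_two_isField _ (isField_stalk (U := X) η.2) (X.fromSpecStalk η.1) (Eq.trans ?_ (map_zero _).symm)
      refine Eq.trans (congrArg (EtLim.HofPush (X.fromSpecStalk η.1) (EtCoh.Gm (Spec (X.presheaf.stalk η.1))) 2) ?_) (hξ η.1 η.2)
      rw [← ConcreteCategory.comp_apply, ← Functor.map_comp,
        show phi X ≫ biproduct.π (maxPush X) η = EtLim.GmPush (X.fromSpecStalk η.1) from biproduct.lift_π _ η]
      rfl
  obtain ⟨y, hy⟩ := Ext.covariant_sequence_exact₁ _ (seq_shortExact (X := X)) ξ h1 (n₀ := 1) rfl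
  rw [← hy, @Subsingleton.elim _ (subsingleton_H_one_Q (X := X)) y 0, Ext.zero_comp]

end Div

end Groth.Agent.GalEt
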