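import Groth.Agent.GalEt.DivSheaf
import Groth.Agent.GalEt.DivCoh
import Groth.Agent.Et18.AlgClosedFunctionField

/-!
# Noetherian schemes of dimension at most one with separably closed residue fields at closed points
-/

set_option autoImplicit false
set_option linter.all false
set_option backward.isDefEq.respectTransparency.types false
set_option backward.isDefEq.respectTransparency false
set_option backward.defeqAttrib.useBackward true
set_option synthInstance.maxHeartbeats 400000
set_option maxHeartbeats 1000000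

universe u

open CategoryTheory CategoryTheory.Limits CategoryTheory.Abelian AlgebraicGeometry Opposite
open Groth.Agent.Et18

noncomputable section

namespace Groth.Agent.GalEt

variable {X : Scheme.{u}}

/-- Sheaves supported at closed points with separably closed residue fields are acyclic. -/
theorem subsingleton_H_closedPoints [IsNoetherian X]
    (hsep : ∀ x : X, IsClosed ({x} : Set X) → IsSepClosed (X.residueField x))
    (F : EtCoh.Ab X) (hF : ∀ x ∈ EtPBC.supp F, IsClosed ({x} : Set X)) (q : ℕ) (hq : 0 < q) :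
    Subsingleton (EtCoh.H X F q) := by
  classical
  obtain ⟨hc⟩ := nonempty_isColimit_closedPoints F hF
  have := EtCechLib.preservesColimitsOfShape_HF (X := X) q
    (Finset (ULift.{u + 1} {x : X // IsClosed ({x} : Set X)}))
  refine subsingleton_of_forall_eq 0 fun z => ?_
  obtain ⟨S, b, hb⟩ := Concrete.isColimit_exists_rep _ (isColimitOfPreserves (EtCoh.HF X q) hc)
    (show ((EtCoh.HF X q).obj F : Type (u + 1)) from z)
  have hS : Subsingleton (EtCoh.H X ((ClosedPointSupport.diag F).obj S) q) :=
    subsingleton_H_of_points (S.image fun p => p.down.1) (fun x hx => by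
      obtain ⟨p, -, rfl⟩ := Finset.mem_image.1 hx; exact p.down.2) _
      ((ClosedPointSupport.supp_diag_subset F S).trans (fun x hx => by
        obtain ⟨p, hp, rfl⟩ := Set.mem_iUnion₂.1 hx
        exact Finset.mem_coe.2 (Finset.mem_image.2 ⟨p, hp, rfl⟩))) q
      (fun x hx => by
        obtain ⟨p, -, rfl⟩ := Finset.mem_image.1 hx
        haveI := hsep _ p.down.2
        exact AlgClosedFunctionField.subsingleton_H (X.residueField p.down.1) _ q hq)
  show (show ((EtCoh.HF X q).obj F : Type (u + 1)) from z) = 0
  rw [← hb]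
  exact (congrArg _ (@Subsingleton.elim _ hS (show EtCoh.H X ((ClosedPointSupport.diag F).obj S) q from b) 0)).trans
    (map_zero _)

section Supp

variable [Fintype (maxPoints X)]

theorem isIso_stalk_π {F : maxPoints X → EtCoh.Ab X}
    (hF : ∀ η η' : maxPoints X, η' ≠ η → IsZero ((EtCoh.stalk (sepPoint X η.1)).obj (F η'))) (η : maxPoints X) :
    IsIso ((EtCoh.stalk (sepPoint X η.1)).map (biproduct.π F η)) := by
  classical
  let T := EtCoh.stalk (sepPoint X η.1)
  haveI : PreservesLimitsOfShape (Discrete WalkingPair) T := inferInstance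
  haveI : T.Additive := Functor.additive_of_preserves_binary_products T
  have htot : ∑ η', biproduct.π F η' ≫ biproduct.ι F η' = 𝟙 (⨁ F) := by
    refine biproduct.hom_ext' _ _ fun j => ?_
    rw [Preadditive.comp_sum, Finset.sum_eq_single j (fun b _ h => by
      rw [biproduct.ι_π_ne_assoc _ (Ne.symm h), zero_comp]) (by simp), biproduct.ι_π_self_assoc, Category.comp_id]
  refine ⟨T.map (biproduct.ι F η), ?_, by rw [← T.map_comp, biproduct.ι_π_self, CategoryTheory.Functor.map_id]⟩
  have h1 : T.map (∑ η', biproduct.π F η' ≫ biproduct.ι F η') = T.map (𝟙 (⨁ F)) := by rw [htot]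
  rw [Functor.map_sum, Finset.sum_eq_single η (fun η' _ h => ?_) (by simp), Functor.map_comp,
    CategoryTheory.Functor.map_id] at h1
  · exact h1
  · rw [Functor.map_comp, (hF η η' h).eq_of_tgt (T.map (biproduct.π F η')) 0, zero_comp]

theorem isIso_stalk_phi (η : maxPoints X) :
    IsIso ((EtCoh.stalk (sepPoint X η.1)).map (Div.phi X)) := by
  haveI := isIso_stalk_π (F := maxPush X) (fun η η' h => isZero_stalk_maxPush h) η
  haveI : IsIso ((EtCoh.stalk (sepPoint X η.1)).map (Div.phi X) ≫
      (EtCoh.stalk (sepPoint X η.1)).map (biproduct.π (maxPush X) η)) := by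
    rw [← Functor.map_comp, Div.phi, biproduct.lift_π]
    exact GmUnit.isIso_stalk_GmPush η.2 _ (sepPoint_default X η.1)
  exact IsIso.of_isIso_comp_right _ ((EtCoh.stalk (sepPoint X η.1)).map (biproduct.π (maxPush X) η))

/-- A morphism bijective on the stalks at maximal points is injective on cohomology in degree at least two. -/
theorem injective_H_of_isIso_maxPoints [IsNoetherian X] (hdim : topologicalKrullDim X ≤ 1)
    (hsep : ∀ x : X, IsClosed ({x} : Set X) → IsSepClosed (X.residueField x))
    {A B : EtCoh.Ab X} (φ : A ⟶ B) (hiso : ∀ η : maxPoints X, IsIso ((EtCoh.stalk (sepPoint X η.1)).map φ))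
    (p : ℕ) (z : EtCoh.H X A (p + 2)) (hz : Ext.comp z (Ext.mk₀ φ) (add_zero (p + 2)) = 0) : z = 0 := by
  have hclosed : ∀ y : X, y ∉ maxPoints X → IsClosed ({y} : Set X) := fun y hy => by
    simp only [maxPoints, Set.mem_setOf_eq, not_forall] at hy
    obtain ⟨w, hw, hne⟩ := hy
    exact VarietyLib.isClosed_of_specializes_ne hdim hw hne
  have hsupp : ∀ (F : EtCoh.Ab X), (∀ η : maxPoints X, IsZero ((EtCoh.stalk (sepPoint X η.1)).obj F)) →
      ∀ y ∈ EtPBC.supp F, IsClosed ({y} : Set X) := fun F hF y hy => hclosed y fun hy' =>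
    (mem_supp_iff _ _ (sepPoint_default X y)).1 hy (hF ⟨y, hy'⟩)
  have hfac : ∀ η : maxPoints X, Mono ((EtCoh.stalk (sepPoint X η.1)).map (Abelian.factorThruImage φ)) ∧
      Epi ((EtCoh.stalk (sepPoint X η.1)).map (Abelian.image.ι φ)) := fun η => by
    haveI := hiso η
    have h : (EtCoh.stalk (sepPoint X η.1)).map (Abelian.factorThruImage φ) ≫
        (EtCoh.stalk (sepPoint X η.1)).map (Abelian.image.ι φ) = (EtCoh.stalk (sepPoint X η.1)).map φ := by
      rw [← Functor.map_comp, Abelian.image.fac]
    exact ⟨mono_of_mono_fac h, epi_of_epi_fac h⟩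
  have hker : Subsingleton (EtCoh.H X (kernel (Abelian.factorThruImage φ)) (p + 2)) :=
    subsingleton_H_closedPoints hsep _ (hsupp _ fun η => by
      haveI := (hfac η).1
      exact IsZero.of_iso (isZero_kernel_of_mono _) (PreservesKernel.iso _ (Abelian.factorThruImage φ)))
      _ (by omega)
  have hcok : Subsingleton (EtCoh.H X (cokernel (Abelian.image.ι φ)) (p + 1)) :=
    subsingleton_H_closedPoints hsep _ (hsupp _ fun η => by
      haveI := (hfac η).2
      exact IsZero.of_iso (isZero_cokernel_of_epi _) (PreservesCokernel.iso _ (Abelian.image.ι φ)))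
      _ (by omega)
  let S₂ := ShortComplex.mk (Abelian.image.ι φ) (cokernel.π _) (cokernel.condition _)
  have hS₂ : S₂.ShortExact :=
    { exact := ShortComplex.exact_cokernel _
      mono_f := inferInstanceAs (Mono (Abelian.image.ι φ))
      epi_g := inferInstanceAs (Epi (cokernel.π _)) }
  let S₁ := ShortComplex.mk (kernel.ι (Abelian.factorThruImage φ)) (Abelian.factorThruImage φ) (kernel.condition _)
  have hS₁ : S₁.ShortExact :=
    { exact := ShortComplex.exact_kernel _
      mono_f := inferInstanceAs (Mono (kernel.ι (Abelian.factorThruImage φ)))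
      epi_g := inferInstanceAs (Epi (Abelian.factorThruImage φ)) }
  let w := Ext.comp z (Ext.mk₀ (Abelian.factorThruImage φ)) (add_zero (p + 2))
  have hw : Ext.comp w (Ext.mk₀ S₂.f) (add_zero (p + 2)) = 0 := by
    rw [Ext.comp_assoc_of_second_deg_zero, Ext.mk₀_comp_mk₀]
    show Ext.comp z (Ext.mk₀ (Abelian.factorThruImage φ ≫ Abelian.image.ι φ)) _ = 0
    rw [Abelian.image.fac]
    exact hz
  obtain ⟨y, hy⟩ := Ext.covariant_sequence_exact₁ _ hS₂ w hw (n₀ := p + 1) rfl
  have hw0 : w = 0 := by rw [← hy, @Subsingleton.elim _ hcok y 0, Ext.zero_comp]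
  obtain ⟨v, hv⟩ := Ext.covariant_sequence_exact₂ _ hS₁ z hw0
  rw [← hv, @Subsingleton.elim _ hker v 0, Ext.zero_comp]

/-- Classes killed in each component of a sum vanish. -/
theorem eq_zero_of_components [IsNoetherian X] (hdim : topologicalKrullDim X ≤ 1)
    (hsep : ∀ x : X, IsClosed ({x} : Set X) → IsSepClosed (X.residueField x)) (p : ℕ)
    (z : EtCoh.H X (EtCoh.Gm X) (p + 2))
    (hz : ∀ η : maxPoints X, (EtCoh.HF X (p + 2)).map (EtLim.GmPush (X.fromSpecStalk η.1))
      (show ((EtCoh.HF X (p + 2)).obj (EtCoh.Gm X) : Type (u + 1)) from z) = 0) : z = 0 := by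
  let z' : ((EtCoh.HF X (p + 2)).obj (EtCoh.Gm X) : Type (u + 1)) := z
  have h1 : (EtCoh.HF X (p + 2)).map (Div.phi X) z' = 0 :=
    eq_zero_of_biproduct (maxPush X) (p + 2) _ fun η => by
      rw [← ConcreteCategory.comp_apply, ← Functor.map_comp,
        show Div.phi X ≫ biproduct.π (maxPush X) η = EtLim.GmPush (X.fromSpecStalk η.1) from biproduct.lift_π _ η]
      exact hz η
  exact injective_H_of_isIso_maxPoints hdim hsep (Div.phi X) isIso_stalk_phi p z h1

end Supp

end Groth.Agent.GalEt
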