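import Groth.Agent.GalEt.DivExact
import Groth.Agent.Et18.ConsColim

/-!
# The cokernel of `G_m → ⨁ j_* G_m` is the sum of the skyscrapers
-/

set_option autoImplicit false
set_option linter.all false
set_option backward.isDefEq.respectTransparency.types false
set_option backward.isDefEq.respectTransparency false
set_option backward.defeqAttrib.useBackward true
set_option synthInstance.maxHeartbeats 400000
set_option maxHeartbeats 1000000

universe u

open CategoryTheory CategoryTheory.Limits AlgebraicGeometry Opposite TopologicalSpace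
open Groth.Agent.Et18

noncomputable section

namespace Groth.Agent.GalEt.Div

open GmUnit (openObj openIncl exists_lift_point)

variable {X : Scheme.{u}} [LocFact X] [IsLocallyNoetherian X] [Fintype (maxPoints X)]

variable (X) in
/-- The cokernel. -/
abbrev Q : EtCoh.Ab X := cokernel (phi X)

/-- The divisor maps of the cokernel. -/
def ordQ (x : Ht1 X) : Q X ⟶ D x := cokernel.desc _ (toD x) (phi_toD x)

theorem π_ordQ (x : Ht1 X) : cokernel.π (phi X) ≫ ordQ x = toD x := cokernel.π_desc _ _ _

section Stalks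

variable (y : X)

local notation "Φ" => Scheme.pointSmallEtale (sepPoint X y)
local notation "T" => EtCoh.stalk (sepPoint X y)

theorem exists_germ (b : (T).obj (Q X)) : ∃ (U : X.Etale) (v : (Φ).fiber.obj U) (t : EtCoh.sect (P X) U),
    (T).map (cokernel.π (phi X)) ((Φ).toPresheafFiber U v (P X).obj t) = b := by
  obtain ⟨a, rfl⟩ := (AddCommGrpCat.epi_iff_surjective ((T).map (cokernel.π (phi X)))).1 inferInstance b
  obtain ⟨U, v, t, rfl⟩ := (Φ).toPresheafFiber_jointly_surjective (P := (P X).obj) a
  exact ⟨U, v, t, rfl⟩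

theorem stalk_ordQ (x : Ht1 X) (U : X.Etale) (v : (Φ).fiber.obj U) (t : EtCoh.sect (P X) U) :
    (T).map (ordQ x) ((T).map (cokernel.π (phi X)) ((Φ).toPresheafFiber U v (P X).obj t)) =
      (Φ).toPresheafFiber U v (D x).obj ((toD x).hom.app (op U) t) := by
  refine (stalk_map_map (π_ordQ x) (sepPoint X y) _).trans ?_
  exact (Φ).toPresheafFiber_naturality_apply (toD x).hom U v t

/-- A germ of the cokernel is supported on finitely many components. -/
theorem exists_finset_stalk (b : (T).obj (Q X)) : ∃ S : Finset (Ht1 X), ∀ x ∉ S, (T).map (ordQ x) b = 0 := by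
  obtain ⟨U, v, t, rfl⟩ := exists_germ y b
  obtain ⟨W, S, huW, hS⟩ := exists_finset t (fiberPt v)
  obtain ⟨w, hw⟩ := exists_lift_point (sepPoint X y) U v W huW
  refine ⟨S, fun x hx => (stalk_ordQ y x U v t).trans ?_⟩
  rw [← hw, ← (Φ).toPresheafFiber_w_apply]
  refine (congrArg ((Φ).toPresheafFiber _ w (D x).obj) ?_).trans (map_zero _)
  exact (NatTrans.naturality_apply (toD x).hom (openIncl U W).op t).symm.trans (hS x hx)

/-- The components detect germs of the cokernel. -/
theorem stalk_eq_zero (b : (T).obj (Q X)) (h : ∀ x, (T).map (ordQ x) b = 0) : b = 0 := by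
  classical
  obtain ⟨U, v, t, rfl⟩ := exists_germ y b
  obtain ⟨W, S, huW, hS⟩ := exists_finset t (fiberPt v)
  obtain ⟨w, hw⟩ := exists_lift_point (sepPoint X y) U v W huW
  have key : ∀ A : Finset (Ht1 X), ∃ (V : X.Etale) (g : V ⟶ openObj U W) (z : (Φ).fiber.obj V),
      (Φ).fiber.map g z = w ∧ ∀ x ∈ A,
        (toD x).hom.app (op V) ((P X).obj.map g.op ((P X).obj.map (openIncl U W).op t)) = 0 := by
    intro A
    induction A using Finset.induction_on with
    | empty => exact ⟨openObj U W, 𝟙 _, w, by rw [CategoryTheory.Functor.map_id]; rfl, by simp⟩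
    | insert a A _ ih =>
      obtain ⟨V, g, z, hz, hA⟩ := ih
      let t' := (P X).obj.map g.op ((P X).obj.map (openIncl U W).op t)
      have h0 : (Φ).toPresheafFiber V z (D a).obj ((toD a).hom.app (op V) t') = 0 := by
        rw [← stalk_ordQ y a V z t', (Φ).toPresheafFiber_w_apply g z, hz, (Φ).toPresheafFiber_w_apply, hw]
        exact h a
      obtain ⟨V', g', z', hz', heq⟩ := ((Φ).toPresheafFiber_eq_iff' (P := (D a).obj) V z
        ((toD a).hom.app (op V) t') 0).1 (h0.trans (map_zero _).symm)
      rw [map_zero] at heq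
      refine ⟨V', g' ≫ g, z', by rw [CategoryTheory.Functor.map_comp]; exact (congrArg ((Φ).fiber.map g) hz').trans hz,
        fun x hx => ?_⟩
      rw [op_comp, Functor.map_comp]
      refine (NatTrans.naturality_apply (toD x).hom g'.op t').trans ?_
      rcases Finset.mem_insert.1 hx with rfl | hx
      · exact heq
      · exact (congrArg ((D x).obj.map g'.op) (hA x hx)).trans (map_zero _)
  obtain ⟨V, g, z, hz, hA⟩ := key S
  have hall : ∀ x, (toD x).hom.app (op V) ((P X).obj.map g.op ((P X).obj.map (openIncl U W).op t)) = 0 := fun x => by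
    by_cases hx : x ∈ S
    · exact hA x hx
    · refine (NatTrans.naturality_apply (toD x).hom g.op _).trans ?_
      exact (congrArg ((D x).obj.map g.op) (hS x hx)).trans (map_zero _)
  obtain ⟨W', huW', σ, hσ⟩ := exists_phi_eq _ (fiberPt z) hall
  obtain ⟨z', hz'⟩ := exists_lift_point (sepPoint X y) V z W' huW'
  rw [← hw, ← (Φ).toPresheafFiber_w_apply, ← hz, ← (Φ).toPresheafFiber_w_apply, ← hz',
    ← (Φ).toPresheafFiber_w_apply, ← hσ, ← (Φ).toPresheafFiber_naturality_apply (phi X).hom]
  refine (stalk_map_map (cokernel.condition (phi X)) (sepPoint X y) _).trans ?_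
  rw [(T).map_zero]
  rfl

end Stalks

/-- The components away from `x`. -/
abbrev awayProd (x : Ht1 X) : EtCoh.Ab X := ∏ᶜ fun p : ULift.{u + 1} {p : Ht1 X // p ≠ x} => D p.down.1

/-- The map to the components away from `x`. -/
def awayMap (x : Ht1 X) : Q X ⟶ awayProd x := Pi.lift fun p => ordQ p.down.1

theorem awayMap_π (x : Ht1 X) (p : ULift.{u + 1} {p : Ht1 X // p ≠ x}) :
    awayMap x ≫ Pi.π (fun p : ULift.{u + 1} {p : Ht1 X // p ≠ x} => D p.down.1) p = ordQ p.down.1 :=
  limit.lift_π _ _

theorem kernel_ordQ {x p : Ht1 X} (hp : p ≠ x) : kernel.ι (awayMap x) ≫ ordQ p = 0 := by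
  have h : awayMap x ≫ Pi.π (fun p : ULift.{u + 1} {p : Ht1 X // p ≠ x} => D p.down.1) ⟨⟨p, hp⟩⟩ = ordQ p :=
    limit.lift_π _ _
  rw [← h, kernel.condition_assoc, zero_comp]

instance isIso_kernel_ordQ (x : Ht1 X) : IsIso (kernel.ι (awayMap x) ≫ ordQ x) := by
  classical
  refine isIso_of_stalks _ fun y => (ConcreteCategory.isIso_iff_bijective _).2 ⟨?_, fun a => ?_⟩
  · refine (injective_iff_map_eq_zero _).2 fun k hk => ?_
    let T' := EtCoh.stalk (sepPoint X y)
    haveI : Mono (T'.map (kernel.ι (awayMap x))) := inferInstance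
    refine (AddCommGrpCat.mono_iff_injective (T'.map (kernel.ι (awayMap x)))).1 inferInstance
      (Eq.trans (stalk_eq_zero y _ fun p => ?_) (map_zero _).symm)
    by_cases hp : p = x
    · subst hp
      exact (stalk_map_map rfl (sepPoint X y) k).trans hk
    · refine (stalk_map_map (kernel_ordQ hp) (sepPoint X y) k).trans ?_
      rw [Functor.map_zero]
      rfl
  · let Φ := Scheme.pointSmallEtale (sepPoint X y)
    obtain ⟨U, v, d, rfl⟩ := Φ.toPresheafFiber_jointly_surjective (P := (D x).obj) a
    obtain ⟨W, t, huW, htx, htp⟩ := exists_lift x d (fiberPt v)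
    obtain ⟨w, hw⟩ := exists_lift_point (sepPoint X y) U v W huW
    let q : EtCoh.sect (Q X) (openObj U W) := (cokernel.π (phi X)).hom.app (op (openObj U W)) t
    have hq : (awayMap x).hom.app (op (openObj U W)) q = 0 := by
      let Ev : EtCoh.Ab X ⥤ AddCommGrpCat.{u + 1} := sheafToPresheaf X.smallEtaleTopology AddCommGrpCat.{u + 1} ⋙
        (evaluation X.Etaleᵒᵖ AddCommGrpCat.{u + 1}).obj (op (openObj U W))
      refine Concrete.isLimit_ext _ (isLimitOfPreserves Ev (productIsProduct
        fun p : ULift.{u + 1} {p : Ht1 X // p ≠ x} => D p.down.1)) _ _ fun ⟨p⟩ => ?_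
      refine Eq.trans ?_ (map_zero _).symm
      show (Pi.π (fun p : ULift.{u + 1} {p : Ht1 X // p ≠ x} => D p.down.1) p).hom.app (op (openObj U W))
        ((awayMap x).hom.app (op (openObj U W)) q) = 0
      refine (congrArg (fun k : Q X ⟶ D p.down.1 => k.hom.app (op (openObj U W)) q) (awayMap_π x p)).trans ?_
      refine (congrArg (fun k : P X ⟶ D p.down.1 => k.hom.app (op (openObj U W)) t) (π_ordQ p.down.1)).trans ?_
      exact htp p.down.1 p.down.2
    have hgerm : (EtCoh.stalk (sepPoint X y)).map (awayMap x) (Φ.toPresheafFiber _ w (Q X).obj q) = 0 := by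
      refine (Φ.toPresheafFiber_naturality_apply (awayMap x).hom _ w q).trans ?_
      rw [hq, map_zero]
    obtain ⟨k, hk⟩ := stalk_exact_kernel (awayMap x) (sepPoint X y) _ hgerm
    refine ⟨k, (stalk_map_map rfl (sepPoint X y) k).symm.trans ?_⟩
    rw [hk]
    refine (Φ.toPresheafFiber_naturality_apply (ordQ x).hom _ w q).trans ?_
    have e : (ordQ x).hom.app (op (openObj U W)) q = (D x).obj.map (openIncl U W).op d :=
      (congrArg (fun k : P X ⟶ D x => k.hom.app (op (openObj U W)) t) (π_ordQ x)).trans htx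
    rw [e, Φ.toPresheafFiber_w_apply, hw]

/-- The component maps. -/
def skyι (x : Ht1 X) : D x ⟶ Q X := inv (kernel.ι (awayMap x) ≫ ordQ x) ≫ kernel.ι (awayMap x)

theorem skyι_ordQ_self (x : Ht1 X) : skyι x ≫ ordQ x = 𝟙 (D x) := by
  rw [skyι, Category.assoc, IsIso.inv_hom_id]

theorem skyι_ordQ_ne {x p : Ht1 X} (hp : p ≠ x) : skyι x ≫ ordQ p = 0 := by
  rw [skyι, Category.assoc, kernel_ordQ hp, comp_zero]

/-- Finite sums of skyscrapers. -/
abbrev fsum (S : Finset (ULift.{u + 1} (Ht1 X))) : EtCoh.Ab X := ⨁ fun p : S => D p.1.down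

/-- Inclusion of finite sums. -/
def fincl {S S' : Finset (ULift.{u + 1} (Ht1 X))} (h : S ⊆ S') : fsum S ⟶ fsum S' :=
  biproduct.desc fun p => biproduct.ι (fun p : S' => D p.1.down) ⟨p.1, h p.2⟩

variable (X) in
/-- The diagram of finite sums. -/
def fdiag : Finset (ULift.{u + 1} (Ht1 X)) ⥤ EtCoh.Ab X where
  obj := fsum
  map f := fincl (leOfHom f)
  map_id S := biproduct.hom_ext' _ _ fun p => by simp [fincl]
  map_comp f g := biproduct.hom_ext' _ _ fun p => by simp [fincl]

variable (X) in
/-- Its cocone to the cokernel. -/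
def fcocone : Cocone (fdiag X) where
  pt := Q X
  ι :=
    { app := fun S => biproduct.desc fun p => skyι p.1.down
      naturality := fun S S' f => biproduct.hom_ext' _ _ fun p => by simp [fdiag, fincl] }

theorem desc_ordQ (S : Finset (ULift.{u + 1} (Ht1 X))) (p : S) :
    (biproduct.desc fun p : S => skyι p.1.down) ≫ ordQ p.1.down = biproduct.π (fun p : S => D p.1.down) p := by
  classical
  refine biproduct.hom_ext' _ _ fun p' => ?_
  rw [biproduct.ι_desc_assoc]
  by_cases h : p' = p
  · subst h
    rw [skyι_ordQ_self, biproduct.ι_π_self]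
  · rw [skyι_ordQ_ne (fun e => h (Subtype.ext (ULift.down_injective e.symm))), biproduct.ι_π_ne _ h]

/-- The cokernel is the sum of the skyscrapers. -/
theorem nonempty_isColimit_fcocone : Nonempty (IsColimit (fcocone X)) := by
  classical
  refine nonempty_isColimit_of_stalks _ (fun y b => ?_) fun y S b hb => ⟨S, 𝟙 S, ?_⟩
  · obtain ⟨S₀, hS₀⟩ := exists_finset_stalk y b
    let S : Finset (ULift.{u + 1} (Ht1 X)) := S₀.image ULift.up
    let T := EtCoh.stalk (sepPoint X y)
    let c : T.obj (fsum S) := ∑ p : S, T.map (biproduct.ι (fun p : S => D p.1.down) p) (T.map (ordQ p.1.down) b)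
    refine ⟨S, c, (sub_eq_zero.1 (stalk_eq_zero y ((show T.obj (Q X) from b) - T.map (biproduct.desc fun p : S => skyι p.1.down) c)
      fun x => ?_)).symm⟩
    rw [map_sub, sub_eq_zero]
    simp only [c, map_sum]
    have e : ∀ p : S, T.map (ordQ x) (T.map (biproduct.desc fun p : S => skyι p.1.down)
        (T.map (biproduct.ι (fun p : S => D p.1.down) p) (T.map (ordQ p.1.down) b))) =
        T.map (skyι p.1.down ≫ ordQ x) (T.map (ordQ p.1.down) b) := fun p => by
      rw [stalk_map_map (biproduct.ι_desc (fun p : S => skyι p.1.down) p) (sepPoint X y),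
        stalk_map_map rfl (sepPoint X y)]
    rw [Finset.sum_congr rfl fun p _ => e p]
    by_cases hx : x ∈ S₀
    · rw [Finset.sum_eq_single (⟨⟨x⟩, Finset.mem_image_of_mem _ hx⟩ : S) (fun p _ hp => ?_) (by simp)]
      · rw [skyι_ordQ_self, CategoryTheory.Functor.map_id]
        rfl
      · rw [skyι_ordQ_ne (fun e => hp (Subtype.ext (ULift.down_injective e.symm))), Functor.map_zero]
        rfl
    · rw [hS₀ x hx, Finset.sum_eq_zero]
      intro p _
      rw [skyι_ordQ_ne (fun e => hx ?_), Functor.map_zero]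
      · rfl
      · obtain ⟨x', hx', hxp⟩ := Finset.mem_image.1 p.2
        rw [e, ← congrArg ULift.down hxp]
        exact hx'
  · rw [CategoryTheory.Functor.map_id, CategoryTheory.Functor.map_id]
    let T := EtCoh.stalk (sepPoint X y)
    haveI : PreservesLimitsOfShape (Discrete WalkingPair) T := inferInstance
    haveI : T.Additive := Functor.additive_of_preserves_binary_products T
    have htot : ∑ p : S, biproduct.π (fun p : S => D p.1.down) p ≫ biproduct.ι (fun p : S => D p.1.down) p = 𝟙 (fsum S) := by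
      refine biproduct.hom_ext' _ _ fun j => ?_
      rw [Preadditive.comp_sum, Finset.sum_eq_single j (fun b _ h => by
        rw [biproduct.ι_π_ne_assoc _ (Ne.symm h), zero_comp]) (by simp), biproduct.ι_π_self_assoc, Category.comp_id]
    have hπ : ∀ p : S, T.map (biproduct.π (fun p : S => D p.1.down) p) b = 0 := fun p =>
      (stalk_map_map (desc_ordQ S p) (sepPoint X y) b).symm.trans ((congrArg (T.map (ordQ p.1.down)) hb).trans (map_zero _))
    let ev : (T.obj (fsum S) ⟶ T.obj (fsum S)) →+ (T.obj (fsum S) : Type (u + 1)) :=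
      AddMonoidHom.mk' (fun f => f b) (fun f g => rfl)
    have h1 : ev (T.map (∑ p : S, biproduct.π (fun p : S => D p.1.down) p ≫ biproduct.ι (fun p : S => D p.1.down) p)) = b := by
      rw [htot, T.map_id]
      rfl
    rw [Functor.map_sum, map_sum] at h1
    show b = 0
    rw [← h1]
    refine Finset.sum_eq_zero fun p _ => ?_
    show T.map (_ ≫ _) b = 0
    rw [Functor.map_comp, ConcreteCategory.comp_apply]
    exact (congrArg _ (hπ p)).trans (map_zero _)

variable (X) in
/-- The cofan on the cokernel. -/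
def skyCofan : Cofan fun x : Ht1 X => D x := Cofan.mk (Q X) skyι

/-- It is a colimit. -/
theorem nonempty_isColimit_skyCofan : Nonempty (IsColimit (skyCofan X)) := by
  classical
  obtain ⟨hc⟩ := nonempty_isColimit_fcocone (X := X)
  let σ : Cofan (fun x : Ht1 X => D x) → Cocone (fdiag X) := fun s =>
    { pt := s.pt
      ι :=
        { app := fun S => biproduct.desc fun p => s.inj p.1.down
          naturality := fun S S' f => biproduct.hom_ext' _ _ fun p => by simp [fdiag, fincl] } }
  refine ⟨mkCofanColimit _ (fun s => hc.desc (σ s)) (fun s x => ?_) fun s m hm => ?_⟩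
  · let S : Finset (ULift.{u + 1} (Ht1 X)) := {⟨x⟩}
    have h := congrArg (biproduct.ι (fun p : S => D p.1.down) ⟨⟨x⟩, Finset.mem_singleton_self _⟩ ≫ ·)
      (hc.fac (σ s) S)
    simp only [fcocone, σ, biproduct.ι_desc_assoc, biproduct.ι_desc] at h
    exact h
  · refine hc.hom_ext fun S => biproduct.hom_ext' _ _ fun p => ?_
    rw [hc.fac]
    simp only [fcocone, σ, biproduct.ι_desc_assoc, biproduct.ι_desc]
    exact hm p.1.down

end Groth.Agent.GalEt.Div
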