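import Groth.Agent.GalEt.DivSheaf

/-!
# Local exactness of the divisor sequence
-/

set_option autoImplicit false
set_option linter.all false
set_option backward.isDefEq.respectTransparency.types false
set_option backward.isDefEq.respectTransparency false
set_option backward.defeqAttrib.useBackward true
set_option synthInstance.maxHeartbeats 400000
set_option maxHeartbeats 1000000

universe u

open CategoryTheory CategoryTheory.Limits AlgebraicGeometry Opposite TopologicalSpace

noncomputable section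

namespace Groth.Agent.GalEt.Div

open GmUnit (openObj openIncl)

variable {X : Scheme.{u}}

theorem str_openObj (U : X.Etale) (W : U.left.Opens) (v : (openObj U W).left) :
    str (openObj U W) v = str U (W.ι v) := rfl

/-- An inclusion of opens. -/
def openLE (U : X.Etale) {W W' : U.left.Opens} (h : W ≤ W') : openObj U W ⟶ openObj U W' :=
  MorphismProperty.Over.homMk (U.left.homOfLE h)
    ((Scheme.homOfLE_ι_assoc _ _ _).trans rfl)

theorem openLE_incl (U : X.Etale) {W W' : U.left.Opens} (h : W ≤ W') :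
    openLE U h ≫ openIncl U W' = openIncl U W :=
  MorphismProperty.Over.Hom.ext (Scheme.homOfLE_ι _ h)

theorem stalkMap_germ_topIso {U : Scheme.{u}} (W : U.Opens) (v : (W : Scheme.{u})) (s : Γ(U, W)) :
    (W.ι.stalkMap v).hom (U.presheaf.germ W (W.ι v) v.2 s) =
      (W : Scheme.{u}).presheaf.germ ⊤ v trivial (W.topIso.inv s) := by
  refine (Scheme.Hom.germ_stalkMap_apply W.ι W v v.2 s).trans ?_
  have e : W.topIso.inv = W.ι.app W ≫ (W : Scheme.{u}).presheaf.map (homOfLE (by simp) : (⊤ : (W : Scheme.{u}).Opens) ⟶ W.ι ⁻¹ᵁ W).op := by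
    have := Scheme.Opens.ι_appLE (X := U) W W ⊤ (by simp)
    rw [Scheme.Hom.appLE] at this
    rw [this]
    rfl
  rw [e, CommRingCat.comp_apply]
  exact (TopCat.Presheaf.germ_res_apply (W : Scheme.{u}).presheaf (homOfLE (by simp) : (⊤ : (W : Scheme.{u}).Opens) ⟶ W.ι ⁻¹ᵁ W) v trivial _).symm

variable [LocFact X] [IsLocallyNoetherian X]

/-- The maximal point of the base under a neighbourhood with one maximal point. -/
theorem gen_openObj {U : X.Etale} {W : U.left.Opens} {u : U.left} (hW : ∀ v ∈ W, gpt v = gpt u)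
    (v : (openObj U W).left) :
    Gen (str (openObj U W)) (eta (str U u)).1 v ∧ Gen (str U) (eta (str U u)).1 (W.ι v) := by
  have hu : Gen (str U) (eta (str U u)).1 u := (gen_iff _ U u).2 (gpt_specializes _)
  have h2 : Gen (str U) (eta (str U u)).1 (W.ι v) := gen_of_gpt_eq (hW _ v.2) hu
  refine ⟨(gen_iff _ _ _).2 ?_, h2⟩
  rw [str_openObj]
  exact (gen_iff _ _ _).1 h2

theorem eq_gpt_of_fibre {U : X.Etale} (η : maxPoints X) {v : U.left} (hv : str U v = η.1) :
    v = gpt v := by
  haveI := AlgSpLib.locallyQuasiFinite_of_etale (str U)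
  haveI := isDiscrete_iff_discreteTopology.mp ((str U).isDiscrete_preimage_singleton η.1)
  have hg : str U (gpt v) = η.1 := by
    refine η.2 _ ?_
    rw [← hv]
    exact (gpt_specializes v).map (str U).continuous
  have h : (⟨gpt v, hg⟩ : str U ⁻¹' {η.1}) ⤳ ⟨v, hv⟩ :=
    (Topology.IsInducing.subtypeVal.specializes_iff).1 (gpt_specializes v)
  exact (congrArg Subtype.val h.eq).symm

variable [Fintype (maxPoints X)]

theorem phi_mono : Mono (phi X) := by
  haveI : Mono (phi X).hom := by
    have : ∀ U, Mono ((phi X).hom.app U) := fun U => by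
      rw [AddCommGrpCat.mono_iff_injective]
      refine (injective_iff_map_eq_zero ((phi X).hom.app U).hom).2 fun σ hσ => ?_
      refine EtLimit.units_ext ?_
      refine TopCat.Presheaf.section_ext U.unop.left.sheaf ⊤ _ _ fun v _ => ?_
      let η := eta (str U.unop v)
      have hv : Gen (str U.unop) η.1 v := (gen_iff _ _ _).2 (gpt_specializes _)
      have h0 : comp η ((phi X).hom.app (op U.unop) σ) = 0 :=
        (congrArg (comp η) hσ).trans (map_zero _)
      rw [comp_phi] at h0
      have h1 := congrArg (fun z => val v hv (funOf z)) h0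
      simp only at h1
      rw [funOf_GmPush, val_fst] at h1
      refine IsFractionRing.injective (O U.unop.left v) (FractionRing (O U.unop.left v)) (h1.trans ?_)
      refine (map_one (val v hv)).trans (Eq.symm ?_)
      exact (congrArg (algebraMap (O U.unop.left v) (FractionRing (O U.unop.left v))) (map_one _)).trans (map_one _)
    exact NatTrans.mono_of_mono_app _
  exact (sheafToPresheaf X.smallEtaleTopology AddCommGrpCat.{u + 1}).mono_of_mono_map
    (inferInstanceAs (Mono (phi X).hom))

/-- A section without divisor is a unit. -/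
theorem exists_phi_eq {U : X.Etale} (t : EtCoh.sect (P X) U) (u : U.left)
    (h : ∀ x : Ht1 X, (toD x).hom.app (op U) t = 0) :
    ∃ (W : U.left.Opens), u ∈ W ∧ ∃ σ : EtCoh.sect (EtCoh.Gm X) (openObj U W),
      (phi X).hom.app (op (openObj U W)) σ = (P X).obj.map (openIncl U W).op t := by
  let η₀ := eta (str U u)
  have hu : Gen (str U) η₀.1 u := (gen_iff _ U u).2 (gpt_specializes _)
  have hord : ∀ v : U.left, v ⤳ u → ordAt (str U) η₀.1 v (funOf (comp η₀ t)) = 0 := by
    intro v hvu
    by_cases hd : ringKrullDim (O U.left v) = 1 ∧ Gen (str U) η₀.1 v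
    · rw [← ordP_eq hd.2]
      have hx : ringKrullDim (X.presheaf.stalk (str U v)) = 1 :=
        (Et18.ringKrullDim_stalk_eq_of_etale (str U) v).symm.trans hd.1
      exact ordP_eq_zero_of_toD (h ⟨str U v, hx⟩) v rfl
    · exact dif_neg hd
  obtain ⟨W₁, s₁, huW₁, hs₁, hval⟩ := exists_unit hu (Units.isUnit _) hord
  obtain ⟨W, V, huW, hle, -, -, hgood⟩ := exists_good u W₁ huW₁
  let s : Γ(U.left, W) := U.left.presheaf.map (homOfLE hle).op s₁
  have hs : IsUnit (W.topIso.inv s) := (hs₁.map (U.left.presheaf.map (homOfLE hle).op).hom).map W.topIso.inv.hom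
  refine ⟨W, huW, EtLimit.ofUnit hs.unit, sect_ext fun η => ?_⟩
  rw [comp_phi]
  refine EtLimit.units_ext ?_
  refine ext_val (f := str (openObj U W)) η.2 fun v hv hvη => ?_
  refine (congrArg (val v hv) (funOf_GmPush η _)).trans ((val_fst v hv _).trans (Eq.symm ?_))
  have hv' : Gen (str U) η.1 (W.ι v) := (gen_iff _ _ _).2 ((gen_iff η (openObj U W) v).1 hv)
  have hηeq : η = η₀ := (eta_of_gen hv').symm.trans (eta_of_gen (gen_openObj hgood v).2)
  subst hηeq
  refine (congrArg (fun z : EtCoh.sect (RUnits η₀) (openObj U W) => val v hv (funOf z))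
    (NatTrans.naturality_apply (biproduct.π (maxPush X) η₀).hom (openIncl U W).op t)).trans ?_
  refine (congrArg (val v hv) (EtLimit.unitOf_map _ _)).trans ?_
  refine (val_map (str (openObj U W)) W.ι ((EtCoh.bc (X.fromSpecStalk η₀.1)).map (openIncl U W)).left
    (EtCoh.isPullback_bc_map (X.fromSpecStalk η₀.1) (openIncl U W)).w v hv hv' _).trans ?_
  have hvW₁ : W.ι v ∈ W₁ := hle v.2
  refine (congrArg _ (hval (W.ι v) hvW₁ hv')).trans ((fracMap_algebraMap _ _ _).trans ?_)
  refine congrArg (algebraMap (O (openObj U W).left v) (FractionRing (O (openObj U W).left v))) ?_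
  refine Eq.trans ?_ (stalkMap_germ_topIso W v s)
  exact congrArg _ (TopCat.Presheaf.germ_res_apply U.left.presheaf _ _ v.2 s₁).symm

/-- A section has finitely many nonzero divisor components near a point. -/
theorem exists_finset {U : X.Etale} (t : EtCoh.sect (P X) U) (u : U.left) :
    ∃ (W : U.left.Opens) (S : Finset (Ht1 X)), u ∈ W ∧
      ∀ x ∉ S, (toD x).hom.app (op (openObj U W)) ((P X).obj.map (openIncl U W).op t) = 0 := by
  classical
  let η₀ := eta (str U u)
  have hu : Gen (str U) η₀.1 u := (gen_iff _ U u).2 (gpt_specializes _)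
  obtain ⟨W, huW, hgood, hfin⟩ := exists_finite u (Units.isUnit (EtLimit.unitOf (comp η₀ t) : Γ(pullback (str U) (X.fromSpecStalk η₀.1), ⊤)ˣ))
  let S : Set (Ht1 X) := {x | ∃ v : U.left, (v ∈ W ∧ ordAt (str U) η₀.1 v (funOf (comp η₀ t)) ≠ 0) ∧ str U v = x.1}
  have hS : S.Finite :=
    Set.Finite.of_finite_image (f := Subtype.val) ((hfin.image (str U)).subset (by
      rintro _ ⟨x, ⟨v, hv, hx⟩, rfl⟩
      exact ⟨v, hv, hx⟩)) Subtype.val_injective.injOn
  refine ⟨W, hS.toFinset, huW, fun x hx => toD_eq_zero fun v hv => ?_⟩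
  by_contra hne
  rw [ordP_map] at hne
  have hgv : Gen (str U) η₀.1 (W.ι v) := (gen_openObj hgood v).2
  refine hx (hS.mem_toFinset.2 ⟨W.ι v, ⟨v.2, ?_⟩, hv⟩)
  rw [← ordP_eq hgv]
  exact hne

open Classical in
/-- A point of codimension one is locally the divisor of a section. -/
theorem exists_indicator {U : X.Etale} {u z : U.left} (hz : ringKrullDim (O U.left z) = 1) (h : z ⤳ u) :
    ∃ (W : U.left.Opens) (t : EtCoh.sect (P X) (openObj U W)), u ∈ W ∧
      ∀ v : (openObj U W).left, ordP (openObj U W) v t = if W.ι v = z then 1 else 0 := by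
  obtain ⟨W, s, huW, hne, hgood, hord⟩ := exists_uniformizer hz h
  let η₀ := eta (str U u)
  let V := openObj U W
  let σ : Γ(V.left, ⊤) := W.topIso.inv s
  have hgerm : ∀ v : V.left, V.left.presheaf.germ ⊤ v trivial σ ≠ 0 := by
    intro v h0
    have h1 : U.left.presheaf.germ W (W.ι v) v.2 s = 0 :=
      stalkMap_injective W.ι v ((stalkMap_germ_topIso W v s).trans (h0.trans (map_zero _).symm))
    have hwv : gpt u ⤳ W.ι v := hgood _ v.2 ▸ gpt_specializes _
    refine hne (stalkSpecializes_injective (gpt_specializes u) ?_)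
    rw [map_zero]
    refine (TopCat.Presheaf.germ_stalkSpecializes_apply U.left.presheaf huW (gpt_specializes u) s).trans ?_
    refine (TopCat.Presheaf.germ_stalkSpecializes_apply U.left.presheaf v.2 hwv s).symm.trans ?_
    exact (congrArg (U.left.presheaf.stalkSpecializes hwv).hom h1).trans (map_zero _)
  let p := pullback.fst (str V) (X.fromSpecStalk η₀.1)
  have hτ : IsUnit (p.appTop σ) := by
    refine (pullback (str V) (X.fromSpecStalk η₀.1)).toRingedSpace.isUnit_of_isUnit_germ ⊤ _ fun w _ => ?_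
    have hw : str V (p w) = η₀.1 := by
      have h1 : str V (p w) = X.fromSpecStalk η₀.1 (pullback.snd (str V) (X.fromSpecStalk η₀.1) w) :=
        congrArg (fun k : pullback (str V) (X.fromSpecStalk η₀.1) ⟶ X => k w) pullback.condition
      have h2 : X.fromSpecStalk η₀.1 (pullback.snd (str V) (X.fromSpecStalk η₀.1) w) ∈
          Set.range (X.fromSpecStalk η₀.1) := Set.mem_range_self _
      rw [Scheme.range_fromSpecStalk] at h2
      exact h1.trans (η₀.2 _ h2)
    have hmax : ∀ y, y ⤳ p w → y = p w := fun y hy => by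
      have e := eq_gpt_of_fibre η₀ hw
      rw [e] at hy ⊢
      exact gpt_maximal _ y hy
    letI := (isField_stalk hmax).toField
    have := (Ne.isUnit (hgerm (p w))).map (p.stalkMap w).hom
    rwa [Scheme.Hom.germ_stalkMap_apply] at this
  let t₀ : EtCoh.sect (RUnits η₀) V := EtLimit.ofUnit hτ.unit
  refine ⟨W, (biproduct.ι (maxPush X) η₀).hom.app (op V) t₀, huW, fun v => ?_⟩
  obtain ⟨hgv, hgv'⟩ := gen_openObj (U := U) hgood v
  rw [ordP_eq hgv]
  have hc : comp η₀ ((biproduct.ι (maxPush X) η₀).hom.app (op V) t₀) = t₀ :=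
    congrArg (fun k : RUnits η₀ ⟶ RUnits η₀ => k.hom.app (op V) t₀) (biproduct.ι_π_self (maxPush X) η₀)
  refine (congrArg (fun z : EtCoh.sect (RUnits η₀) V => ordAt (str V) η₀.1 v (funOf z)) hc).trans ?_
  show ordAt (str V) η₀.1 v (p.appTop σ) = _
  have hd : ringKrullDim (O V.left v) = ringKrullDim (O U.left (W.ι v)) :=
    Et18.ringKrullDim_stalk_eq_of_etale W.ι v
  by_cases h1 : ringKrullDim (O V.left v) = 1
  · haveI := isDVR_of_ufm_of_dim_one h1
    haveI := isDVR_of_ufm_of_dim_one (hd.symm.trans h1)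
    haveI : IsDomain (O (W : Scheme.{u}) v) := instDomainEtale V v
    haveI : IsDiscreteValuationRing (O (W : Scheme.{u}) v) := ‹IsDiscreteValuationRing (O V.left v)›
    rw [ordAt_eq h1 hgv, val_fst, ← hord (W.ι v) v.2 (hd.symm.trans h1)]
    refine Eq.trans ?_ (ordK_map (φ := (W.ι.stalkMap v).hom)
      (Et18.stalkMap_flat_and_map_maximalIdeal W.ι v).2
      (fracMap (W.ι.stalkMap v).hom (stalkMap_injective W.ι v)) (fun a => fracMap_algebraMap _ _ a)
      (algebraMap_ne_zero' (fun h0 => hgerm v ((stalkMap_germ_topIso W v s).symm.trans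
        ((congrArg (W.ι.stalkMap v).hom h0).trans (map_zero _))))))
    refine congrArg (ordK (O V.left v)) (Eq.trans ?_ (fracMap_algebraMap _ _ _).symm)
    exact congrArg _ (stalkMap_germ_topIso W v s).symm
  · rw [if_neg fun hv => h1 (hd.trans ((congrArg (fun w => ringKrullDim (O U.left w)) hv).trans hz)), ordAt,
      dif_neg fun h => h1 h.1]

/-- Every local section of a skyscraper lifts with no other divisor component. -/
theorem exists_lift (x : Ht1 X) {U : X.Etale} (d : EtCoh.sect (D x) U) (u : U.left) :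
    ∃ (W : U.left.Opens) (t : EtCoh.sect (P X) (openObj U W)), u ∈ W ∧
      (toD x).hom.app (op (openObj U W)) t = (D x).obj.map (openIncl U W).op d ∧
      ∀ y : Ht1 X, y ≠ x → (toD y).hom.app (op (openObj U W)) t = 0 := by
  classical
  obtain ⟨_, ⟨(V : U.left.Opens), hV, rfl⟩, huV, -⟩ :=
    U.left.isBasis_affineOpens.exists_subset_of_mem_open (Set.mem_univ u) isOpen_univ
  let F : Set U.left := {v | v ∈ V ∧ str U v = x.1}
  have hF : F.Finite := by
    haveI := AlgSpLib.locallyQuasiFinite_of_etale (str U)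
    haveI : IsAffine (V : Scheme.{u}) := hV
    haveI : IsNoetherian (V : Scheme.{u}) := ⟨⟩
    haveI := isDiscrete_iff_discreteTopology.mp ((V.ι ≫ str U).isDiscrete_preimage_singleton x.1)
    haveI : CompactSpace ((V.ι ≫ str U) ⁻¹' {x.1} : Set (V : Scheme.{u})) :=
      isCompact_iff_compactSpace.1 (TopologicalSpace.NoetherianSpace.isCompact _)
    haveI : Finite ((V.ι ≫ str U) ⁻¹' {x.1} : Set (V : Scheme.{u})) := finite_of_compact_of_discrete
    refine ((Set.toFinite ((V.ι ≫ str U) ⁻¹' {x.1} : Set (V : Scheme.{u}))).image V.ι).subset ?_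
    rintro v ⟨hv, hvx⟩
    exact ⟨⟨v, hv⟩, hvx, rfl⟩
  obtain ⟨W₀, huW₀, hle₀, hW₀⟩ := exists_shrink V huV hF
  let S : Finset U.left := hF.toFinset.filter fun z => z ⤳ u
  have hdim : ∀ z ∈ S, ringKrullDim (O U.left z) = 1 := fun z hz => by
    refine (Et18.ringKrullDim_stalk_eq_of_etale (str U) z).trans ?_
    show ringKrullDim (X.presheaf.stalk (str U z)) = 1
    rw [(hF.mem_toFinset.1 (Finset.mem_filter.1 hz).1).2]
    exact x.2
  choose Wz tz huWz hord using fun z : S =>
    exists_indicator (hdim z.1 z.2) (Finset.mem_filter.1 z.2).2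
  let W : U.left.Opens := W₀ ⊓ Finset.univ.inf Wz
  have huW : u ∈ W := ⟨huW₀, by
    rw [SetLike.mem_coe]
    have key : ∀ A : Finset S, u ∈ A.inf Wz := by
      intro A
      induction A using Finset.induction_on with
      | empty => exact trivial
      | insert a A _ ih => rw [Finset.inf_insert]; exact ⟨huWz a, ih⟩
    exact key _⟩
  have hWz : ∀ z : S, W ≤ Wz z := fun z => inf_le_right.trans (Finset.inf_le (Finset.mem_univ z))
  let i := X.fromSpecResidueField x.1
  have hinj : Function.Injective (pr x U) := by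
    haveI : IsPreimmersion (pr x U) :=
      MorphismProperty.pullback_fst (P := @IsPreimmersion) (str U) i inferInstance
    exact (pr x U).isEmbedding.injective
  choose ys hys using fun z : S => exists_pr_eq x U (hF.mem_toFinset.1 (Finset.mem_filter.1 z.2).1).2
  let n : S → ℤ := fun z => (EtUnitLib.val (U := (EtCoh.bc i).obj U) d (ys z)).down
  let t : EtCoh.sect (P X) (openObj U W) :=
    ∑ z : S, n z • (P X).obj.map (openLE U (hWz z)).op (tz z)
  have ht : ∀ v : (openObj U W).left, ordP (openObj U W) v t = ∑ z : S, if W.ι v = z.1 then n z else 0 := by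
    intro v
    refine (map_sum (ordPHom (openObj U W) v) _ Finset.univ).trans (Finset.sum_congr rfl fun z _ => ?_)
    rw [map_zsmul]
    show n z • ordP (openObj U W) v _ = _
    rw [ordP_map, hord z]
    have e : (Wz z).ι ((openLE U (hWz z)).left v) = W.ι v :=
      congrArg (fun k : (W : Scheme.{u}) ⟶ U.left => k v) (Scheme.homOfLE_ι U.left (hWz z))
    rw [e]
    split_ifs <;> simp
  refine ⟨W, t, huW, EtUnitLib.ext_val (U := (EtCoh.bc i).obj (openObj U W)) fun y => ?_, fun y hy => ?_⟩
  · rw [val_toD, ht]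
    refine Eq.trans ?_ (EtUnitLib.val_map ((EtCoh.bc i).map (openIncl U W)) d y).symm
    have e : W.ι (pr x (openObj U W) y) = pr x U (((EtCoh.bc i).map (openIncl U W)).left y) :=
      congrArg (fun k : ((EtCoh.bc i).obj (openObj U W)).left ⟶ U.left => k y)
        (EtCoh.isPullback_bc_map i (openIncl U W)).w.symm
    set z₀ := W.ι (pr x (openObj U W) y) with hz₀
    have hz₀W : z₀ ∈ W := (pr x (openObj U W) y).2
    have hz₀F : z₀ ∈ F := ⟨hle₀ hz₀W.1, hom_pr x (openObj U W) y⟩
    have hz₀S : z₀ ∈ S := Finset.mem_filter.2 ⟨hF.mem_toFinset.2 hz₀F, hW₀ z₀ hz₀W.1 z₀ hz₀F (specializes_refl _)⟩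
    rw [Finset.sum_eq_single (⟨z₀, hz₀S⟩ : S) (fun z _ hne => if_neg fun he => hne (Subtype.ext he.symm))
      (fun hn => absurd (Finset.mem_univ _) hn), if_pos rfl]
    show ULift.up (EtUnitLib.val (U := (EtCoh.bc i).obj U) d (ys ⟨z₀, hz₀S⟩)).down = _
    rw [hinj ((hys ⟨z₀, hz₀S⟩).trans e)]
  · refine toD_eq_zero fun v hv => (ht v).trans (Finset.sum_eq_zero fun z _ => if_neg fun he => hy (Subtype.ext ?_))
    rw [← hv, str_openObj, he]
    exact (hF.mem_toFinset.1 (Finset.mem_filter.1 z.2).1).2

end Groth.Agent.GalEt.Div
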