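import Groth.Agent.GalEt.DivPts
import Groth.Agent.GalEt.TorsionGm

/-!
# Local theory of divisors of rational units
-/

set_option autoImplicit false
set_option linter.all false
set_option backward.isDefEq.respectTransparency.types false
set_option backward.isDefEq.respectTransparency false
set_option backward.defeqAttrib.useBackward true
set_option synthInstance.maxHeartbeats 400000
set_option maxHeartbeats 1000000

universe u

open CategoryTheory CategoryTheory.Limits AlgebraicGeometry Opposite TopologicalSpace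

noncomputable section

namespace Groth.Agent.GalEt.Div

section Pure

variable {U : Scheme.{u}} [IsLocallyNoetherian U]

/-- The points maximal in a closed set form a finite set on an affine open. -/
theorem finite_maximal_in_closed (V : U.Opens) (hV : IsAffineOpen V) (Z : Set U) (hZ : IsClosed Z) :
    {v : U | v ∈ V ∧ v ∈ Z ∧ ∀ y ∈ Z, y ⤳ v → y = v}.Finite := by
  classical
  haveI : IsAffine (V : Scheme.{u}) := hV
  haveI : IsNoetherian (V : Scheme.{u}) := ⟨⟩
  let T : Closeds (V : Scheme.{u}) := ⟨V.ι ⁻¹' Z, hZ.preimage V.ι.continuous⟩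
  obtain ⟨S, hSf, hcl, hirr, hcov⟩ :=
    TopologicalSpace.NoetherianSpace.exists_finite_set_isClosed_irreducible T.isClosed'
  haveI := hSf.to_subtype
  refine Set.Finite.subset (Set.finite_range fun t : S =>
    V.ι (QuasiSober.sober (hirr t.1 t.2) (hcl t.1 t.2)).choose) ?_
  rintro v ⟨hvV, hvZ, hmax⟩
  have hvT : (⟨v, hvV⟩ : (V : Scheme.{u})) ∈ (T : Set (V : Scheme.{u})) := hvZ
  obtain ⟨t, htS, hvt⟩ := Set.mem_sUnion.1 ((Set.ext_iff.1 hcov _).1 hvT)
  have hg := (QuasiSober.sober (hirr t htS) (hcl t htS)).choose_spec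
  refine ⟨⟨t, htS⟩, hmax _ ?_ ((hg.specializes hvt).map V.ι.continuous)⟩
  exact (Set.ext_iff.1 hcov _).2 (Set.mem_sUnion.2 ⟨t, htS, hg.mem⟩)

/-- Removing the closures of finitely many points not above `u`. -/
theorem exists_shrink {u : U} (O₀ : U.Opens) (hu : u ∈ O₀) {S : Set U} (hS : S.Finite) :
    ∃ O : U.Opens, u ∈ O ∧ O ≤ O₀ ∧ ∀ v ∈ O, ∀ s ∈ S, s ⤳ v → s ⤳ u := by
  let S' : Set U := {s ∈ S | ¬ s ⤳ u}
  have hcl : IsClosed (⋃ s ∈ S', closure ({s} : Set U)) :=
    (hS.subset fun s hs => hs.1).isClosed_biUnion fun s _ => isClosed_closure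
  refine ⟨O₀ ⊓ ⟨_, hcl.isOpen_compl⟩, ⟨hu, ?_⟩, inf_le_left, fun v hv s hs hsv => ?_⟩
  · intro hmem
    obtain ⟨s, hs, hsu⟩ := Set.mem_iUnion₂.1 hmem
    exact hs.2 (specializes_iff_mem_closure.2 hsu)
  · by_contra hsu
    exact hv.2 (Set.mem_iUnion₂.2 ⟨s, ⟨hs, hsu⟩, specializes_iff_mem_closure.1 hsv⟩)

variable [∀ u : U, IsDomain (O U u)]

/-- An affine noetherian neighbourhood on which there is a single maximal point. -/
theorem exists_good (u : U) (O₀ : U.Opens) (hu₀ : u ∈ O₀) :
    ∃ (W : U.Opens) (V : U.Opens), u ∈ W ∧ W ≤ O₀ ∧ IsAffineOpen V ∧ W ≤ V ∧ ∀ v ∈ W, gpt v = gpt u := by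
  obtain ⟨_, ⟨(V : U.Opens), hV, rfl⟩, huV, -⟩ :=
    U.isBasis_affineOpens.exists_subset_of_mem_open (Set.mem_univ u) isOpen_univ
  let S : Set U := {v | v ∈ V ∧ v ∈ (Set.univ : Set U) ∧ ∀ y ∈ (Set.univ : Set U), y ⤳ v → y = v}
  obtain ⟨W, huW, hle, hW⟩ := exists_shrink (O₀ ⊓ V) ⟨hu₀, huV⟩
    (finite_maximal_in_closed V hV Set.univ isClosed_univ : S.Finite)
  refine ⟨W, V, huW, hle.trans inf_le_left, hV, hle.trans inf_le_right, fun v hv => ?_⟩
  have h1 : gpt v ⤳ u := hW v hv (gpt v)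
    ⟨(gpt_specializes v).mem_open V.2 (hle hv).2, trivial, fun y _ hy => gpt_maximal v y hy⟩
    (gpt_specializes v)
  exact (eq_gpt h1 (gpt_maximal v))

end Pure

variable {X U : Scheme.{u}} [IsLocallyNoetherian U] [∀ u : U, IsDomain (O U u)]
  [∀ u : U, UniqueFactorizationMonoid (O U u)] (f : U ⟶ X) [Flat f] (η : X)

local notation "jη" => X.fromSpecStalk η

theorem gen_iff_gpt (u : U) : Gen f η u ↔ f (gpt u) = η :=
  ⟨fun h => h _, fun h z => by rw [gfrac_eq_gpt, h]⟩

open Classical in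
/-- The order of a rational unit at a point of codimension one, zero elsewhere. -/
def ordAt (u : U) (τ : Γ(pullback f jη, ⊤)) : ℤ :=
  if h : ringKrullDim (O U u) = 1 ∧ Gen f η u then
    haveI := isDVR_of_ufm_of_dim_one h.1
    ordK (O U u) (val u h.2 τ)
  else 0

variable {f η}

theorem ordAt_eq {u : U} [IsDiscreteValuationRing (O U u)] (hd : ringKrullDim (O U u) = 1) (hu : Gen f η u)
    (τ : Γ(pullback f jη, ⊤)) : ordAt f η u τ = ordK (O U u) (val u hu τ) :=
  dif_pos ⟨hd, hu⟩

theorem val_ne_zero {u : U} (hu : Gen f η u) {τ : Γ(pullback f jη, ⊤)} (hτ : IsUnit τ) :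
    val u hu τ ≠ 0 := (hτ.map (val u hu)).ne_zero

theorem ordAt_mul (u : U) {τ τ' : Γ(pullback f jη, ⊤)} (hτ : IsUnit τ) (hτ' : IsUnit τ') :
    ordAt f η u (τ * τ') = ordAt f η u τ + ordAt f η u τ' := by
  unfold ordAt
  split_ifs with h
  · haveI := isDVR_of_ufm_of_dim_one h.1
    rw [map_mul]
    exact ordK_mul (val_ne_zero h.2 hτ) (val_ne_zero h.2 hτ')
  · rfl

theorem ordAt_fst_eq_zero (u : U) (s : Γ(U, ⊤)) (hs : IsUnit s) :
    ordAt f η u ((pullback.fst f jη).appTop s) = 0 := by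
  unfold ordAt
  split_ifs with h
  · haveI := isDVR_of_ufm_of_dim_one h.1
    rw [val_fst]
    exact ordK_unit (hs.map (U.presheaf.germ ⊤ u trivial).hom).unit
  · rfl

/-- Fractions propagate along a neighbourhood with a single maximal point. -/
theorem val_mul_eq {u v : U} (hu : Gen f η u) (hv : Gen f η v) (hg : gpt v = gpt u) {W : U.Opens}
    (huW : u ∈ W) (hvW : v ∈ W) (a b : Γ(U, W)) (τ : Γ(pullback f jη, ⊤))
    (h : val u hu τ * algebraMap (O U u) _ (U.presheaf.germ W u huW b) =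
      algebraMap (O U u) _ (U.presheaf.germ W u huW a)) :
    val v hv τ * algebraMap (O U v) _ (U.presheaf.germ W v hvW b) =
      algebraMap (O U v) _ (U.presheaf.germ W v hvW a) := by
  have hwu : gpt u ⤳ u := gpt_specializes u
  have hwv : gpt u ⤳ v := hg ▸ gpt_specializes v
  have hw : Gen f η (gpt u) := by
    rw [gen_iff_gpt, ← gpt_eq_gpt (specializes_refl (gpt u))]
    exact hu _
  let Ψ := fracMap (U.presheaf.stalkSpecializes hwv).hom (stalkSpecializes_injective hwv)
  apply RingHom.injective Ψ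
  have h2 := congrArg (fracMap (U.presheaf.stalkSpecializes hwu).hom (stalkSpecializes_injective hwu)) h
  rw [map_mul, ← val_specializes hwu hu hw, fracMap_algebraMap, fracMap_algebraMap] at h2
  rw [map_mul, ← val_specializes hwv hv hw, fracMap_algebraMap, fracMap_algebraMap]
  refine Eq.trans ?_ (h2.trans ?_)
  · congr 2
    exact (TopCat.Presheaf.germ_stalkSpecializes_apply U.presheaf hvW hwv b).trans
      (TopCat.Presheaf.germ_stalkSpecializes_apply U.presheaf huW hwu b).symm
  · congr 1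
    exact (TopCat.Presheaf.germ_stalkSpecializes_apply U.presheaf huW hwu a).trans
      (TopCat.Presheaf.germ_stalkSpecializes_apply U.presheaf hvW hwv a).symm

/-- Sections give a fraction near `u`. -/
theorem exists_fraction {u : U} (hu : Gen f η u) {τ : Γ(pullback f jη, ⊤)} (hτ : IsUnit τ) (a b : O U u)
    (hb : b ≠ 0) (h : val u hu τ * algebraMap (O U u) _ b = algebraMap (O U u) _ a) :
    ∃ (W V : U.Opens) (huW : u ∈ W) (sa sb : Γ(U, W)), IsAffineOpen V ∧ W ≤ V ∧
      (∀ v ∈ W, gpt v = gpt u) ∧ U.presheaf.germ W u huW sa = a ∧ U.presheaf.germ W u huW sb = b ∧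
      (∀ (v : U) (hvW : v ∈ W) (hv : Gen f η v), val v hv τ * algebraMap (O U v) _ (U.presheaf.germ W v hvW sb) =
        algebraMap (O U v) _ (U.presheaf.germ W v hvW sa)) := by
  obtain ⟨Oa, hOa, sa, rfl⟩ := U.presheaf.exists_germ_eq a
  obtain ⟨Ob, hOb, sb, rfl⟩ := U.presheaf.exists_germ_eq b
  obtain ⟨W, V, huW, hle, hV, hWV, hgood⟩ := exists_good u (Oa ⊓ Ob) ⟨hOa, hOb⟩
  refine ⟨W, V, huW, U.presheaf.map (homOfLE (hle.trans inf_le_left)).op sa,
    U.presheaf.map (homOfLE (hle.trans inf_le_right)).op sb, hV, hWV, hgood,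
    TopCat.Presheaf.germ_res_apply U.presheaf _ _ huW sa, TopCat.Presheaf.germ_res_apply U.presheaf _ _ huW sb,
    fun v hvW hv => ?_⟩
  refine val_mul_eq hu hv (hgood v hvW) huW hvW _ _ τ ?_
  rwa [TopCat.Presheaf.germ_res_apply, TopCat.Presheaf.germ_res_apply]

theorem gen_of_gpt_eq {u v : U} (h : gpt v = gpt u) (hu : Gen f η u) : Gen f η v := by
  rw [gen_iff_gpt, h]
  exact hu _

/-- A rational unit has finitely many zeros and poles near `u`. -/
theorem exists_finite (u : U) {τ : Γ(pullback f jη, ⊤)} (hτ : IsUnit τ) :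
    ∃ W : U.Opens, u ∈ W ∧ (∀ v ∈ W, gpt v = gpt u) ∧ {v : U | v ∈ W ∧ ordAt f η v τ ≠ 0}.Finite := by
  by_cases hu : Gen f η u
  · obtain ⟨a, b, hb, hab⟩ := IsFractionRing.div_surjective (O U u) (val u hu τ)
    have hb0 : b ≠ 0 := nonZeroDivisors.ne_zero hb
    have ha0 : a ≠ 0 := fun h => val_ne_zero hu hτ (by rw [← hab, h, map_zero, zero_div])
    obtain ⟨W, V, huW, sa, sb, hV, hWV, hgood, hsa, hsb, hfr⟩ := exists_fraction hu hτ a b hb0
      (by rw [← hab, div_mul_cancel₀ _ (algebraMap_ne_zero' hb0)])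
    let Z : Set U := ((U.basicOpen sa ⊓ U.basicOpen sb : U.Opens) : Set U)ᶜ
    have hZ : IsClosed Z := (U.basicOpen sa ⊓ U.basicOpen sb).isOpen.isClosed_compl
    have hgu : gpt u ∉ Z := by
      intro hz
      refine hz ?_
      have hw : gpt u ∈ W := (gpt_specializes u).mem_open W.2 huW
      have hf := isField_stalk (gpt_maximal u)
      have key : ∀ (s : Γ(U, W)), U.presheaf.germ W u huW s ≠ 0 → gpt u ∈ U.basicOpen s := by
        intro s hs
        rw [Scheme.mem_basicOpen _ _ _ hw]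
        letI := hf.toField
        refine Ne.isUnit fun h0 => hs (stalkSpecializes_injective (gpt_specializes u) ?_)
        rw [map_zero, TopCat.Presheaf.germ_stalkSpecializes_apply]
        exact h0
      exact ⟨key sa (by rw [hsa]; exact ha0), key sb (by rw [hsb]; exact hb0)⟩
    refine ⟨W, huW, hgood, (finite_maximal_in_closed V hV Z hZ).subset ?_⟩
    rintro v ⟨hvW, hord⟩
    have hv : Gen f η v := gen_of_gpt_eq (hgood v hvW) hu
    have hd : ringKrullDim (O U v) = 1 := by
      by_contra hd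
      exact hord (dif_neg fun h => hd h.1)
    haveI := isDVR_of_ufm_of_dim_one hd
    refine ⟨hWV hvW, fun hv' => hord ?_, fun y hyZ hy => (eq_or_maximal hd hy).resolve_right fun hmax => ?_⟩
    · have ua : IsUnit (U.presheaf.germ W v hvW sa) := (U.mem_basicOpen sa v hvW).1 hv'.1
      have ub : IsUnit (U.presheaf.germ W v hvW sb) := (U.mem_basicOpen sb v hvW).1 hv'.2
      rw [ordAt_eq hd hv]
      have h := congrArg (ordK (O U v)) (hfr v hvW hv)
      rw [ordK_mul (val_ne_zero hv hτ) (algebraMap_ne_zero' ub.ne_zero)] at h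
      have e1 := ordK_unit ua.unit
      have e2 := ordK_unit ub.unit
      rw [IsUnit.unit_spec] at e1 e2
      rw [e1, e2, add_zero] at h
      exact h
    · exact hgu ((eq_gpt hy hmax).trans (hgood v hvW) ▸ hyZ)
  · obtain ⟨W, V, huW, -, -, -, hgood⟩ := exists_good u ⊤ trivial
    refine ⟨W, huW, hgood, Set.Finite.subset Set.finite_empty ?_⟩
    rintro v ⟨hvW, hord⟩
    exact hord (dif_neg fun h => hu (gen_of_gpt_eq (hgood v hvW).symm h.2))

/-- A rational unit without zeros and poles above `u` is a unit near `u`. -/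
theorem exists_unit {u : U} (hu : Gen f η u) {τ : Γ(pullback f jη, ⊤)} (hτ : IsUnit τ)
    (h : ∀ v : U, v ⤳ u → ordAt f η v τ = 0) :
    ∃ (W : U.Opens) (s : Γ(U, W)), u ∈ W ∧ IsUnit s ∧
      ∀ (v : U) (hvW : v ∈ W) (hv : Gen f η v), val v hv τ = algebraMap (O U v) _ (U.presheaf.germ W v hvW s) := by
  set x := val u hu τ with hx
  let a := IsFractionRing.num (O U u) x
  let b : O U u := (IsFractionRing.den (O U u) x : O U u)
  have hb0 : b ≠ 0 := nonZeroDivisors.ne_zero (IsFractionRing.den (O U u) x).2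
  have hab : x * algebraMap (O U u) _ b = algebraMap (O U u) _ a := by
    have := IsFractionRing.mk'_num_den' (O U u) x
    rw [div_eq_iff (algebraMap_ne_zero' hb0)] at this
    exact this.symm
  have ha0 : a ≠ 0 := fun h0 => val_ne_zero hu hτ
    ((mul_eq_zero.1 (hab.trans (by rw [h0, map_zero]))).resolve_right (algebraMap_ne_zero' hb0))
  have hprime : ∀ π : O U u, Prime π → (π ∣ a ↔ π ∣ b) := by
    intro π hπ
    obtain ⟨v, hvu, hd, hdiv⟩ := exists_point_of_prime hπ
    haveI := isDVR_of_ufm_of_dim_one hd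
    have hgv : gpt v = gpt u :=
      eq_gpt ((gpt_specializes v).trans hvu) (gpt_maximal v)
    have hv : Gen f η v := gen_of_gpt_eq hgv hu
    have h0 := h v hvu
    rw [ordAt_eq hd hv, val_specializes hvu hu hv, ← hx] at h0
    have e := congrArg (fracMap (U.presheaf.stalkSpecializes hvu).hom (stalkSpecializes_injective hvu)) hab
    rw [map_mul, fracMap_algebraMap, fracMap_algebraMap] at e
    have hsa : (U.presheaf.stalkSpecializes hvu).hom a ≠ 0 := fun h0 =>
      ha0 (stalkSpecializes_injective hvu (h0.trans (map_zero _).symm))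
    have hsb : (U.presheaf.stalkSpecializes hvu).hom b ≠ 0 := fun h0 =>
      hb0 (stalkSpecializes_injective hvu (h0.trans (map_zero _).symm))
    have e' := congrArg (ordK (O U v)) e
    rw [ordK_mul ((map_ne_zero _).2 (val_ne_zero hu hτ)) (algebraMap_ne_zero' hsb)] at e'
    rw [h0, zero_add] at e'
    rw [← hdiv a, ← hdiv b]
    refine not_congr ⟨fun hua => isUnit_of_ordK_eq_zero hsb ?_, fun hub => isUnit_of_ordK_eq_zero hsa ?_⟩
    · have := ordK_unit hua.unit
      rw [IsUnit.unit_spec] at this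
      exact e'.trans this
    · have := ordK_unit hub.unit
      rw [IsUnit.unit_spec] at this
      exact e'.symm.trans this
  have hred := IsFractionRing.num_den_reduced (O U u) x
  have hbu : IsUnit b := by
    by_contra hbn
    obtain ⟨π, hπ, hπb⟩ := WfDvdMonoid.exists_irreducible_factor hbn hb0
    exact hπ.not_isUnit (hred ((hprime π hπ.prime).2 hπb) hπb)
  have hau : IsUnit a := by
    by_contra han
    obtain ⟨π, hπ, hπa⟩ := WfDvdMonoid.exists_irreducible_factor han ha0
    exact hπ.not_isUnit (hred hπa ((hprime π hπ.prime).1 hπa))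
  let c : O U u := a * ((hbu.unit⁻¹ : (O U u)ˣ) : O U u)
  have hc : x * algebraMap (O U u) _ (1 : O U u) = algebraMap (O U u) _ c := by
    have e := congrArg (· * algebraMap (O U u) (FractionRing (O U u)) ((hbu.unit⁻¹ : (O U u)ˣ) : O U u)) hab
    simp only [mul_assoc, ← map_mul, IsUnit.mul_val_inv] at e
    exact e
  obtain ⟨W, V, huW, sa, sb, hV, hWV, hgood, hsa, hsb, hfr⟩ := exists_fraction hu hτ c 1 one_ne_zero hc
  have hcu : IsUnit (U.presheaf.germ W u huW sa) := hsa ▸ hau.mul (Units.isUnit _)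
  obtain ⟨W₁, i₁, huW₁, hu₁⟩ := U.toRingedSpace.isUnit_res_of_isUnit_germ W sa u huW hcu
  obtain ⟨W₂, huW₂, i₂, i₂', e₂⟩ := TopCat.Presheaf.germ_eq (F := U.presheaf) (U := W) (V := W) u huW huW sb 1
    (hsb.trans (map_one _).symm)
  refine ⟨W₁ ⊓ W₂, U.presheaf.map (homOfLE (inf_le_left.trans i₁.le : W₁ ⊓ W₂ ≤ W)).op sa, ⟨huW₁, huW₂⟩, ?_, ?_⟩
  · have := hu₁.map (U.presheaf.map (homOfLE (inf_le_left : W₁ ⊓ W₂ ≤ W₁)).op).hom
    rwa [← CommRingCat.comp_apply, ← Functor.map_comp] at this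
  · intro v hvW hv
    have hvW' : v ∈ W := i₁.le hvW.1
    have h1 := hfr v hvW' hv
    have hb1 : U.presheaf.germ W v hvW' sb = 1 := by
      rw [← TopCat.Presheaf.germ_res_apply U.presheaf i₂ v hvW.2 sb, e₂, TopCat.Presheaf.germ_res_apply, map_one]
    rw [hb1, map_one, mul_one] at h1
    rw [h1, TopCat.Presheaf.germ_res_apply]

open Classical in
/-- A point of codimension one is, near `u`, the divisor of a section. -/
theorem exists_uniformizer {u z : U} (hz : ringKrullDim (O U z) = 1) (h : z ⤳ u) :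
    ∃ (W : U.Opens) (s : Γ(U, W)) (huW : u ∈ W), U.presheaf.germ W u huW s ≠ 0 ∧
      (∀ v ∈ W, gpt v = gpt u) ∧
      ∀ (v : U) (hvW : v ∈ W) [IsDiscreteValuationRing (O U v)], ringKrullDim (O U v) = 1 →
        ordK (O U v) (algebraMap (O U v) _ (U.presheaf.germ W v hvW s)) = if v = z then 1 else 0 := by
  classical
  obtain ⟨π, hπ, hdiv, hone⟩ := exists_prime_of_point hz h
  obtain ⟨O₀, hO₀, s₀, rfl⟩ := U.presheaf.exists_germ_eq π
  obtain ⟨W₁, V, huW₁, hle₁, hV, hW₁V, hgood⟩ := exists_good u O₀ hO₀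
  let Z : Set U := (U.basicOpen s₀ : Set U)ᶜ
  have hZ : IsClosed Z := (U.basicOpen s₀).isOpen.isClosed_compl
  let S : Set U := {v | v ∈ V ∧ v ∈ Z ∧ ∀ y ∈ Z, y ⤳ v → y = v}
  obtain ⟨W, huW, hle, hW⟩ := exists_shrink W₁ huW₁ (finite_maximal_in_closed V hV Z hZ : S.Finite)
  let s := U.presheaf.map (homOfLE (hle.trans hle₁)).op s₀
  have hgerm : U.presheaf.germ W u huW s = U.presheaf.germ O₀ u hO₀ s₀ :=
    TopCat.Presheaf.germ_res_apply U.presheaf _ _ huW s₀
  refine ⟨W, s, huW, hgerm ▸ hπ.ne_zero, fun v hv => hgood v (hle hv), fun v hvW _ hd => ?_⟩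
  have hne : U.presheaf.germ W v hvW s ≠ 0 := by
    intro h0
    have hwv : gpt u ⤳ v := hgood v (hle hvW) ▸ gpt_specializes v
    refine hπ.ne_zero (hgerm ▸ stalkSpecializes_injective (gpt_specializes u) ?_)
    rw [map_zero]
    refine (TopCat.Presheaf.germ_stalkSpecializes_apply U.presheaf huW (gpt_specializes u) s).trans ?_
    refine (TopCat.Presheaf.germ_stalkSpecializes_apply U.presheaf hvW hwv s).symm.trans ?_
    rw [h0, map_zero]
  split_ifs with hvz
  · subst hvz
    have hsp : U.presheaf.germ W v hvW s = (U.presheaf.stalkSpecializes h).hom (U.presheaf.germ O₀ u hO₀ s₀) := by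
      rw [← hgerm]
      exact (TopCat.Presheaf.germ_stalkSpecializes_apply U.presheaf huW h s).symm
    obtain ⟨ϖ, hϖ⟩ := IsDiscreteValuationRing.exists_irreducible (O U v)
    have hnu : ¬ IsUnit (U.presheaf.germ W v hvW s) := hsp ▸ (hdiv _).2 dvd_rfl
    suffices hassoc : Associated ϖ (U.presheaf.germ W v hvW s) from ordK_irreducible (hassoc.irreducible hϖ)
    refine associated_of_dvd_dvd ?_ ?_
    · rw [← Ideal.mem_span_singleton, ← hϖ.maximalIdeal_eq, IsLocalRing.mem_maximalIdeal, mem_nonunits_iff]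
      exact hnu
    · have huV : u ∈ V := hW₁V huW₁
      have hvV : v ∈ V := hW₁V (hle hvW)
      let _ := TopCat.Presheaf.algebra_section_stalk U.presheaf ⟨v, hvV⟩
      have := hV.isLocalization_stalk ⟨v, hvV⟩
      obtain ⟨r, t, rfl⟩ := IsLocalization.exists_mk'_eq (hV.primeIdealOf ⟨v, hvV⟩).asIdeal.primeCompl ϖ
      have hspec := IsLocalization.mk'_spec (U.presheaf.stalk v) r t
      have ht : IsUnit (algebraMap Γ(U, V) (U.presheaf.stalk v) (t : Γ(U, V))) := IsLocalization.map_units _ t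
      have hr : (U.presheaf.stalkSpecializes h).hom (U.presheaf.germ V u huV r) =
          algebraMap Γ(U, V) (U.presheaf.stalk v) r :=
        TopCat.Presheaf.germ_stalkSpecializes_apply U.presheaf huV h r
      have hrn : ¬ IsUnit ((U.presheaf.stalkSpecializes h).hom (U.presheaf.germ V u huV r)) := by
        rw [hr, ← hspec]
        exact fun hu' => hϖ.not_isUnit (isUnit_of_mul_isUnit_left hu')
      obtain ⟨c, hc⟩ := (hdiv _).1 hrn
      rw [hc, map_mul, ← hsp, ← hspec] at hr
      exact (ht.dvd_mul_right).1 (Dvd.intro _ hr)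
  · by_contra hord
    have hnu : ¬ IsUnit (U.presheaf.germ W v hvW s) := fun hu' => hord (by
      have := ordK_unit hu'.unit
      rwa [IsUnit.unit_spec] at this)
    have hv₀ : v ∈ O₀ := hle₁ (hle hvW)
    have hvZ : v ∈ Z := fun hv' => hnu (by
      rw [TopCat.Presheaf.germ_res_apply]
      exact (U.mem_basicOpen s₀ v hv₀).1 hv')
    have hvu : v ⤳ u := by
      refine hW v hvW v ⟨hW₁V (hle hvW), hvZ, fun y hy hyv => (eq_or_maximal hd hyv).resolve_right fun hmax => ?_⟩
        (specializes_refl v)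
      have hyg : y = gpt u := (eq_gpt hyv hmax).trans (hgood v (hle hvW))
      subst hyg
      refine hy ?_
      have hgO : gpt u ∈ O₀ := (gpt_specializes u).mem_open O₀.2 hO₀
      rw [SetLike.mem_coe, Scheme.mem_basicOpen _ _ _ hgO]
      letI := (isField_stalk (gpt_maximal u)).toField
      refine Ne.isUnit fun h0 => hπ.ne_zero (stalkSpecializes_injective (gpt_specializes u) ?_)
      rw [map_zero, TopCat.Presheaf.germ_stalkSpecializes_apply]
      exact h0
    refine hvz (hone v hvu hd ?_)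
    rw [← hgerm, TopCat.Presheaf.germ_stalkSpecializes_apply]
    exact hnu

end Groth.Agent.GalEt.Div
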