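import Mathlib.RingTheory.DiscreteValuationRing.TFAE
import Mathlib.RingTheory.UniqueFactorizationDomain.Basic
import Mathlib.RingTheory.KrullDimension.Zero
import Mathlib.RingTheory.KrullDimension.Field
import Mathlib.RingTheory.Localization.FractionRing
import Mathlib.RingTheory.Ideal.Height

/-!
# The integer valuation on the fraction field of a discrete valuation ring
-/

set_option autoImplicit false
set_option linter.all false

universe u

noncomputable section

namespace Groth.Agent.GalEt.Div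

variable {R : Type u} [CommRing R] [IsDomain R]

/-- A factorial noetherian local domain of dimension one is a discrete valuation ring. -/
theorem isDVR_of_ufm_of_dim_one [IsLocalRing R] [IsNoetherianRing R] [UniqueFactorizationMonoid R]
    (hdim : ringKrullDim R = 1) : IsDiscreteValuationRing R := by
  have hf : ¬ IsField R := fun h => by
    rw [ringKrullDim_eq_zero_of_isField h] at hdim
    exact zero_ne_one hdim
  haveI : Ring.KrullDimLE 1 R := Ring.krullDimLE_iff.2 (le_of_eq hdim)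
  have hu : ∃! P : Ideal R, P ≠ ⊥ ∧ P.IsPrime :=
    ⟨IsLocalRing.maximalIdeal R,
      ⟨fun h => hf (IsLocalRing.isField_iff_maximalIdeal_eq.2 h), inferInstance⟩,
      fun P hP => IsLocalRing.eq_maximalIdeal (hP.2.isMaximal_of_ne_bot hP.1)⟩
  have := (IsDiscreteValuationRing.TFAE R hf).out (a := IsDiscreteValuationRing R)
    (b := IsIntegrallyClosed R ∧ ∃! P : Ideal R, P ≠ ⊥ ∧ P.IsPrime) 0 3
  exact this.2 ⟨inferInstance, hu⟩

variable (R) in
/-- `x` has order `n` at the maximal ideal. -/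
def HasOrd (x : FractionRing R) (n : ℤ) : Prop :=
  ∀ ϖ : R, Irreducible ϖ → ∃ c : Rˣ, x = algebraMap R _ (c : R) * algebraMap R _ ϖ ^ n

theorem algebraMap_ne_zero' {a : R} (ha : a ≠ 0) : algebraMap R (FractionRing R) a ≠ 0 :=
  fun h => ha ((IsFractionRing.injective R (FractionRing R)) (h.trans (map_zero _).symm))

theorem algebraMap_zpow (e : Rˣ) (n : ℤ) :
    algebraMap R (FractionRing R) ((e ^ n : Rˣ) : R) = algebraMap R (FractionRing R) (e : R) ^ n := by
  have h := congrArg Units.val (map_zpow (Units.map (algebraMap R (FractionRing R)).toMonoidHom) e n)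
  rw [Units.val_zpow_eq_zpow_val] at h
  exact h

variable [IsDiscreteValuationRing R]

theorem exists_hasOrd {x : FractionRing R} (hx : x ≠ 0) : ∃ n, HasOrd R x n := by
  obtain ⟨π, hπ⟩ := IsDiscreteValuationRing.exists_irreducible R
  obtain ⟨a, b, hb, rfl⟩ := IsFractionRing.div_surjective R x
  have hb0 : b ≠ 0 := nonZeroDivisors.ne_zero hb
  have ha0 : a ≠ 0 := fun h => hx (by rw [h, map_zero, zero_div])
  obtain ⟨i, v, rfl⟩ := IsDiscreteValuationRing.eq_unit_mul_pow_irreducible ha0 hπ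
  obtain ⟨j, w, rfl⟩ := IsDiscreteValuationRing.eq_unit_mul_pow_irreducible hb0 hπ
  refine ⟨(i : ℤ) - j, fun ϖ hϖ => ?_⟩
  obtain ⟨e, rfl⟩ := IsDiscreteValuationRing.associated_of_irreducible R hπ hϖ
  have hπ0 := algebraMap_ne_zero' hπ.ne_zero
  refine ⟨v * w⁻¹ * e ^ ((j : ℤ) - i), ?_⟩
  have he : algebraMap R (FractionRing R) (e : R) ≠ 0 := algebraMap_ne_zero' e.ne_zero
  have hw : algebraMap R (FractionRing R) (w : R) ≠ 0 := algebraMap_ne_zero' w.ne_zero
  have hwi : algebraMap R (FractionRing R) ((w⁻¹ : Rˣ) : R) = (algebraMap R (FractionRing R) (w : R))⁻¹ :=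
    eq_inv_of_mul_eq_one_left (by rw [← map_mul, Units.inv_mul, map_one])
  simp only [Units.val_mul, map_mul, algebraMap_zpow, hwi, map_pow, mul_zpow]
  rw [zpow_sub₀ hπ0, zpow_sub₀ he, zpow_sub₀ he]
  simp only [zpow_natCast]
  field_simp

theorem HasOrd.unique {x : FractionRing R} {m n : ℤ} (hm : HasOrd R x m) (hn : HasOrd R x n) : m = n := by
  obtain ⟨π, hπ⟩ := IsDiscreteValuationRing.exists_irreducible R
  obtain ⟨c, hc⟩ := hm π hπ
  obtain ⟨d, hd⟩ := hn π hπ
  have hπ0 := algebraMap_ne_zero' hπ.ne_zero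
  wlog h : m ≤ n generalizing m n c d
  · exact (this hn hm d hd c hc (le_of_not_ge h)).symm
  obtain ⟨k, rfl⟩ : ∃ k : ℕ, n = m + k := ⟨(n - m).toNat, by omega⟩
  rw [hc, zpow_add₀ hπ0, zpow_natCast, mul_left_comm, mul_comm (algebraMap R _ (c : R))] at hd
  have h1 := mul_left_cancel₀ (zpow_ne_zero m hπ0) hd
  rw [← map_pow, ← map_mul] at h1
  have h2 := IsFractionRing.injective R (FractionRing R) h1
  cases k with
  | zero => simp
  | succ k =>
    exact absurd (isUnit_of_dvd_unit (Dvd.intro _ rfl)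
      (show IsUnit (π * ((d : R) * π ^ k)) by
        rw [mul_left_comm, ← pow_succ', ← h2]; exact c.isUnit)) hπ.not_isUnit

theorem HasOrd.mul {x y : FractionRing R} {m n : ℤ} (hm : HasOrd R x m) (hn : HasOrd R y n) :
    HasOrd R (x * y) (m + n) := fun ϖ hϖ => by
  obtain ⟨c, hc⟩ := hm ϖ hϖ
  obtain ⟨d, hd⟩ := hn ϖ hϖ
  refine ⟨c * d, ?_⟩
  rw [hc, hd, Units.val_mul, map_mul, zpow_add₀ (algebraMap_ne_zero' hϖ.ne_zero)]
  ring

theorem hasOrd_unit (c : Rˣ) : HasOrd R (algebraMap R _ (c : R)) 0 := fun ϖ _ =>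
  ⟨c, by rw [zpow_zero, mul_one]⟩

/-- A nonzero element of order zero is a unit. -/
theorem HasOrd.exists_unit {x : FractionRing R} (h : HasOrd R x 0) :
    ∃ c : Rˣ, x = algebraMap R _ (c : R) := by
  obtain ⟨π, hπ⟩ := IsDiscreteValuationRing.exists_irreducible R
  obtain ⟨c, hc⟩ := h π hπ
  exact ⟨c, by rw [hc, zpow_zero, mul_one]⟩

variable (R) in
open Classical in
/-- The order, as an integer. -/
def ordK (x : FractionRing R) : ℤ := if h : x ≠ 0 then (exists_hasOrd h).choose else 0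

theorem hasOrd_ordK {x : FractionRing R} (hx : x ≠ 0) : HasOrd R x (ordK R x) := by
  rw [ordK, dif_pos hx]
  exact (exists_hasOrd hx).choose_spec

theorem ordK_mul {x y : FractionRing R} (hx : x ≠ 0) (hy : y ≠ 0) : ordK R (x * y) = ordK R x + ordK R y :=
  (hasOrd_ordK (mul_ne_zero hx hy)).unique ((hasOrd_ordK hx).mul (hasOrd_ordK hy))

theorem ordK_unit (c : Rˣ) : ordK R (algebraMap R _ (c : R)) = 0 :=
  (hasOrd_ordK (algebraMap_ne_zero' c.ne_zero)).unique (hasOrd_unit c)

theorem ordK_irreducible {ϖ : R} (hϖ : Irreducible ϖ) : ordK R (algebraMap R _ ϖ) = 1 := by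
  refine (hasOrd_ordK (algebraMap_ne_zero' hϖ.ne_zero)).unique fun π hπ => ?_
  obtain ⟨e, rfl⟩ := IsDiscreteValuationRing.associated_of_irreducible R hπ hϖ
  exact ⟨e, by rw [zpow_one, map_mul, mul_comm]⟩

theorem isUnit_of_ordK_eq_zero {a : R} (ha : a ≠ 0) (h : ordK R (algebraMap R _ a) = 0) : IsUnit a := by
  obtain ⟨c, hc⟩ := (h ▸ hasOrd_ordK (algebraMap_ne_zero' ha) : HasOrd R (algebraMap R _ a) 0).exists_unit
  exact IsFractionRing.injective R (FractionRing R) hc ▸ c.isUnit

section Map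

variable {S : Type u} [CommRing S] [IsDomain S] [IsDiscreteValuationRing S]

/-- An unramified local map preserves orders. -/
theorem HasOrd.map {φ : R →+* S} [IsLocalHom φ] (hm : (IsLocalRing.maximalIdeal R).map φ = IsLocalRing.maximalIdeal S)
    (Φ : FractionRing R →+* FractionRing S)
    (hΦ : ∀ a : R, Φ (algebraMap R _ a) = algebraMap S _ (φ a)) {x : FractionRing R} {n : ℤ}
    (h : HasOrd R x n) : HasOrd S (Φ x) n := fun ϖ hϖ => by
  obtain ⟨π, hπ⟩ := IsDiscreteValuationRing.exists_irreducible R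
  obtain ⟨c, rfl⟩ := h π hπ
  have hφπ : Irreducible (φ π) := by
    rw [IsDiscreteValuationRing.irreducible_iff_uniformizer, ← hm, hπ.maximalIdeal_eq, Ideal.map_span,
      Set.image_singleton]
  obtain ⟨e, he⟩ := IsDiscreteValuationRing.associated_of_irreducible S hϖ hφπ
  have hei : algebraMap S (FractionRing S) (e : S) ^ n = algebraMap S (FractionRing S) ((e ^ n : Sˣ) : S) :=
    (algebraMap_zpow e n).symm
  refine ⟨Units.map φ.toMonoidHom c * e ^ n, ?_⟩
  rw [map_mul, map_zpow₀, hΦ, hΦ, ← he, map_mul, mul_zpow, hei, Units.val_mul, map_mul]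
  simp only [Units.coe_map, RingHom.toMonoidHom_eq_coe, MonoidHom.coe_coe]
  ring

theorem ordK_map {φ : R →+* S} [IsLocalHom φ] (hm : (IsLocalRing.maximalIdeal R).map φ = IsLocalRing.maximalIdeal S)
    (Φ : FractionRing R →+* FractionRing S)
    (hΦ : ∀ a : R, Φ (algebraMap R _ a) = algebraMap S _ (φ a)) {x : FractionRing R} (hx : x ≠ 0) :
    ordK S (Φ x) = ordK R x :=
  (hasOrd_ordK ((map_ne_zero Φ).2 hx)).unique ((hasOrd_ordK hx).map hm Φ hΦ)

end Map

end Groth.Agent.GalEt.Div
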