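import Groth.Agent.GalEt.DivVal
import Groth.Agent.Et18.EtaleLocalRing
import Mathlib.RingTheory.Ideal.KrullsHeightTheorem

/-!
# Generalisations of a point with integral local ring
-/

set_option autoImplicit false
set_option linter.all false
set_option backward.isDefEq.respectTransparency.types false
set_option backward.isDefEq.respectTransparency false
set_option backward.defeqAttrib.useBackward true
set_option synthInstance.maxHeartbeats 400000
set_option maxHeartbeats 1000000

universe u

open CategoryTheory CategoryTheory.Limits AlgebraicGeometry Opposite TopologicalSpace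

noncomputable section

namespace Groth.Agent.GalEt.Div

variable {U : Scheme.{u}}

/-- The maximal point above `u`. -/
def gpt (u : U) [IsDomain (O U u)] : U :=
  gfrac u (default : Spec (CommRingCat.of (FractionRing (O U u))))

theorem gpt_specializes (u : U) [IsDomain (O U u)] : gpt u ⤳ u := gfrac_specializes u _

theorem gpt_maximal (u : U) [IsDomain (O U u)] (y : U) (h : y ⤳ gpt u) : y = gpt u :=
  gfrac_maximal u _ y h

theorem gfrac_eq_gpt (u : U) [IsDomain (O U u)] (z : Spec (CommRingCat.of (FractionRing (O U u)))) :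
    gfrac u z = gpt u := by
  rw [gpt, Subsingleton.elim z default]

theorem eq_gpt {u y : U} [IsDomain (O U u)] (h : y ⤳ u) (hy : ∀ z, z ⤳ y → z = y) : y = gpt u :=
  eq_of_maximal h hy (gpt_specializes u) (gpt_maximal u)

theorem gpt_eq_gpt {u v : U} [IsDomain (O U u)] [IsDomain (O U v)] (h : gpt u ⤳ v) : gpt u = gpt v :=
  eq_gpt h (gpt_maximal u)

theorem isField_stalk {w : U} [IsDomain (O U w)] (hw : ∀ y, y ⤳ w → y = w) : IsField (O U w) := by
  have h : Subsingleton (Spec (U.presheaf.stalk w)) := ⟨fun p q => (U.fromSpecStalk w).isEmbedding.injective (by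
    have : ∀ p, U.fromSpecStalk w p = w := fun p => hw _ (by
      have h1 : U.fromSpecStalk w p ∈ Set.range (U.fromSpecStalk w) := Set.mem_range_self p
      rwa [Scheme.range_fromSpecStalk] at h1)
    rw [this, this])⟩
  exact PrimeSpectrum.subsingleton_iff_isField_of_isReduced.1 h

/-- The point above `u` of a prime ideal of the local ring. -/
theorem fromSpecStalk_specializes (u : U) (q : Spec (U.presheaf.stalk u)) : U.fromSpecStalk u q ⤳ u := by
  have h : U.fromSpecStalk u q ∈ Set.range (U.fromSpecStalk u) := Set.mem_range_self q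
  rwa [Scheme.range_fromSpecStalk] at h

theorem mem_prime_iff {u v : U} (h : v ⤳ u) (q : Spec (U.presheaf.stalk u)) (hq : U.fromSpecStalk u q = v)
    (a : O U u) : a ∈ q.asIdeal ↔ ¬ IsUnit ((U.presheaf.stalkSpecializes h).hom a) := by
  have h1 : U.fromSpecStalk u (Spec.map (U.presheaf.stalkSpecializes h) (IsLocalRing.closedPoint _)) = v := by
    rw [← Scheme.Hom.comp_apply, Scheme.SpecMap_stalkSpecializes_fromSpecStalk]
    exact Scheme.fromSpecStalk_closedPoint
  obtain rfl := (U.fromSpecStalk u).isEmbedding.injective (h1.trans hq.symm)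
  show (U.presheaf.stalkSpecializes h).hom a ∈ IsLocalRing.maximalIdeal _ ↔ _
  rw [IsLocalRing.mem_maximalIdeal, mem_nonunits_iff]

theorem specializes_of_le (u : U) {q q' : Spec (U.presheaf.stalk u)} (h : q.asIdeal ≤ q'.asIdeal) :
    U.fromSpecStalk u q ⤳ U.fromSpecStalk u q' :=
  ((PrimeSpectrum.le_iff_specializes q q').1 h).map (U.fromSpecStalk u).continuous

/-- A point of codimension one has only two generalisations. -/
theorem eq_or_maximal {v y : U} [IsDomain (O U v)] (hv : ringKrullDim (O U v) = 1) (h : y ⤳ v) :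
    y = v ∨ ∀ z, z ⤳ y → z = y := by
  have hy : y ∈ Set.range (U.fromSpecStalk v) := by rwa [Scheme.range_fromSpecStalk]
  obtain ⟨q, rfl⟩ := hy
  haveI : Ring.KrullDimLE 1 (O U v) := Ring.krullDimLE_iff.2 (le_of_eq hv)
  by_cases hq : q.asIdeal = ⊥
  · right
    intro z hz
    have hz' : z ∈ Set.range (U.fromSpecStalk v) := by
      rw [Scheme.range_fromSpecStalk]; exact hz.trans h
    obtain ⟨r, rfl⟩ := hz'
    have hle : r.asIdeal ≤ q.asIdeal :=
      (PrimeSpectrum.le_iff_specializes r q).2 ((U.fromSpecStalk v).isEmbedding.isInducing.specializes_iff.1 hz)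
    rw [PrimeSpectrum.ext (le_antisymm hle (hq ▸ bot_le)) ]
  · left
    have : q = IsLocalRing.closedPoint (O U v) :=
      PrimeSpectrum.ext (IsLocalRing.eq_maximalIdeal (q.2.isMaximal_of_ne_bot hq))
    subst this
    exact Scheme.fromSpecStalk_closedPoint

theorem not_maximal {v : U} [IsDomain (O U v)] (hv : ringKrullDim (O U v) = 1)
    (h : ∀ z, z ⤳ v → z = v) : False := by
  rw [ringKrullDim_eq_zero_of_isField (isField_stalk h)] at hv
  exact zero_ne_one hv

variable [IsLocallyNoetherian U] {u : U} [IsDomain (O U u)] [UniqueFactorizationMonoid (O U u)]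

/-- A prime element of the local ring gives a point of codimension one. -/
theorem exists_point_of_prime {π : O U u} (hπ : Prime π) [hdom : ∀ v : U, IsDomain (O U v)] :
    ∃ (v : U) (h : v ⤳ u), ringKrullDim (O U v) = 1 ∧
      ∀ a, ¬ IsUnit ((U.presheaf.stalkSpecializes h).hom a) ↔ π ∣ a := by
  have hp : (Ideal.span {π} : Ideal (O U u)).IsPrime := (Ideal.span_singleton_prime hπ.ne_zero).2 hπ
  let q : Spec (U.presheaf.stalk u) := ⟨Ideal.span {π}, hp⟩
  let v := U.fromSpecStalk u q
  have h : v ⤳ u := fromSpecStalk_specializes u q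
  have hmem : ∀ a, ¬ IsUnit ((U.presheaf.stalkSpecializes h).hom a) ↔ π ∣ a := fun a =>
    ((mem_prime_iff h q rfl a).symm.trans Ideal.mem_span_singleton)
  refine ⟨v, h, le_antisymm ?_ ?_, hmem⟩
  · let π' := (U.presheaf.stalkSpecializes h).hom π
    have hmin : IsLocalRing.maximalIdeal (O U v) ∈ (Ideal.span {π'}).minimalPrimes := by
      refine ⟨⟨inferInstance, ?_⟩, ?_⟩
      · rw [Ideal.span_singleton_le_iff_mem, IsLocalRing.mem_maximalIdeal, mem_nonunits_iff]
        exact (hmem π).2 dvd_rfl
      · rintro r ⟨hr, hle⟩ -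
        rw [Ideal.span_singleton_le_iff_mem] at hle
        let r' : Spec (U.presheaf.stalk v) := ⟨r, hr⟩
        have e : U.fromSpecStalk u (Spec.map (U.presheaf.stalkSpecializes h) r') = U.fromSpecStalk v r' := by
          rw [← Scheme.Hom.comp_apply, Scheme.SpecMap_stalkSpecializes_fromSpecStalk]
        have hge : q.asIdeal ≤ (Spec.map (U.presheaf.stalkSpecializes h) r').asIdeal := by
          show Ideal.span {π} ≤ r.comap (U.presheaf.stalkSpecializes h).hom
          rw [Ideal.span_singleton_le_iff_mem]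
          exact hle
        have h1 : v ⤳ U.fromSpecStalk v r' := e ▸ specializes_of_le u hge
        have h2 : U.fromSpecStalk v r' = v := (Specializes.antisymm (fromSpecStalk_specializes v r') h1).eq
        have h3 : r' = IsLocalRing.closedPoint (O U v) :=
          (U.fromSpecStalk v).isEmbedding.injective (h2.trans Scheme.fromSpecStalk_closedPoint.symm)
        exact le_of_eq (congrArg PrimeSpectrum.asIdeal h3).symm
    rw [← IsLocalRing.maximalIdeal_height_eq_ringKrullDim]
    exact_mod_cast Ideal.height_le_one_of_isPrincipal_of_mem_minimalPrimes _ _ hmin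
  · rw [← IsLocalRing.maximalIdeal_height_eq_ringKrullDim]
    have hne : IsLocalRing.maximalIdeal (O U v) ≠ ⊥ := fun hbot => by
      have h0 : (U.presheaf.stalkSpecializes h).hom π = 0 := by
        have := (hmem π).2 dvd_rfl
        rwa [← mem_nonunits_iff, ← IsLocalRing.mem_maximalIdeal, hbot, Ideal.mem_bot] at this
      exact hπ.ne_zero (stalkSpecializes_injective h (h0.trans (map_zero _).symm))
    have h1 := Ideal.height_add_one_le_of_lt_of_isPrime
      (bot_lt_iff_ne_bot.2 hne : (⊥ : Ideal (O U v)) < IsLocalRing.maximalIdeal (O U v))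
    exact_mod_cast le_trans le_add_self h1

/-- A point of codimension one above `u` comes from a prime element. -/
theorem exists_prime_of_point [hdom : ∀ v : U, IsDomain (O U v)] {z : U} (hz : ringKrullDim (O U z) = 1)
    (h : z ⤳ u) : ∃ π : O U u, Prime π ∧ (∀ a, ¬ IsUnit ((U.presheaf.stalkSpecializes h).hom a) ↔ π ∣ a) ∧
      ∀ (v : U) (hv : v ⤳ u), ringKrullDim (O U v) = 1 →
        ¬ IsUnit ((U.presheaf.stalkSpecializes hv).hom π) → v = z := by
  have hz' : z ∈ Set.range (U.fromSpecStalk u) := by rwa [Scheme.range_fromSpecStalk]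
  obtain ⟨q, hq⟩ := hz'
  have hne : q.asIdeal ≠ ⊥ := fun hb => not_maximal hz fun y hy => by
    have hy' : y ∈ Set.range (U.fromSpecStalk u) := by
      rw [Scheme.range_fromSpecStalk]; exact hy.trans h
    obtain ⟨r, rfl⟩ := hy'
    rw [← hq] at hy ⊢
    have hle : r.asIdeal ≤ q.asIdeal :=
      (PrimeSpectrum.le_iff_specializes r q).2 ((U.fromSpecStalk u).isEmbedding.isInducing.specializes_iff.1 hy)
    rw [PrimeSpectrum.ext (le_antisymm hle (hb ▸ bot_le))]
  obtain ⟨π, hmem, hπ⟩ := q.2.exists_mem_prime_of_ne_bot hne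
  let q' : Spec (U.presheaf.stalk u) := ⟨Ideal.span {π}, (Ideal.span_singleton_prime hπ.ne_zero).2 hπ⟩
  have key : ∀ (w : U) (hw : w ⤳ u), ringKrullDim (O U w) = 1 →
      ¬ IsUnit ((U.presheaf.stalkSpecializes hw).hom π) → U.fromSpecStalk u q' = w := by
    intro w hw hdw hwn
    have hw' : w ∈ Set.range (U.fromSpecStalk u) := by rwa [Scheme.range_fromSpecStalk]
    obtain ⟨r, hr⟩ := hw'
    have hle : q'.asIdeal ≤ r.asIdeal := by
      show Ideal.span {π} ≤ _
      rw [Ideal.span_singleton_le_iff_mem]
      exact (mem_prime_iff hw r hr π).2 hwn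
    refine (eq_or_maximal hdw (hr ▸ specializes_of_le u hle)).resolve_right fun hmax => ?_
    let b : Spec (U.presheaf.stalk u) := ⟨⊥, Ideal.isPrime_bot⟩
    have hb := hmax _ (specializes_of_le u (q := b) (q' := q') bot_le)
    have := congrArg PrimeSpectrum.asIdeal ((U.fromSpecStalk u).isEmbedding.injective hb)
    exact hπ.ne_zero (Ideal.span_singleton_eq_bot.1 this.symm)
  have hkz := key z h hz ((mem_prime_iff h q hq π).1 hmem)
  exact ⟨π, hπ, fun a => (mem_prime_iff h q' hkz a).symm.trans Ideal.mem_span_singleton,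
    fun v hv hdv hnu => (key v hv hdv hnu).symm.trans hkz⟩

end Groth.Agent.GalEt.Div
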