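import Groth.Agent.GalEt.DivLocal
import Groth.Agent.EtUnitLib.ConstVal
import Groth.Agent.Et18.Embedding.Stage

/-!
# The divisor maps on the étale site
-/

set_option autoImplicit false
set_option linter.all false
set_option backward.isDefEq.respectTransparency.types false
set_option backward.isDefEq.respectTransparency false
set_option backward.defeqAttrib.useBackward true
set_option synthInstance.maxHeartbeats 400000
set_option maxHeartbeats 1000000

universe u

open CategoryTheory CategoryTheory.Limits AlgebraicGeometry Opposite TopologicalSpace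

noncomputable section

namespace Groth.Agent.GalEt.Div

/-- All étale schemes over `X` have factorial local rings. -/
class LocFact (X : Scheme.{u}) : Prop where
  out : ∀ (U : X.Etale) (u : U.left), IsDomain (U.left.presheaf.stalk u) ∧
    UniqueFactorizationMonoid (U.left.presheaf.stalk u)

variable {X : Scheme.{u}}

/-- The structure map of an étale scheme. -/
abbrev str (U : X.Etale) : U.left ⟶ X := U.hom

variable [LocFact X]

instance instDomainEtale (U : X.Etale) (u : U.left) : IsDomain (O U.left u) := (LocFact.out U u).1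

instance instUfmEtale (U : X.Etale) (u : U.left) : UniqueFactorizationMonoid (O U.left u) :=
  (LocFact.out U u).2

instance instDomainBase (x : X) : IsDomain (O X x) := (LocFact.out (EtCoh.top X) x).1

variable [IsLocallyNoetherian X]

instance instNoethEtale (U : X.Etale) : IsLocallyNoetherian U.left := by
  haveI : Etale (str U) := U.prop
  exact LocallyOfFiniteType.isLocallyNoetherian (Y := X) (str U)

instance instEtale (U : X.Etale) : Etale (str U) := U.prop

instance instFlatEtale (U : X.Etale) : Flat (str U) := by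
  infer_instance

omit [IsLocallyNoetherian X] in
theorem discreteTopology_over_field {K : Type u} [Field K] {W : Scheme.{u}} (w : W ⟶ Spec (CommRingCat.of K))
    [LocallyQuasiFinite w] : DiscreteTopology W := by
  refine discreteTopology_iff_isOpen_singleton.2 fun z => ?_
  have h := w.isDiscrete_preimage_singleton (w z)
  have e : w ⁻¹' {w z} = Set.univ := Set.eq_univ_of_forall fun v => Subsingleton.elim _ _
  rw [e] at h
  have := isDiscrete_univ_iff.1 h
  exact isOpen_discrete _

/-- The maximal point above a point of the base. -/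
def eta (x : X) : maxPoints X := ⟨gpt x, gpt_maximal x⟩

omit [IsLocallyNoetherian X] in
theorem eta_eq {η : maxPoints X} {x : X} (h : η.1 ⤳ x) : eta x = η :=
  Subtype.ext (eq_gpt h η.2).symm

omit [IsLocallyNoetherian X] in
theorem gen_iff (η : maxPoints X) (U : X.Etale) (u : U.left) :
    Gen (str U) η.1 u ↔ η.1 ⤳ (str U) u :=
  ⟨specializes_of_gen (str U) η.1, fun h => gen_of_specializes (str U) η.1 η.2 u h⟩

omit [IsLocallyNoetherian X] in
theorem eta_of_gen {η : maxPoints X} {U : X.Etale} {u : U.left} (h : Gen (str U) η.1 u) : eta ((str U) u) = η :=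
  eta_eq ((gen_iff η U u).1 h)

theorem ordAt_map (η : maxPoints X) {U V : X.Etale} (g : V ⟶ U) (v : V.left)
    (τ : Γ(pullback (str U) (X.fromSpecStalk η.1), ⊤)) :
    ordAt (str V) η.1 v (((EtCoh.bc (X.fromSpecStalk η.1)).map g).left.appTop τ) =
      ordAt (str U) η.1 (g.left v) τ := by
  haveI : Etale g.left := Et18.etale_map_left g
  have hd : ringKrullDim (O V.left v) = ringKrullDim (O U.left (g.left v)) :=
    Et18.ringKrullDim_stalk_eq_of_etale g.left v
  have hfv : (str V) v = (str U) (g.left v) := by
    rw [← Scheme.Hom.comp_apply]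
    exact congrArg (fun k : V.left ⟶ X => k v) (MorphismProperty.Over.w g).symm
  have hgen : Gen (str V) η.1 v ↔ Gen (str U) η.1 (g.left v) := by
    rw [gen_iff, gen_iff, hfv]
  by_cases h : ringKrullDim (O V.left v) = 1 ∧ Gen (str V) η.1 v
  · haveI := isDVR_of_ufm_of_dim_one h.1
    haveI := isDVR_of_ufm_of_dim_one (hd.symm.trans h.1)
    haveI : IsLocalHom (g.left.stalkMap v).hom := inferInstance
    rw [ordAt_eq h.1 h.2, ordAt_eq (hd.symm.trans h.1) (hgen.1 h.2)]
    refine (congrArg (ordK (O V.left v)) (val_map (str V) g.left ((EtCoh.bc (X.fromSpecStalk η.1)).map g).left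
        (EtCoh.isPullback_bc_map (X.fromSpecStalk η.1) g).w v h.2 (hgen.1 h.2) τ)).trans ?_
    by_cases h0 : val (g.left v) (hgen.1 h.2) τ = 0
    · rw [h0, map_zero]
      simp [ordK]
    · exact ordK_map (Et18.stalkMap_flat_and_map_maximalIdeal g.left v).2 _
        (fun a => fracMap_algebraMap _ _ a) h0
  · rw [ordAt, dif_neg h, ordAt, dif_neg]
    rwa [← hd, ← hgen]

/-- The rational units at the maximal points. -/
abbrev RUnits (η : maxPoints X) : EtCoh.Ab X := maxPush X η

/-- The rational function underlying a section. -/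
abbrev funOf {η : maxPoints X} {U : X.Etale} (t : EtCoh.sect (RUnits η) U) :
    Γ(pullback (str U) (X.fromSpecStalk η.1), ⊤) :=
  ((EtLimit.unitOf t : Γ(pullback (str U) (X.fromSpecStalk η.1), ⊤)ˣ) : Γ(pullback (str U) (X.fromSpecStalk η.1), ⊤))

/-- The points of codimension one. -/
abbrev Ht1 (X : Scheme.{u}) : Type u := {x : X // ringKrullDim (X.presheaf.stalk x) = 1}

/-- The skyscraper of integers at `x`. -/
abbrev D (x : Ht1 X) : EtCoh.Ab X :=
  (EtCoh.push (X.fromSpecResidueField x.1)).obj (EtCoh.const (Spec (X.residueField x.1)) ℤ)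

/-- The projection of the fibre. -/
abbrev pr (x : Ht1 X) (U : X.Etale) :
    ((EtCoh.bc (X.fromSpecResidueField x.1)).obj U).left ⟶ U.left :=
  pullback.fst (str U) (X.fromSpecResidueField x.1)

omit [LocFact X] [IsLocallyNoetherian X] in
theorem hom_pr (x : Ht1 X) (U : X.Etale) (y : ((EtCoh.bc (X.fromSpecResidueField x.1)).obj U).left) :
    (str U) (pr x U y) = x.1 := by
  have h1 : (str U) (pr x U y) = X.fromSpecResidueField x.1 (pullback.snd (str U) (X.fromSpecResidueField x.1) y) :=
    congrArg (fun k : pullback (str U) (X.fromSpecResidueField x.1) ⟶ X => k y) pullback.condition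
  have h2 : X.fromSpecResidueField x.1 (pullback.snd (str U) (X.fromSpecResidueField x.1) y) ∈
      Set.range (X.fromSpecResidueField x.1) := Set.mem_range_self _
  rw [Scheme.range_fromSpecResidueField] at h2
  exact h1.trans h2

omit [LocFact X] [IsLocallyNoetherian X] in
theorem exists_pr_eq (x : Ht1 X) (U : X.Etale) {v : U.left} (hv : (str U) v = x.1) :
    ∃ y, pr x U y = v := by
  obtain ⟨y, hy, -⟩ := Scheme.Pullback.exists_preimage_pullback (f := (str U)) (g := X.fromSpecResidueField x.1) v
    (IsLocalRing.closedPoint (X.residueField x.1)) (hv.trans (Scheme.fromSpecResidueField_apply x.1 _).symm)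
  exact ⟨y, hy⟩

omit [LocFact X] [IsLocallyNoetherian X] in
theorem discreteTopology_fibre (x : Ht1 X) (U : X.Etale) :
    DiscreteTopology ((EtCoh.bc (X.fromSpecResidueField x.1)).obj U).left := by
  haveI : Etale ((EtCoh.bc (X.fromSpecResidueField x.1)).obj U).hom :=
    ((EtCoh.bc (X.fromSpecResidueField x.1)).obj U).prop
  haveI := AlgSpLib.locallyQuasiFinite_of_etale ((EtCoh.bc (X.fromSpecResidueField x.1)).obj U).hom
  exact discreteTopology_over_field (K := X.residueField x.1) ((EtCoh.bc (X.fromSpecResidueField x.1)).obj U).hom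

theorem exists_ordHom_app (η : maxPoints X) (x : Ht1 X) (U : X.Etale) (t : EtCoh.sect (RUnits η) U) :
    ∃ s : EtCoh.sect (D x) U, ∀ y, EtUnitLib.val (U := (EtCoh.bc (X.fromSpecResidueField x.1)).obj U) s y =
      ULift.up (ordAt (str U) η.1 (pr x U y) (funOf t)) := by
  haveI := discreteTopology_fibre x U
  exact EtUnitLib.exists_val_eq (U := (EtCoh.bc (X.fromSpecResidueField x.1)).obj U)
    (IsLocallyConstant.of_discrete _)

/-- The divisor on sections. -/
def ordApp (η : maxPoints X) (x : Ht1 X) (U : X.Etale) : EtCoh.sect (RUnits η) U →+ EtCoh.sect (D x) U :=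
  AddMonoidHom.mk' (fun t => (exists_ordHom_app η x U t).choose) fun t t' => EtUnitLib.ext_val fun y => by
    rw [(exists_ordHom_app η x U (t + t')).choose_spec, Et18.Embedding.val_add,
      (exists_ordHom_app η x U t).choose_spec, (exists_ordHom_app η x U t').choose_spec]
    exact congrArg ULift.up ((ordAt_mul _ (Units.isUnit _) (Units.isUnit _)))

theorem val_ordApp (η : maxPoints X) (x : Ht1 X) (U : X.Etale) (t : EtCoh.sect (RUnits η) U)
    (y : ((EtCoh.bc (X.fromSpecResidueField x.1)).obj U).left) :
    EtUnitLib.val (U := (EtCoh.bc (X.fromSpecResidueField x.1)).obj U) (ordApp η x U t) y =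
      ULift.up (ordAt (str U) η.1 (pr x U y) (funOf t)) :=
  (exists_ordHom_app η x U t).choose_spec y

/-- The divisor map at `x` of the rational units at `η`. -/
def ordHom (η : maxPoints X) (x : Ht1 X) : RUnits η ⟶ D x :=
  ObjectProperty.homMk
    { app := fun U => AddCommGrpCat.ofHom (ordApp η x U.unop)
      naturality := fun U V g => by
        ext t
        refine EtUnitLib.ext_val (U := (EtCoh.bc (X.fromSpecResidueField x.1)).obj V.unop) fun y => ?_
        refine (val_ordApp η x V.unop _ y).trans (Eq.trans ?_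
          (EtUnitLib.val_map ((EtCoh.bc (X.fromSpecResidueField x.1)).map g.unop) (ordApp η x U.unop t) y).symm)
        rw [val_ordApp]
        refine congrArg ULift.up ?_
        have hy : pr x U.unop (((EtCoh.bc (X.fromSpecResidueField x.1)).map g.unop).left y) =
            g.unop.left (pr x V.unop y) :=
          congrArg (fun k : ((EtCoh.bc (X.fromSpecResidueField x.1)).obj V.unop).left ⟶ U.unop.left => k y)
            (EtCoh.isPullback_bc_map (X.fromSpecResidueField x.1) g.unop).w
        refine (congrArg (ordAt (str V.unop) η.1 (pr x V.unop y)) (EtLimit.unitOf_map _ t)).trans ?_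
        rw [hy]
        exact ordAt_map η g.unop _ (funOf t) }

variable [Fintype (maxPoints X)]

variable (X) in
/-- The sum of the rational units. -/
abbrev P : EtCoh.Ab X := ⨁ maxPush X

variable (X) in
/-- The canonical map. -/
def phi : EtCoh.Gm X ⟶ P X := biproduct.lift fun η => EtLim.GmPush (X.fromSpecStalk η.1)

/-- The divisor map at `x`. -/
def toD (x : Ht1 X) : P X ⟶ D x := biproduct.π (maxPush X) (eta x.1) ≫ ordHom (eta x.1) x

/-- The component of a section. -/
abbrev comp (η : maxPoints X) {U : X.Etale} (t : EtCoh.sect (P X) U) : EtCoh.sect (RUnits η) U :=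
  (biproduct.π (maxPush X) η).hom.app (op U) t

/-- The order of a section at a point. -/
def ordP (U : X.Etale) (v : U.left) (t : EtCoh.sect (P X) U) : ℤ :=
  ordAt (str U) (eta ((str U) v)).1 v (funOf (comp (eta ((str U) v)) t))

theorem ordP_eq {U : X.Etale} {v : U.left} {η : maxPoints X} (hv : Gen (str U) η.1 v) (t : EtCoh.sect (P X) U) :
    ordP U v t = ordAt (str U) η.1 v (funOf (comp η t)) := by
  obtain rfl := eta_of_gen hv
  rfl

theorem ordP_add (U : X.Etale) (v : U.left) (t t' : EtCoh.sect (P X) U) :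
    ordP U v (t + t') = ordP U v t + ordP U v t' := by
  refine (congrArg (fun z : EtCoh.sect (RUnits (eta ((str U) v))) U =>
    ordAt (str U) (eta ((str U) v)).1 v (funOf z)) (map_add _ t t')).trans ?_
  exact ordAt_mul v (Units.isUnit _) (Units.isUnit _)

/-- The order as a homomorphism. -/
def ordPHom (U : X.Etale) (v : U.left) : EtCoh.sect (P X) U →+ ℤ :=
  AddMonoidHom.mk' (ordP U v) (ordP_add U v)

theorem ordP_map {U V : X.Etale} (g : V ⟶ U) (v : V.left) (t : EtCoh.sect (P X) U) :
    ordP V v ((P X).obj.map g.op t) = ordP U (g.left v) t := by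
  have hfv : (str V) v = (str U) (g.left v) := by
    rw [← Scheme.Hom.comp_apply]
    exact congrArg (fun k : V.left ⟶ X => k v) (MorphismProperty.Over.w g).symm
  rw [ordP, ordP, hfv]
  refine (congrArg (fun z : EtCoh.sect (RUnits (eta ((str U) (g.left v)))) V => ordAt (str V) _ v (funOf z))
    (NatTrans.naturality_apply (biproduct.π (maxPush X) (eta ((str U) (g.left v)))).hom g.op t)).trans ?_
  refine (congrArg (ordAt (str V) _ v) (EtLimit.unitOf_map _ _)).trans ?_
  exact ordAt_map _ g v _

theorem val_toD (x : Ht1 X) {U : X.Etale} (t : EtCoh.sect (P X) U)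
    (y : ((EtCoh.bc (X.fromSpecResidueField x.1)).obj U).left) :
    EtUnitLib.val (U := (EtCoh.bc (X.fromSpecResidueField x.1)).obj U) ((toD x).hom.app (op U) t) y =
      ULift.up (ordP U (pr x U y) t) := by
  refine (val_ordApp (eta x.1) x U _ y).trans ?_
  rw [ordP, hom_pr]
  rfl

theorem ordP_eq_zero_of_toD {x : Ht1 X} {U : X.Etale} {t : EtCoh.sect (P X) U}
    (h : (toD x).hom.app (op U) t = 0) (v : U.left) (hv : (str U) v = x.1) : ordP U v t = 0 := by
  obtain ⟨y, rfl⟩ := exists_pr_eq x U hv
  have h1 := val_toD x t y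
  rw [h] at h1
  exact (congrArg ULift.down ((Et18.Embedding.val_zero (U := (EtCoh.bc (X.fromSpecResidueField x.1)).obj U) y).symm.trans h1)).symm

theorem toD_eq_zero {x : Ht1 X} {U : X.Etale} {t : EtCoh.sect (P X) U}
    (h : ∀ v : U.left, (str U) v = x.1 → ordP U v t = 0) : (toD x).hom.app (op U) t = 0 :=
  EtUnitLib.ext_val (U := (EtCoh.bc (X.fromSpecResidueField x.1)).obj U) fun y => by
    rw [val_toD, h _ (hom_pr x U y)]
    exact (Et18.Embedding.val_zero (A := AddCommGrpCat.of (ULift.{u + 1} ℤ)) (U := (EtCoh.bc (X.fromSpecResidueField x.1)).obj U) y).symm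

theorem comp_phi (η : maxPoints X) {U : X.Etale} (σ : EtCoh.sect (EtCoh.Gm X) U) :
    comp η ((phi X).hom.app (op U) σ) = (EtLim.GmPush (X.fromSpecStalk η.1)).hom.app (op U) σ :=
  congrArg (fun k : EtCoh.Gm X ⟶ RUnits η => k.hom.app (op U) σ) (biproduct.lift_π _ η)

theorem funOf_GmPush (η : maxPoints X) {U : X.Etale} (σ : EtCoh.sect (EtCoh.Gm X) U) :
    funOf ((EtLim.GmPush (X.fromSpecStalk η.1)).hom.app (op U) σ) =
      (pullback.fst (str U) (X.fromSpecStalk η.1)).appTop ((EtLimit.unitOf σ : Γ(U.left, ⊤)ˣ) : Γ(U.left, ⊤)) :=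
  EtLimit.unitOf_map _ σ

theorem phi_toD (x : Ht1 X) : phi X ≫ toD x = 0 := by
  ext U σ
  refine toD_eq_zero (U := U.unop) fun v _ => ?_
  refine (congrArg (fun z : EtCoh.sect (RUnits (eta ((str U.unop) v))) U.unop =>
    ordAt (str U.unop) (eta ((str U.unop) v)).1 v (funOf z)) (comp_phi _ σ)).trans ?_
  refine (congrArg (ordAt (str U.unop) _ v) (funOf_GmPush _ σ)).trans ?_
  exact ordAt_fst_eq_zero v _ (Units.isUnit _)

omit [LocFact X] [IsLocallyNoetherian X] in
theorem sect_ext {U : X.Etale} {t t' : EtCoh.sect (P X) U} (h : ∀ η, comp η t = comp η t') : t = t' := by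
  classical
  let Ev : EtCoh.Ab X ⥤ AddCommGrpCat.{u + 1} := sheafToPresheaf X.smallEtaleTopology AddCommGrpCat.{u + 1} ⋙
    (evaluation X.Etaleᵒᵖ AddCommGrpCat.{u + 1}).obj (op U)
  haveI : Ev.Additive := { map_add := rfl }
  have htot : ∑ η, biproduct.π (maxPush X) η ≫ biproduct.ι (maxPush X) η = 𝟙 (P X) := by
    refine biproduct.hom_ext' _ _ fun j => ?_
    rw [Preadditive.comp_sum, Finset.sum_eq_single j (fun b _ h => by
      rw [biproduct.ι_π_ne_assoc _ (Ne.symm h), zero_comp]) (by simp), biproduct.ι_π_self_assoc, Category.comp_id]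
  have key : ∀ s : EtCoh.sect (P X) U, s = ∑ η, (biproduct.ι (maxPush X) η).hom.app (op U) (comp η s) := by
    intro s
    let ev : (Ev.obj (P X) ⟶ Ev.obj (P X)) →+ (Ev.obj (P X) : Type (u + 1)) :=
      AddMonoidHom.mk' (fun f => f s) (fun f g => rfl)
    have h1 : ev (Ev.map (∑ η, biproduct.π (maxPush X) η ≫ biproduct.ι (maxPush X) η)) = s := by
      rw [htot, Ev.map_id]
      rfl
    rw [Functor.map_sum, map_sum] at h1
    exact h1.symm.trans (Finset.sum_congr rfl fun η _ => rfl)
  rw [key t, key t']
  exact Finset.sum_congr rfl fun η _ => congrArg _ (h η)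

end Groth.Agent.GalEt.Div
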