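import Groth.Agent.GalEt.DivOrd
import Groth.Agent.GalEt.GmUnit
import Mathlib.AlgebraicGeometry.Morphisms.Flat
import Mathlib.RingTheory.Flat.FaithfullyFlat.Algebra

/-!
# Values of rational units in the fraction fields of local rings
-/

set_option autoImplicit false
set_option linter.all false
set_option backward.isDefEq.respectTransparency.types false
set_option backward.isDefEq.respectTransparency false
set_option backward.defeqAttrib.useBackward true
set_option synthInstance.maxHeartbeats 400000
set_option maxHeartbeats 1000000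

universe u

open CategoryTheory CategoryTheory.Limits AlgebraicGeometry Opposite TopologicalSpace

noncomputable section

namespace Groth.Agent.GalEt.Div

variable {X : Scheme.{u}}

/-- The stalk of the scheme. -/
abbrev O (U : Scheme.{u}) (u : U) : Type u := U.presheaf.stalk u

variable {U : Scheme.{u}}

/-- The generic point of the local ring at `u`. -/
def gfrac (u : U) [IsDomain (O U u)] : Spec (CommRingCat.of (FractionRing (O U u))) ⟶ U :=
  Spec.map (CommRingCat.ofHom (algebraMap (O U u) (FractionRing (O U u)))) ≫ U.fromSpecStalk u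

theorem gfrac_specializes (u : U) [IsDomain (O U u)] (z : Spec (CommRingCat.of (FractionRing (O U u)))) :
    gfrac u z ⤳ u := by
  have h : gfrac u z ∈ Set.range (U.fromSpecStalk u) := ⟨_, rfl⟩
  rwa [Scheme.range_fromSpecStalk] at h

theorem gfrac_maximal (u : U) [IsDomain (O U u)] (z : Spec (CommRingCat.of (FractionRing (O U u)))) (y : U)
    (hy : y ⤳ gfrac u z) : y = gfrac u z := by
  let α := Spec.map (CommRingCat.ofHom (algebraMap (O U u) (FractionRing (O U u))))
  have hy' : y ∈ Set.range (U.fromSpecStalk u) := by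
    rw [Scheme.range_fromSpecStalk]
    exact hy.trans (gfrac_specializes u z)
  obtain ⟨q, rfl⟩ := hy'
  have hq : q ⤳ α z := (U.fromSpecStalk u).isEmbedding.isInducing.specializes_iff.1 hy
  have hz : (α z).asIdeal = ⊥ := by
    show Ideal.comap (algebraMap (O U u) (FractionRing (O U u))) z.asIdeal = ⊥
    rw [(Ideal.eq_bot_or_top z.asIdeal).resolve_right z.2.ne_top,
      Ideal.comap_bot_of_injective _ (IsFractionRing.injective _ _)]
  have : q = α z := by
    have hle : q.asIdeal ≤ (α z).asIdeal := (PrimeSpectrum.le_iff_specializes q (α z)).2 hq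
    exact PrimeSpectrum.ext (le_antisymm hle (hz ▸ bot_le))
  subst this
  rfl

variable (f : U ⟶ X) [Flat f] (η : X)

local notation "jη" => X.fromSpecStalk η

/-- The generic point of the local ring at `u` lies over `η`. -/
def Gen (u : U) [IsDomain (O U u)] : Prop :=
  ∀ z : Spec (CommRingCat.of (FractionRing (O U u))), f (gfrac u z) = η

/-- A point with integral local ring lies below a single maximal point. -/
theorem eq_of_maximal {x y y' : X} [IsDomain (O X x)] (h : y ⤳ x) (hy : ∀ z, z ⤳ y → z = y)
    (h' : y' ⤳ x) (hy' : ∀ z, z ⤳ y' → z = y') : y = y' := by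
  have hy1 : y ∈ Set.range (X.fromSpecStalk x) := by rwa [Scheme.range_fromSpecStalk]
  have hy2 : y' ∈ Set.range (X.fromSpecStalk x) := by rwa [Scheme.range_fromSpecStalk]
  obtain ⟨q, rfl⟩ := hy1
  obtain ⟨q', rfl⟩ := hy2
  let b : Spec (X.presheaf.stalk x) := ⟨⊥, Ideal.isPrime_bot⟩
  have hb : ∀ r : Spec (X.presheaf.stalk x), X.fromSpecStalk x b ⤳ X.fromSpecStalk x r := fun r =>
    ((PrimeSpectrum.le_iff_specializes b r).1 (bot_le : (⊥ : Ideal _) ≤ r.asIdeal)).map
      (X.fromSpecStalk x).continuous
  rw [← hy _ (hb q), ← hy' _ (hb q')]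

theorem gen_of_specializes (hη : ∀ y : X, y ⤳ η → y = η) (u : U) [IsDomain (O U u)]
    [IsDomain (O X (f u))] (h : η ⤳ f u) : Gen f η u := by
  intro z
  refine eq_of_maximal ((gfrac_specializes u z).map f.continuous) (fun y hy => ?_) h hη
  obtain ⟨y', hy', hfy⟩ := Flat.generalizingMap f hy
  rw [← hfy, gfrac_maximal u z y' hy']

theorem gen_of_eq (hη : ∀ y : X, y ⤳ η → y = η) (u : U) [IsDomain (O U u)]
    (h : f u = η) : Gen f η u := fun z =>
  hη _ (h ▸ (gfrac_specializes u z).map f.continuous)

theorem specializes_of_gen {u : U} [IsDomain (O U u)] (hu : Gen f η u) : η ⤳ f u := by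
  have := (gfrac_specializes u (default : Spec (CommRingCat.of (FractionRing (O U u))))).map f.continuous
  rwa [hu] at this

variable {f η}

theorem exists_toEta (u : U) [IsDomain (O U u)] (hu : Gen f η u) :
    ∃ k : Spec (CommRingCat.of (FractionRing (O U u))) ⟶ Spec (X.presheaf.stalk η),
      gfrac u ≫ f = k ≫ jη := by
  let g := gfrac u ≫ f
  let e := Scheme.SpecToEquivOfField (FractionRing (O U u)) X
  have h0 : ∀ (p : Σ x : X, X.residueField x ⟶ CommRingCat.of (FractionRing (O U u))),
      p.1 = η →
        ∃ k : Spec (CommRingCat.of (FractionRing (O U u))) ⟶ Spec (X.presheaf.stalk η),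
          e.symm p = k ≫ jη := by
    rintro ⟨x, φ⟩ rfl
    refine ⟨Spec.map φ ≫ Spec.map (X.residue _), ?_⟩
    show Spec.map φ ≫ X.fromSpecResidueField _ = _
    rw [Scheme.fromSpecResidueField, Category.assoc]
  obtain ⟨k, hk⟩ := h0 (e g) (by
    show (e g).1 = _
    exact hu _)
  exact ⟨k, by rw [← hk]; exact (e.symm_apply_apply g).symm⟩

/-- The point of the generic fibre below `u`. -/
def kappa (u : U) [IsDomain (O U u)] (hu : Gen f η u) :
    Spec (CommRingCat.of (FractionRing (O U u))) ⟶ pullback f jη :=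
  pullback.lift (gfrac u) (exists_toEta u hu).choose (exists_toEta u hu).choose_spec

@[reassoc]
theorem kappa_fst (u : U) [IsDomain (O U u)] (hu : Gen f η u) : kappa u hu ≫ pullback.fst f jη = gfrac u :=
  pullback.lift_fst _ _ _

/-- The value at `u`. -/
def val (u : U) [IsDomain (O U u)] (hu : Gen f η u) : Γ(pullback f jη, ⊤) →+* FractionRing (O U u) :=
  (Scheme.ΓSpecIso (CommRingCat.of (FractionRing (O U u)))).hom.hom.comp (kappa u hu).appTop.hom

theorem gfrac_appTop (u : U) [IsDomain (O U u)] (s : Γ(U, ⊤)) :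
    (Scheme.ΓSpecIso (CommRingCat.of (FractionRing (O U u)))).hom ((gfrac u).appTop s) =
      algebraMap (O U u) _ (U.presheaf.germ ⊤ u trivial s) := by
  have h := Scheme.ΓSpecIso_naturality (CommRingCat.ofHom (algebraMap (O U u) (FractionRing (O U u))))
  have h2 : (gfrac u).appTop ≫ (Scheme.ΓSpecIso (CommRingCat.of (FractionRing (O U u)))).hom =
      U.presheaf.germ ⊤ u trivial ≫ CommRingCat.ofHom (algebraMap (O U u) (FractionRing (O U u))) := by
    rw [gfrac, Scheme.Hom.comp_appTop, Category.assoc, h, Scheme.fromSpecStalk_appTop]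
    simp only [homOfLE_refl, op_id, CategoryTheory.Functor.map_id, Category.assoc, Category.id_comp,
      Iso.inv_hom_id_assoc]
    exact congrArg (U.presheaf.germ ⊤ u trivial ≫ ·) (Iso.inv_hom_id_assoc (Scheme.ΓSpecIso (U.presheaf.stalk u)) _)
  exact ConcreteCategory.congr_hom h2 s

theorem val_fst (u : U) [IsDomain (O U u)] (hu : Gen f η u) (s : Γ(U, ⊤)) :
    val u hu ((pullback.fst f jη).appTop s) = algebraMap (O U u) _ (U.presheaf.germ ⊤ u trivial s) := by
  rw [← gfrac_appTop u s, ← kappa_fst u hu, Scheme.Hom.comp_appTop]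
  rfl

theorem stalkMap_injective {U' : Scheme.{u}} (g : U' ⟶ U) [Flat g] (u : U') :
    Function.Injective (g.stalkMap u).hom := by
  have hflat := Flat.stalkMap g u
  let := (g.stalkMap u).hom.toAlgebra
  have : IsLocalHom (algebraMap (U.presheaf.stalk (g u)) (U'.presheaf.stalk u)) :=
    inferInstanceAs (IsLocalHom (g.stalkMap u).hom)
  have : Module.Flat (U.presheaf.stalk (g u)) (U'.presheaf.stalk u) := hflat
  have := Module.FaithfullyFlat.of_flat_of_isLocalHom (A := U.presheaf.stalk (g u)) (B := U'.presheaf.stalk u)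
  exact FaithfulSMul.algebraMap_injective (U.presheaf.stalk (g u)) (U'.presheaf.stalk u)

/-- The map of fraction fields of an injective map. -/
def fracMap {R S : Type u} [CommRing R] [IsDomain R] [CommRing S] [IsDomain S] (φ : R →+* S)
    (hφ : Function.Injective φ) : FractionRing R →+* FractionRing S :=
  IsFractionRing.lift (g := (algebraMap S (FractionRing S)).comp φ)
    ((IsFractionRing.injective S (FractionRing S)).comp hφ)

theorem fracMap_algebraMap {R S : Type u} [CommRing R] [IsDomain R] [CommRing S] [IsDomain S] (φ : R →+* S)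
    (hφ : Function.Injective φ) (a : R) :
    fracMap φ hφ (algebraMap R _ a) = algebraMap S _ (φ a) :=
  IsFractionRing.lift_algebraMap _ a

/-- Naturality of values. -/
theorem val_map {U' : Scheme.{u}} (f' : U' ⟶ X) [Flat f'] (g : U' ⟶ U) [Flat g]
    (G : pullback f' jη ⟶ pullback f jη) (hG : G ≫ pullback.fst f jη = pullback.fst f' jη ≫ g)
    (u : U') [IsDomain (O U' u)] [IsDomain (O U (g u))] (hu : Gen f' η u) (hgu : Gen f η (g u)) (τ : Γ(pullback f jη, ⊤)) :
    val u hu (G.appTop τ) = fracMap (g.stalkMap u).hom (stalkMap_injective g u) (val (g u) hgu τ) := by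
  let Φ := fracMap (g.stalkMap u).hom (stalkMap_injective g u)
  haveI : Mono (pullback.fst f jη) := inferInstance
  have hk : kappa u hu ≫ G = Spec.map (CommRingCat.ofHom Φ) ≫ kappa (g u) hgu := by
    rw [← cancel_mono (pullback.fst f jη), Category.assoc, hG, Category.assoc, kappa_fst, kappa_fst_assoc,
      gfrac, gfrac, Category.assoc, ← Scheme.SpecMap_stalkMap_fromSpecStalk, ← Category.assoc,
      ← Category.assoc, ← Spec.map_comp, ← Spec.map_comp]
    congr 2
    ext a
    exact (fracMap_algebraMap _ (stalkMap_injective g u) a).symm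
  show (Scheme.ΓSpecIso (CommRingCat.of (FractionRing (O U' u)))).hom ((kappa u hu).appTop (G.appTop τ)) = _
  change (Scheme.ΓSpecIso (CommRingCat.of (FractionRing (O U' u)))).hom ((G.appTop ≫ (kappa u hu).appTop) τ) = _
  rw [← Scheme.Hom.comp_appTop, hk, Scheme.Hom.comp_appTop]
  exact ConcreteCategory.congr_hom (Scheme.ΓSpecIso_naturality (CommRingCat.ofHom Φ))
    ((kappa (g u) hgu).appTop τ)

theorem stalkSpecializes_injective {u w : U} (h : w ⤳ u) [IsDomain (O U u)] :
    Function.Injective (U.presheaf.stalkSpecializes h).hom := by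
  obtain ⟨_, ⟨(V : U.Opens), hV, rfl⟩, huV, -⟩ :=
    U.isBasis_affineOpens.exists_subset_of_mem_open (Set.mem_univ u) isOpen_univ
  have hwV : w ∈ V := h.mem_open V.2 huV
  let _ := TopCat.Presheaf.algebra_section_stalk U.presheaf ⟨u, huV⟩
  let _ := TopCat.Presheaf.algebra_section_stalk U.presheaf ⟨w, hwV⟩
  have := hV.isLocalization_stalk ⟨u, huV⟩
  have := hV.isLocalization_stalk ⟨w, hwV⟩
  refine (injective_iff_map_eq_zero _).2 fun a ha => ?_
  obtain ⟨b, s, rfl⟩ := IsLocalization.exists_mk'_eq (hV.primeIdealOf ⟨u, huV⟩).asIdeal.primeCompl a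
  have h1 : algebraMap Γ(U, V) (U.presheaf.stalk w) b = 0 := by
    have h2 := congrArg (U.presheaf.stalkSpecializes h).hom
      (IsLocalization.mk'_spec (U.presheaf.stalk u) b s)
    rw [map_mul, ha, zero_mul] at h2
    exact ((TopCat.Presheaf.germ_stalkSpecializes_apply U.presheaf huV h b).symm.trans h2.symm)
  obtain ⟨t, ht⟩ := (IsLocalization.map_eq_zero_iff (hV.primeIdealOf ⟨w, hwV⟩).asIdeal.primeCompl
    (U.presheaf.stalk w) b).1 h1
  have htu : algebraMap Γ(U, V) (U.presheaf.stalk u) t ≠ 0 := by
    intro hz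
    have hu : IsUnit (algebraMap Γ(U, V) (U.presheaf.stalk w) t) := IsLocalization.map_units _ t
    have hz2 := congrArg (U.presheaf.stalkSpecializes h).hom hz
    rw [map_zero] at hz2
    exact hu.ne_zero ((TopCat.Presheaf.germ_stalkSpecializes_apply U.presheaf huV h (t : Γ(U, V))).symm.trans hz2)
  have hb : algebraMap Γ(U, V) (U.presheaf.stalk u) b = 0 := by
    have h3 := congrArg (algebraMap Γ(U, V) (U.presheaf.stalk u)) ht
    rw [map_mul, map_zero] at h3
    exact (mul_eq_zero.1 h3).resolve_left htu
  rw [IsLocalization.mk'_eq_zero_iff]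
  exact (IsLocalization.map_eq_zero_iff _ (U.presheaf.stalk u) b).1 hb

/-- Values at a generisation. -/
theorem val_specializes {u w : U} (h : w ⤳ u) [IsDomain (O U u)] [IsDomain (O U w)]
    (hu : Gen f η u) (hw : Gen f η w) (τ : Γ(pullback f jη, ⊤)) :
    val w hw τ = fracMap (U.presheaf.stalkSpecializes h).hom (stalkSpecializes_injective h) (val u hu τ) := by
  let Φ := fracMap (U.presheaf.stalkSpecializes h).hom (stalkSpecializes_injective h)
  have hk : kappa w hw = Spec.map (CommRingCat.ofHom Φ) ≫ kappa u hu := by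
    rw [← cancel_mono (pullback.fst f jη), Category.assoc, kappa_fst, kappa_fst, gfrac, gfrac,
      ← Scheme.SpecMap_stalkSpecializes_fromSpecStalk h, ← Category.assoc, ← Category.assoc, ← Spec.map_comp,
      ← Spec.map_comp]
    congr 2
    ext a
    exact (fracMap_algebraMap _ (stalkSpecializes_injective h) a).symm
  show (Scheme.ΓSpecIso (CommRingCat.of (FractionRing (O U w)))).hom ((kappa w hw).appTop τ) = _
  rw [hk, Scheme.Hom.comp_appTop]
  exact ConcreteCategory.congr_hom (Scheme.ΓSpecIso_naturality (CommRingCat.ofHom Φ))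
    ((kappa u hu).appTop τ)

/-- The value at a point of the generic fibre is the germ. -/
theorem algebraMap_val_point (w : ↑(pullback f jη)) [IsDomain (O U (pullback.fst f jη w))]
    (hw : Gen f η (pullback.fst f jη w))
    (τ : Γ(pullback f jη, ⊤)) (a : O U (pullback.fst f jη w))
    (ha : ((pullback.fst f jη).stalkMap w).hom a = (pullback f jη).presheaf.germ ⊤ w trivial τ) :
    val (pullback.fst f jη w) hw τ = algebraMap (O U (pullback.fst f jη w)) _ a := by
  let p := pullback.fst f jη
  let u := p w
  haveI := Props12.isIso_stalkMap_fst f η w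
  have hk : kappa u hw = Spec.map (CommRingCat.ofHom (algebraMap (O U u) (FractionRing (O U u)))) ≫
      Spec.map (inv (p.stalkMap w)) ≫ (pullback f jη).fromSpecStalk w := by
    rw [← cancel_mono p, Category.assoc, Category.assoc, kappa_fst, gfrac,
      ← Scheme.SpecMap_stalkMap_fromSpecStalk, ← Spec.map_comp_assoc (p.stalkMap w) (inv (p.stalkMap w)),
      IsIso.hom_inv_id, Spec.map_id, Category.id_comp]
  show (Scheme.ΓSpecIso (CommRingCat.of (FractionRing (O U u)))).hom ((kappa u hw).appTop τ) = _
  rw [hk]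
  have h2 : (Spec.map (CommRingCat.ofHom (algebraMap (O U u) (FractionRing (O U u)))) ≫
      Spec.map (inv (p.stalkMap w)) ≫ (pullback f jη).fromSpecStalk w).appTop ≫
        (Scheme.ΓSpecIso (CommRingCat.of (FractionRing (O U u)))).hom =
      (pullback f jη).presheaf.germ ⊤ w trivial ≫ inv (p.stalkMap w) ≫
        CommRingCat.ofHom (algebraMap (O U u) (FractionRing (O U u))) := by
    rw [Scheme.Hom.comp_appTop, Category.assoc, Scheme.ΓSpecIso_naturality, Scheme.Hom.comp_appTop,
      Category.assoc, Scheme.ΓSpecIso_naturality_assoc, Scheme.fromSpecStalk_appTop]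
    simp
  refine (ConcreteCategory.congr_hom h2 τ).trans ?_
  show algebraMap (O U u) _ ((inv (p.stalkMap w)).hom _) = _
  refine (congrArg (fun z => algebraMap (O U u) (FractionRing (O U u)) ((inv (p.stalkMap w)).hom z)) ha.symm).trans ?_
  exact congrArg _ (ConcreteCategory.congr_hom (IsIso.hom_inv_id (p.stalkMap w)) a)

/-- Sections of the generic fibre are detected by their values. -/
theorem ext_val (hη : ∀ y : X, y ⤳ η → y = η) [∀ u : U, IsDomain (O U u)] {τ τ' : Γ(pullback f jη, ⊤)}
    (h : ∀ (u : U) (hu : Gen f η u), f u = η → val u hu τ = val u hu τ') : τ = τ' := by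
  let P := pullback f jη
  refine TopCat.Presheaf.section_ext P.sheaf ⊤ τ τ' fun w _ => ?_
  haveI := Props12.isIso_stalkMap_fst f η w
  obtain ⟨a, ha⟩ := (ConcreteCategory.bijective_of_isIso ((pullback.fst f jη).stalkMap w)).2
    (P.presheaf.germ ⊤ w trivial τ)
  obtain ⟨a', ha'⟩ := (ConcreteCategory.bijective_of_isIso ((pullback.fst f jη).stalkMap w)).2
    (P.presheaf.germ ⊤ w trivial τ')
  have hfw : f (pullback.fst f jη w) = η := by
    have h1 : f (pullback.fst f jη w) = jη (pullback.snd f jη w) :=
      congrArg (fun k : pullback f jη ⟶ X => k w) pullback.condition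
    have h2 : jη (pullback.snd f jη w) ∈ Set.range jη := Set.mem_range_self _
    rw [Scheme.range_fromSpecStalk] at h2
    rw [h1]
    exact hη _ h2
  have hg := gen_of_eq f η hη _ hfw
  have h3 := h (pullback.fst f jη w) hg hfw
  rw [algebraMap_val_point w hg τ a ha, algebraMap_val_point w hg τ' a' ha'] at h3
  refine ha.symm.trans (Eq.trans ?_ ha')
  rw [IsFractionRing.injective _ _ h3]

end Groth.Agent.GalEt.Div
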