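import Groth.Agent.GalEt.H90
import Groth.Agent.Et18.FiniteEtaleTrace
import Mathlib.GroupTheory.SpecificGroups.Cyclic

/-!
# Galois action on sections of injective sheaves over a field

The sections over `Spec L` of an injective sheaf on `Spec K` are a direct summand of an induced
module for `Gal(L/K)`.
-/

set_option autoImplicit false
set_option linter.all false
set_option backward.isDefEq.respectTransparency.types false
set_option backward.isDefEq.respectTransparency false
set_option backward.defeqAttrib.useBackward true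
set_option synthInstance.maxHeartbeats 400000
set_option maxHeartbeats 1000000

universe u

open CategoryTheory CategoryTheory.Limits CategoryTheory.Abelian AlgebraicGeometry Opposite
open Groth.Agent.Et18 Groth.Agent.Et18.CdField

noncomputable section

namespace Groth.Agent.GalEt

variable (K : Type u) [Field K] (L : Type u) [Field L] [Algebra K L] [Module.Finite K L] [IsGalois K L]

theorem act_apply {G : EtCoh.Ab (Spec (CommRingCat.of K))} (σ τ : L ≃ₐ[K] L)
    (t : EtCoh.sect G (UObj K L)) :
    G.obj.map (act K L (σ * τ)).op t =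
      G.obj.map (act K L σ).op (G.obj.map (act K L τ).op t) := by
  rw [act_mul, op_comp, Functor.map_comp_apply]

/-- The Galois action on sections as a module structure. -/
abbrev galModule (G : EtCoh.Ab (Spec (CommRingCat.of K))) :
    DistribMulAction (L ≃ₐ[K] L) (EtCoh.sect G (UObj K L)) where
  smul σ t := G.obj.map (act K L σ).op t
  one_smul t := by
    show G.obj.map (act K L 1).op t = t
    rw [act_one, op_id, G.obj.map_id]; rfl
  mul_smul σ τ t := act_apply K L σ τ t
  smul_zero σ := map_zero _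
  smul_add σ s t := map_add _ s t

/-- Two morphisms to the spectrum of a Galois extension differ by the Galois group. -/
theorem exists_act_eq {N : Type u} [Field N] [Algebra K N] [Module.Finite K N]
    [Algebra.IsSeparable K N] (h₁ h₂ : UObj K N ⟶ UObj K L) :
    ∃ σ : L ≃ₐ[K] L, h₂ = h₁ ≫ act K L σ := by
  obtain ⟨φ₁, hφ₁⟩ := Spec.map_surjective
    (h₁.left : Spec (CommRingCat.of N) ⟶ Spec (CommRingCat.of L))
  obtain ⟨φ₂, hφ₂⟩ := Spec.map_surjective
    (h₂.left : Spec (CommRingCat.of N) ⟶ Spec (CommRingCat.of L))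
  have e₁ : φ₁.hom.comp (algebraMap K L) = algebraMap K N := by
    have h : Spec.map φ₁ ≫ mor K L = mor K N := hφ₁.symm ▸ MorphismProperty.Over.w h₁
    rw [mor, mor, ← Spec.map_comp] at h
    exact congrArg CommRingCat.Hom.hom (Spec.map_injective h)
  have e₂ : φ₂.hom.comp (algebraMap K L) = algebraMap K N := by
    have h : Spec.map φ₂ ≫ mor K L = mor K N := hφ₂.symm ▸ MorphismProperty.Over.w h₂
    rw [mor, mor, ← Spec.map_comp] at h
    exact congrArg CommRingCat.Hom.hom (Spec.map_injective h)
  let ψ₂ : L →ₐ[K] N := ⟨φ₂.hom, fun c => RingHom.congr_fun e₂ c⟩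
  letI : Algebra L N := φ₁.hom.toAlgebra
  haveI : IsScalarTower K L N := IsScalarTower.of_algebraMap_eq' e₁.symm
  let σ₀ := ψ₂.restrictNormal L
  refine ⟨AlgEquiv.ofBijective σ₀ (Algebra.IsAlgebraic.algHom_bijective σ₀), ?_⟩
  apply MorphismProperty.Over.Hom.ext
  show h₂.left = h₁.left ≫ Spec.map (CommRingCat.ofHom
    (AlgEquiv.ofBijective σ₀ (Algebra.IsAlgebraic.algHom_bijective σ₀)).toAlgHom.toRingHom)
  rw [← hφ₁, ← hφ₂, ← Spec.map_comp]
  refine congrArg Spec.map (CommRingCat.hom_ext (RingHom.ext fun m => ?_))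
  exact (AlgHom.restrictNormal_commutes ψ₂ L m).symm

/-- The action is free on field valued points. -/
theorem act_injective {N : Type u} [Field N] [Algebra K N] [Module.Finite K N]
    [Algebra.IsSeparable K N] (h : UObj K N ⟶ UObj K L) (σ τ : L ≃ₐ[K] L)
    (e : h ≫ act K L σ = h ≫ act K L τ) : σ = τ := by
  obtain ⟨φ, hφ⟩ := Spec.map_surjective
    (h.left : Spec (CommRingCat.of N) ⟶ Spec (CommRingCat.of L))
  have e' : h.left ≫ Spec.map (CommRingCat.ofHom σ.toAlgHom.toRingHom) =
      h.left ≫ Spec.map (CommRingCat.ofHom τ.toAlgHom.toRingHom) := congrArg (fun f => f.left) e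
  rw [← hφ, ← Spec.map_comp, ← Spec.map_comp] at e'
  refine AlgEquiv.ext fun m => φ.hom.injective ?_
  exact RingHom.congr_fun (congrArg CommRingCat.Hom.hom (Spec.map_injective e')) m

section Ind

variable [Etale (mor K L)]

/-- The square `U ×_K U`. -/
abbrev wObj : (Spec (CommRingCat.of K)).Etale :=
  (EtShriek.compEtale (mor K L)).obj ((EtCoh.bc (mor K L)).obj (UObj K L))

/-- The translate of the square. -/
abbrev wAct (σ : L ≃ₐ[K] L) : wObj K L ⟶ wObj K L :=
  (EtShriek.compEtale (mor K L)).map ((EtCoh.bc (mor K L)).map (act K L σ))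

/-- The graph of a Galois element. -/
def graph (τ : L ≃ₐ[K] L) : UObj K L ⟶ wObj K L :=
  MorphismProperty.Over.homMk
    (pullback.lift (act K L τ).left (𝟙 (Spec (CommRingCat.of L)))
      ((MorphismProperty.Over.w (act K L τ)).trans (Category.id_comp _).symm))
    (by
      show pullback.lift _ _ _ ≫ pullback.snd _ _ ≫ mor K L = mor K L
      rw [pullback.lift_snd_assoc, Category.id_comp]) trivial

theorem graph_wAct (τ σ : L ≃ₐ[K] L) : graph K L τ ≫ wAct K L σ = graph K L (τ * σ) := by
  apply MorphismProperty.Over.Hom.ext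
  show pullback.lift _ _ _ ≫ ((EtCoh.bc (mor K L)).map (act K L σ)).left = pullback.lift _ _ _
  apply pullback.hom_ext
  · erw [Category.assoc, pullback.lift_fst, pullback.lift_fst_assoc, pullback.lift_fst]
    rw [act_mul]
    rfl
  · erw [Category.assoc, pullback.lift_snd, pullback.lift_snd, pullback.lift_snd]

/-- The projection of the square. -/
abbrev wFst : wObj K L ⟶ UObj K L := (compBcAdj (mor K L)).counit.app (UObj K L)

theorem graph_wFst (τ : L ≃ₐ[K] L) : graph K L τ ≫ wFst K L = act K L τ := by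
  apply MorphismProperty.Over.Hom.ext
  show pullback.lift _ _ _ ≫ pullback.fst _ _ = _
  exact pullback.lift_fst _ _ _

theorem graph_cover (z : (wObj K L).left) : ∃ τ, z ∈ Set.range (graph K L τ).left := by
  obtain ⟨N, _, _, _, _, g, hg⟩ := exists_field_hit K (wObj K L) z
  let b : wObj K L ⟶ UObj K L := MorphismProperty.Over.homMk (pullback.snd _ _) rfl trivial
  obtain ⟨τ, hτ⟩ := exists_act_eq K L (g ≫ b) (g ≫ wFst K L)
  have e : g = (g ≫ b) ≫ graph K L τ := by
    apply MorphismProperty.Over.Hom.ext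
    show g.left = (g ≫ b).left ≫ pullback.lift _ _ _
    apply pullback.hom_ext
    · rw [Category.assoc, pullback.lift_fst]
      exact congrArg (fun f => f.left) hτ
    · rw [Category.assoc, pullback.lift_snd]
      erw [Category.comp_id]
      rfl
  obtain ⟨t, ht⟩ := hg
  refine ⟨τ, (g ≫ b).left t, ?_⟩
  rw [← ht]
  exact (congrArg (fun f => f.left t) e).symm

variable {G : EtCoh.Ab (Spec (CommRingCat.of K))}

theorem graph_ext (Y Y' : EtCoh.sect G (wObj K L))
    (h : ∀ τ, G.obj.map (graph K L τ).op Y = G.obj.map (graph K L τ).op Y') : Y = Y' := by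
  refine H0Lift.sect_ext_of_cover G (wObj K L) (fun _ : ULift.{u + 1} (L ≃ₐ[K] L) => UObj K L)
    (fun τ => graph K L τ.down) (fun z => ?_) Y Y' fun τ => h τ.down
  obtain ⟨τ, hτ⟩ := graph_cover K L z
  exact ⟨⟨τ⟩, hτ⟩

theorem exists_glue_graph (c : (L ≃ₐ[K] L) → EtCoh.sect G (UObj K L)) :
    ∃ Y, ∀ τ, G.obj.map (graph K L τ).op Y = c τ := by
  refine Exists.imp (fun Y hY τ => hY (ULift.up τ)) (H0Lift.exists_glue_cover (F := G) (wObj K L)
    (fun _ : ULift.{u + 1} (L ≃ₐ[K] L) => UObj K L) (fun τ => graph K L τ.down) (fun z => ?_)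
    (fun τ => c τ.down) fun k l R gk gl e r hr => ?_)
  · obtain ⟨τ, hτ⟩ := graph_cover K L z
    exact ⟨⟨τ⟩, hτ⟩
  · obtain ⟨N, _, _, _, _, g, -⟩ := exists_field_hit K R r
    let b : wObj K L ⟶ UObj K L := MorphismProperty.Over.homMk (pullback.snd _ _) rfl trivial
    have hb : ∀ τ, graph K L τ ≫ b = 𝟙 _ := fun τ => by
      apply MorphismProperty.Over.Hom.ext
      show pullback.lift _ _ _ ≫ pullback.snd _ _ = _
      exact pullback.lift_snd _ _ _
    have h1 : gk = gl := by
      have := congrArg (fun f => f ≫ b) e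
      simp only [Category.assoc, hb, Category.comp_id] at this
      exact this
    subst h1
    have h2 : k.down = l.down := by
      refine act_injective K L (g ≫ gk) _ _ ?_
      have := congrArg (fun f => g ≫ f ≫ wFst K L) e
      simp only [Category.assoc, graph_wFst] at this
      simpa only [Category.assoc] using this
    have h3 : G.obj.map gk.op (c k.down) - G.obj.map gk.op (c l.down) = 0 := by rw [h2, sub_self]
    rw [h3] at hr
    exact hr R (𝟙 R) ⟨r, rfl⟩ (map_zero _)

end Ind

/-- The retraction data of an injective sheaf: a natural map from sections on the square. -/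
theorem exists_retraction [Etale (mor K L)] (I : EtCoh.Ab (Spec (CommRingCat.of K))) [Injective I] :
    ∃ r : EtCoh.sect I (wObj K L) →+ EtCoh.sect I (UObj K L),
      (∀ σ Y, r (I.obj.map (wAct K L σ).op Y) = I.obj.map (act K L σ).op (r Y)) ∧
      ∀ t, r (I.obj.map (wFst K L).op t) = t := by
  let π := mor K L
  haveI : EtShriek.JCont π := jCont π
  let u := (restrPushAdj π).unit.app I
  haveI : Mono u := by
    let u₀ := (EtCoh.pullPushAdj π).unit.app I
    haveI : Mono u₀ := by
      haveI : Mono ((EtCoh.pull π).map (kernel.ι u₀)) := inferInstance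
      have h1 : (EtCoh.pull π).map (kernel.ι u₀) = 0 := by
        refine ((EtCoh.pullPushAdj π).homEquiv _ _).injective ?_
        rw [Adjunction.homEquiv_unit, Adjunction.homEquiv_unit, Functor.map_zero, comp_zero]
        exact ((EtCoh.pullPushAdj π).unit.naturality (kernel.ι u₀)).symm.trans (kernel.condition u₀)
      have h2 : IsZero ((EtCoh.pull π).obj (kernel u₀)) := IsZero.of_mono_eq_zero _ h1
      let η := sepPoint (Spec (CommRingCat.of L)) default
      have h3 : IsZero ((EtCoh.stalk (η ≫ π)).obj (kernel u₀)) :=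
        ((EtCoh.stalk η).map_isZero h2).of_iso ((stalkPullIso π η).app _).symm
      exact Preadditive.mono_of_kernel_zero ((isZero_of_stalk K (kernel u₀) (η ≫ π)
        (AddCommGrpCat.subsingleton_of_isZero h3)).eq_of_src _ _)
    show Mono ((restrPushAdj π).unit.app I)
    rw [← unit_pullRestr π I]
    infer_instance
  let ρ := Injective.factorThru (𝟙 I) u
  refine ⟨(ρ.hom.app (op (UObj K L))).hom, fun σ Y => ?_, fun t => ?_⟩
  · exact NatTrans.naturality_apply ρ.hom (act K L σ).op Y
  · have h : u ≫ ρ = 𝟙 I := Injective.comp_factorThru _ _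
    have h' := congrArg (fun φ => φ.hom.app (op (UObj K L)) t) h
    exact h'

variable (I : EtCoh.Ab (Spec (CommRingCat.of K))) [Injective I]

/-- `H¹(Gal(L/K), I(L)) = 0` for an injective sheaf `I`. -/
theorem exists_coboundary_injective (a : (L ≃ₐ[K] L) → EtCoh.sect I (UObj K L))
    (ha : ∀ σ τ, a (σ * τ) = I.obj.map (act K L σ).op (a τ) + a σ) :
    ∃ b, ∀ σ, I.obj.map (act K L σ).op b - b = a σ := by
  haveI := etale_mor K L
  obtain ⟨r, hr, hru⟩ := exists_retraction K L I
  obtain ⟨Y, hY⟩ := exists_glue_graph K L a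
  refine ⟨r Y, fun σ => ?_⟩
  rw [← hr, ← map_sub, ← hru (a σ)]
  refine congrArg r (graph_ext K L _ _ fun τ => ?_)
  rw [map_sub, ← Functor.map_comp_apply, ← Functor.map_comp_apply, ← op_comp, ← op_comp,
    graph_wAct, graph_wFst, hY, hY, ha]
  abel

/-- Invariant sections of an injective sheaf are norms. -/
theorem exists_norm_injective (t : EtCoh.sect I (UObj K L))
    (ht : ∀ σ, I.obj.map (act K L σ).op t = t) :
    ∃ y, ∑ σ, I.obj.map (act K L σ).op y = t := by
  classical
  haveI := etale_mor K L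
  obtain ⟨r, hr, hru⟩ := exists_retraction K L I
  obtain ⟨Y, hY⟩ := exists_glue_graph K L (fun τ => if τ = 1 then t else 0)
  refine ⟨r Y, ?_⟩
  simp only [← hr]
  rw [← map_sum, ← hru t]
  refine congrArg r (graph_ext K L _ _ fun τ => ?_)
  rw [map_sum, ← Functor.map_comp_apply, ← op_comp, graph_wFst, ht]
  rw [Finset.sum_eq_single τ⁻¹]
  · rw [← Functor.map_comp_apply, ← op_comp, graph_wAct, hY, mul_inv_cancel, if_pos rfl]
  · intro σ _ hσ
    rw [← Functor.map_comp_apply, ← op_comp, graph_wAct, hY, if_neg]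
    exact fun h => hσ (eq_inv_of_mul_eq_one_right h)
  · exact fun h => absurd (Finset.mem_univ _) h

/-- A crossed homomorphism of a cyclic group with a prescribed value at a generator. -/
theorem exists_crossed {G A : Type*} [Group G] [Fintype G] [AddCommGroup A] [DistribMulAction G A]
    (σ : G) (hσ : ∀ τ, τ ∈ Subgroup.zpowers σ) (y : A) (hy : ∑ τ : G, τ • y = 0) :
    ∃ a : G → A, (∀ τ υ, a (τ * υ) = τ • a υ + a τ) ∧ a σ = y := by
  classical
  let n := orderOf σ
  let F : ℕ → A := fun i => ∑ j ∈ Finset.range i, σ ^ j • y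
  have hadd : ∀ i j, F (i + j) = σ ^ i • F j + F i := fun i j => by
    show ∑ _ ∈ _, _ = _
    rw [Finset.sum_range_add, Finset.smul_sum, add_comm]
    congr 1
    exact Finset.sum_congr rfl fun k _ => by rw [pow_add, mul_smul]
  have hpow : ∀ τ : G, ∃ i, σ ^ i = τ := fun τ =>
    (Submonoid.mem_powers_iff _ _).1 (mem_powers_iff_mem_zpowers.2 (hσ τ))
  have hn0 : F n = 0 := by
    rw [← hy]
    refine Finset.sum_bij (fun j _ => σ ^ j) (fun j _ => Finset.mem_univ _) (fun i hi j hj h => ?_)
      (fun τ _ => ?_) (fun j _ => rfl)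
    · exact pow_injOn_Iio_orderOf (Finset.mem_range.1 hi) (Finset.mem_range.1 hj) h
    · obtain ⟨i, hi⟩ := hpow τ
      exact ⟨i % n, Finset.mem_range.2 (Nat.mod_lt _ (orderOf_pos σ)),
        (pow_mod_orderOf σ i).trans hi⟩
  have hmul : ∀ q, F (n * q) = 0 := fun q => by
    induction q with
    | zero => rw [Nat.mul_zero]; exact Finset.sum_range_zero _
    | succ q ih => rw [Nat.mul_succ, hadd, hn0, ih, smul_zero, add_zero]
  have hmod : ∀ i, F i = F (i % n) := fun i => by
    conv_lhs => rw [← Nat.mod_add_div i n]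
    rw [hadd, hmul, smul_zero, zero_add]
  choose i hi using hpow
  have hF : ∀ k τ, σ ^ k = τ → F (i τ) = F k := fun k τ hk => by
    rw [hmod (i τ), hmod k]
    exact congrArg F (pow_eq_pow_iff_modEq.1 ((hi τ).trans hk.symm))
  refine ⟨fun τ => F (i τ), fun τ υ => ?_, ?_⟩
  · show F (i (τ * υ)) = τ • F (i υ) + F (i τ)
    rw [hF (i τ + i υ) (τ * υ) (by rw [pow_add, hi, hi]), hadd, hi]
  · show F (i σ) = y
    rw [hF 1 σ (pow_one σ)]
    show ∑ j ∈ Finset.range 1, σ ^ j • y = y
    rw [Finset.sum_range_one, pow_zero, one_smul]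

/-- A crossed homomorphism of a cyclic group is determined by its value at a generator. -/
theorem crossed_ext {G A : Type*} [Group G] [Finite G] [AddCommGroup A] [DistribMulAction G A]
    (σ : G) (hσ : ∀ τ, τ ∈ Subgroup.zpowers σ) (a a' : G → A)
    (ha : ∀ τ υ, a (τ * υ) = τ • a υ + a τ) (ha' : ∀ τ υ, a' (τ * υ) = τ • a' υ + a' τ)
    (h : a σ = a' σ) : a = a' := by
  have hz : ∀ b : G → A, (∀ τ υ, b (τ * υ) = τ • b υ + b τ) → b 1 = 0 := fun b hb => by
    have h1 := hb 1 1
    rw [mul_one, one_smul] at h1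
    exact left_eq_add.1 h1
  have key : ∀ i : ℕ, a (σ ^ i) = a' (σ ^ i) := fun i => by
    induction i with
    | zero => rw [pow_zero, hz a ha, hz a' ha']
    | succ i ih => rw [pow_succ, ha, ha', ih, h]
  funext τ
  obtain ⟨i, rfl⟩ := (Submonoid.mem_powers_iff _ _).1 (mem_powers_iff_mem_zpowers.2 (hσ τ))
  exact key i

end Groth.Agent.GalEt
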