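import Groth.Agent.Et18.StalkPush
import Groth.Agent.Props12.Stalks
import Groth.Agent.GalEt.TorsionGm
import Mathlib.RingTheory.Localization.Away.Basic
import Mathlib.RingTheory.Etale.StandardEtale
import Mathlib.RingTheory.Unramified.LocalStructure
import Mathlib.Algebra.Polynomial.Lifts

/-!
# Étale neighbourhoods lift along the inclusion of a maximal point
-/

set_option autoImplicit false
set_option linter.all false
set_option backward.isDefEq.respectTransparency.types false
set_option backward.isDefEq.respectTransparency false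
set_option synthInstance.maxHeartbeats 400000
set_option maxHeartbeats 1000000

universe u

open CategoryTheory CategoryTheory.Limits AlgebraicGeometry Polynomial TopologicalSpace

noncomputable section

namespace Groth.Agent.GalEt.MaxLift

variable {A B C : Type u} [CommRing A] [CommRing B] [CommRing C]

/-- A standard étale algebra lifts along any map through which the equations lift. -/
theorem exists_isPushout_of_lifts (π : A →+* B) [Algebra B C] (P₀ : StandardEtalePresentation B C)
    (f g : A[X]) (hf : f.map π = P₀.f) (hfm : f.Monic) (hg : g.map π = P₀.g) :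
    ∃ (A' : Type u) (_ : CommRing A') (_ : Algebra A A') (_ : Algebra.Etale A A') (l : A' →+* C),
      IsPushout (CommRingCat.ofHom (algebraMap A A')) (CommRingCat.ofHom π)
        (CommRingCat.ofHom l) (CommRingCat.ofHom (algebraMap B C)) := by
  let P : StandardEtalePair A := ⟨f, hfm, g * derivative f, ⟨g, 0, 1, by ring⟩⟩
  let : Algebra A C := ((algebraMap B C).comp π).toAlgebra
  have hev : ∀ p : A[X], aeval P₀.x p = aeval P₀.x (p.map π) := fun p => by
    rw [aeval_def, aeval_def, eval₂_map]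
    rfl
  have hx : P.HasMap P₀.x := by
    refine ⟨by rw [hev, hf]; exact P₀.hasMap.1, ?_⟩
    change IsUnit (aeval P₀.x (g * derivative f))
    rw [map_mul, hev, hg, hev, ← derivative_map, hf]
    exact P₀.hasMap.2.mul P₀.hasMap.isUnit_derivative_f
  refine ⟨P.Ring, inferInstance, inferInstance, inferInstance, (P.lift P₀.x hx).toRingHom,
    ⟨⟨?_⟩, ⟨?_⟩⟩⟩
  · ext a
    exact (P.lift P₀.x hx).commutes a
  · have key : ∀ s : PushoutCocone (CommRingCat.ofHom (algebraMap A P.Ring)) (CommRingCat.ofHom π),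
        ∃ ψ : C →+* s.pt, ψ.comp (P.lift P₀.x hx).toRingHom = s.inl.hom ∧
          ψ.comp (algebraMap B C) = s.inr.hom ∧ ∀ ψ' : C →+* s.pt,
          ψ'.comp (P.lift P₀.x hx).toRingHom = s.inl.hom →
          ψ'.comp (algebraMap B C) = s.inr.hom → ψ' = ψ := by
      intro s
      let : Algebra B s.pt := s.inr.hom.toAlgebra
      let : Algebra A s.pt := (s.inl.hom.comp (algebraMap A P.Ring)).toAlgebra
      have hcond : s.inl.hom.comp (algebraMap A P.Ring) = s.inr.hom.comp π :=
        congrArg CommRingCat.Hom.hom s.condition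
      let α : P.Ring →ₐ[A] s.pt := { s.inl.hom with commutes' := fun a => rfl }
      have hev' : ∀ p : A[X], aeval (α P.X) p = aeval (α P.X) (p.map π) := fun p => by
        rw [aeval_def, aeval_def, eval₂_map]
        exact congrArg (fun r => eval₂ r (α P.X) p) hcond
      have hy : P₀.HasMap (α P.X) := by
        have h := P.hasMap_X.map α
        refine ⟨?_, ?_⟩
        · rw [← hf, ← hev']; exact h.1
        · rw [← hg, ← hev']
          have h2 : IsUnit (aeval (α P.X) (g * derivative f)) := h.2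
          rw [map_mul] at h2
          exact isUnit_of_mul_isUnit_left h2
      let ψ : C →ₐ[B] s.pt := (P₀.P.lift (α P.X) hy).comp P₀.equivRing.toAlgHom
      have hψx : ψ P₀.x = α P.X := by simp [ψ]
      refine ⟨ψ.toRingHom, ?_, ψ.comp_algebraMap, ?_⟩
      · let β : P.Ring →ₐ[A] s.pt :=
          { ψ.toRingHom.comp (P.lift P₀.x hx).toRingHom with
            commutes' := fun a => by
              change ψ ((P.lift P₀.x hx) (algebraMap A P.Ring a)) = _
              rw [AlgHom.commutes]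
              change ψ (algebraMap B C (π a)) = _
              rw [AlgHom.commutes]
              exact (RingHom.congr_fun hcond a).symm }
        have : β = α := P.hom_ext (by simp [β, hψx])
        exact congrArg (fun φ : P.Ring →ₐ[A] s.pt => φ.toRingHom) this
      · intro ψ' h₁ h₂
        let χ : C →ₐ[B] s.pt := { ψ' with commutes' := RingHom.congr_fun h₂ }
        have : χ = ψ := P₀.hom_ext (by
          rw [hψx]
          have := RingHom.congr_fun h₁ P.X
          simpa [χ, α] using this)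
        exact congrArg (fun φ : C →ₐ[B] s.pt => φ.toRingHom) this
    choose ψ h₁ h₂ h₃ using key
    exact PushoutCocone.IsColimit.mk _ (fun s => CommRingCat.ofHom (ψ s))
      (fun s => CommRingCat.hom_ext (h₁ s)) (fun s => CommRingCat.hom_ext (h₂ s))
      (fun s m e₁ e₂ => CommRingCat.hom_ext (h₃ s m.hom (congrArg CommRingCat.Hom.hom e₁)
        (congrArg CommRingCat.Hom.hom e₂)))


/-- A standard étale algebra over a localisation lifts to an étale algebra over a single localisation. -/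
theorem exists_away_isPushout (M : Submonoid A) [Algebra A B] [IsLocalization M B] [Algebra B C]
    [Algebra.IsStandardEtale B C] :
    ∃ (s : A) (π : Localization.Away s →+* B) (A' : Type u) (_ : CommRing A')
      (_ : Algebra (Localization.Away s) A') (_ : Algebra.Etale (Localization.Away s) A') (l : A' →+* C),
      π.comp (algebraMap A (Localization.Away s)) = algebraMap A B ∧
      IsPushout (CommRingCat.ofHom (algebraMap (Localization.Away s) A')) (CommRingCat.ofHom π)
        (CommRingCat.ofHom l) (CommRingCat.ofHom (algebraMap B C)) := by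
  classical
  let P₀ : StandardEtalePresentation B C :=
    Algebra.IsStandardEtale.nonempty_standardEtalePresentation.some
  obtain ⟨⟨s, hs⟩, hs'⟩ := IsLocalization.exist_integer_multiples_of_finset M (P₀.f.coeffs ∪ P₀.g.coeffs)
  let π : Localization.Away s →+* B := IsLocalization.Away.lift s (IsLocalization.map_units B ⟨s, hs⟩)
  have hπ : ∀ a, π (algebraMap A _ a) = algebraMap A B a := fun a => IsLocalization.Away.lift_eq s _ a
  have key : ∀ b ∈ P₀.f.coeffs ∪ P₀.g.coeffs, b ∈ Set.range π := by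
    intro b hb
    obtain ⟨a, ha⟩ := hs' b hb
    refine ⟨algebraMap A _ a * IsLocalization.Away.invSelf s, ?_⟩
    have h1 : π (IsLocalization.Away.invSelf s) * algebraMap A B s = 1 := by
      rw [← hπ, ← map_mul, mul_comm, IsLocalization.Away.mul_invSelf, map_one]
    rw [map_mul, hπ, ha, Algebra.smul_def]
    calc algebraMap A B s * b * π (IsLocalization.Away.invSelf s)
        = (π (IsLocalization.Away.invSelf s) * algebraMap A B s) * b := by ring
      _ = b := by rw [h1, one_mul]
  have hl : ∀ q : B[X], q.coeffs ⊆ P₀.f.coeffs ∪ P₀.g.coeffs → q ∈ lifts π := fun q hq =>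
    (lifts_iff_coeff_lifts q).2 fun n => by
      by_cases h0 : q.coeff n = 0
      · exact ⟨0, (map_zero π).trans h0.symm⟩
      · exact key _ (hq (coeff_mem_coeffs h0))
  obtain ⟨f, hf, hfm⟩ : ∃ f : (Localization.Away s)[X], f.map π = P₀.f ∧ f.Monic := by
    rcases subsingleton_or_nontrivial B with hB | hB
    · exact ⟨1, Subsingleton.elim _ _, monic_one⟩
    · obtain ⟨f, hf, -, hfm⟩ := lifts_and_degree_eq_and_monic
        (hl _ Finset.subset_union_left) P₀.monic_f
      exact ⟨f, hf, hfm⟩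
  obtain ⟨g, hg⟩ := (hl P₀.g Finset.subset_union_right : P₀.g ∈ lifts π)
  obtain ⟨A', _, _, _, l, hl'⟩ := exists_isPushout_of_lifts π P₀ f g hf hfm hg
  exact ⟨s, π, A', inferInstance, inferInstance, inferInstance, l, RingHom.ext hπ, hl'⟩

/-- Étale schemes lift along a morphism which is locally a localisation. -/
theorem liftsEtale_of_localization {Z V : Scheme.{u}} (i : Z ⟶ V)
    (h : ∀ z : Z, ∃ U : V.Opens, IsAffineOpen U ∧ i z ∈ U ∧ IsAffineOpen (i ⁻¹ᵁ U) ∧
      ∃ M : Submonoid Γ(V, U), letI := (i.app U).hom.toAlgebra; IsLocalization M Γ(Z, i ⁻¹ᵁ U)) :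
    Et18.LiftsEtale i := by
  intro W q _ w
  obtain ⟨U, hU, hwU, hUz, M, hM⟩ := h (q w)
  obtain ⟨W₀, hW₀, hwW₀, hle⟩ := exists_isAffineOpen_mem_and_subset (X := W) (x := w)
    (U := q ⁻¹ᵁ (i ⁻¹ᵁ U)) hwU
  replace hle : W₀ ≤ q ⁻¹ᵁ (i ⁻¹ᵁ U) := hle
  algebraize [(q.appLE (i ⁻¹ᵁ U) W₀ hle).hom]
  have : Algebra.Etale Γ(Z, i ⁻¹ᵁ U) Γ(W, W₀) := by
    have h := HasRingHomProperty.appLE @Etale q inferInstance ⟨_, hUz⟩ ⟨_, hW₀⟩ hle
    exact h
  obtain ⟨g, hg, hse⟩ := Algebra.IsEtaleAt.exists_isStandardEtale (R := Γ(Z, i ⁻¹ᵁ U))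
    (hW₀.primeIdealOf ⟨w, hwW₀⟩).asIdeal
  letI := (i.app U).hom.toAlgebra
  haveI := hM
  obtain ⟨s, π, A', _, _, _, l, hπ, hl⟩ := exists_away_isPushout M (B := Γ(Z, i ⁻¹ᵁ U))
    (C := Localization.Away g)
  let σ : Spec (CommRingCat.of (Localization.Away s)) ⟶ Spec Γ(V, U) :=
    Spec.map (CommRingCat.ofHom (algebraMap Γ(V, U) (Localization.Away s)))
  haveI : IsOpenImmersion σ := IsOpenImmersion.of_isLocalization s
  let a : Spec (CommRingCat.of A') ⟶ Spec (CommRingCat.of (Localization.Away s)) :=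
    Spec.map (CommRingCat.ofHom (algebraMap (Localization.Away s) A'))
  have : Etale a := by
    rw [HasRingHomProperty.Spec_iff (P := @Etale)]
    exact RingHom.etale_algebraMap.mpr inferInstance
  let loc : Spec (CommRingCat.of (Localization.Away g)) ⟶ Spec Γ(W, W₀) :=
    Spec.map (CommRingCat.ofHom (algebraMap Γ(W, W₀) (Localization.Away g)))
  have : IsOpenImmersion loc := IsOpenImmersion.of_isLocalization g
  refine ⟨_, loc ≫ hW₀.fromSpec, inferInstance, ?_, _, a ≫ σ ≫ hU.fromSpec, inferInstance,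
    Spec.map (CommRingCat.ofHom l), ?_⟩
  · obtain ⟨x, hx⟩ : hW₀.primeIdealOf ⟨w, hwW₀⟩ ∈ Set.range loc := by
      have := PrimeSpectrum.localization_away_comap_range (Localization.Away g) g
      rw [show Set.range loc = Set.range (PrimeSpectrum.comap (algebraMap Γ(W, W₀)
        (Localization.Away g))) from rfl, this]
      exact hg
    exact ⟨x, (congrArg hW₀.fromSpec hx).trans (hW₀.fromSpec_primeIdealOf ⟨w, hwW₀⟩)⟩
  · have e : loc ≫ hW₀.fromSpec ≫ q = Spec.map (CommRingCat.ofHom
        (algebraMap Γ(Z, i ⁻¹ᵁ U) (Localization.Away g))) ≫ hUz.fromSpec := by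
      rw [← IsAffineOpen.SpecMap_appLE_fromSpec q hUz hW₀ hle, ← Category.assoc, ← Spec.map_comp]
      rfl
    rw [Category.assoc, e]
    refine (isPullback_SpecMap_of_isPushout _ _ _ _ hl).paste_vert ?_
    have e2 : Spec.map (CommRingCat.ofHom π) ≫ σ ≫ hU.fromSpec = hUz.fromSpec ≫ i := by
      rw [← Category.assoc, ← Spec.map_comp, ← IsAffineOpen.SpecMap_appLE_fromSpec i hU hUz le_rfl,
        ← CommRingCat.ofHom_comp, hπ]
      congr 2
      refine CommRingCat.hom_ext (RingHom.ext fun r => ?_)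
      show (i.app U).hom r = _
      rw [Scheme.Hom.app_eq_appLE]
    refine IsOpenImmersion.isPullback _ _ _ _ e2.symm ?_
    ext z
    simp only [Scheme.Hom.coe_opensRange, Set.mem_preimage, Opens.map_coe]
    constructor
    · rintro ⟨x, hx⟩
      show z ∈ Set.range hUz.fromSpec
      rw [hUz.range_fromSpec]
      show i z ∈ U
      rw [← hx, Scheme.Hom.comp_apply]
      exact hU.range_fromSpec.subset ⟨_, rfl⟩
    · intro hz
      obtain ⟨x, rfl⟩ : z ∈ Set.range hUz.fromSpec := hz
      exact ⟨Spec.map (CommRingCat.ofHom π) x, congrArg (fun k : _ ⟶ V => k x) e2⟩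

/-- The inclusion of a maximal point lifts étale schemes. -/
theorem bcLiftsEtale_fromSpecStalk {Y : Scheme.{u}} [IsLocallyNoetherian Y] (η : Y)
    (hη : ∀ y : Y, y ⤳ η → y = η) : Et18.BCLiftsEtale (Y.fromSpecStalk η) := fun T => by
  have hpre : IsPreimmersion (Y.fromSpecStalk η) := IsAffineOpen.fromSpecStalk_isPreimmersion _ _ _
  haveI : Etale T.hom := T.prop
  let V := T.left
  let i : ((EtCoh.bc (Y.fromSpecStalk η)).obj T).left ⟶ V := pullback.fst T.hom (Y.fromSpecStalk η)
  haveI : IsLocallyNoetherian V := LocallyOfFiniteType.isLocallyNoetherian (Y := Y) T.hom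
  haveI : LocallyQuasiFinite T.hom := AlgSpLib.locallyQuasiFinite_of_etale T.hom
  haveI : IsPreimmersion i :=
    MorphismProperty.pullback_fst (P := @IsPreimmersion) T.hom (Y.fromSpecStalk η) hpre
  have hover : ∀ z, T.hom (i z) = η := fun z => by
    have h1 : T.hom (i z) = Y.fromSpecStalk η (pullback.snd T.hom (Y.fromSpecStalk η) z) :=
      congrArg (fun k : pullback T.hom (Y.fromSpecStalk η) ⟶ Y => k z) pullback.condition
    have h2 : Y.fromSpecStalk η (pullback.snd T.hom (Y.fromSpecStalk η) z) ∈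
        Set.range (Y.fromSpecStalk η) := Set.mem_range_self _
    rw [Scheme.range_fromSpecStalk] at h2
    exact h1.trans (hη _ h2)
  have hmax : ∀ z (y : V), y ⤳ i z → y = i z := fun z y hy => by
    have hy' : T.hom y = η := hη _ (hover z ▸ hy.map T.hom.continuous)
    haveI := isDiscrete_iff_discreteTopology.mp (T.hom.isDiscrete_preimage_singleton η)
    have h : (⟨y, hy'⟩ : T.hom ⁻¹' {η}) ⤳ ⟨i z, hover z⟩ :=
      (Topology.IsInducing.subtypeVal.specializes_iff).1 hy
    exact congrArg Subtype.val h.eq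
  show Et18.LiftsEtale i
  refine liftsEtale_of_localization i fun z => ?_
  obtain ⟨_, ⟨(V₀ : V.Opens), hV₀, rfl⟩, hzV₀, -⟩ :=
    V.isBasis_affineOpens.exists_subset_of_mem_open (Set.mem_univ (i z)) isOpen_univ
  haveI : IsAffine (V₀ : Scheme.{u}) := hV₀
  haveI : IsNoetherian (V₀ : Scheme.{u}) := ⟨⟩
  let S : Set V := V₀.ι '' ((maxPoints (V₀ : Scheme.{u})) \ {⟨i z, hzV₀⟩})
  have hS : S.Finite := (finite_maxPoints.subset Set.diff_subset).image _
  have hcl : IsClosed (⋃ s ∈ S, closure ({s} : Set V)) := hS.isClosed_biUnion fun _ _ => isClosed_closure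
  let O : V.Opens := V₀ ⊓ ⟨_, hcl.isOpen_compl⟩
  have hzO : i z ∈ O := ⟨hzV₀, fun hm => by
    obtain ⟨_, ⟨⟨s, hsV⟩, hs, rfl⟩, hsz⟩ := Set.mem_iUnion₂.1 hm
    exact hs.2 (Subtype.ext (hmax z s (specializes_iff_mem_closure.2 hsz)))⟩
  obtain ⟨U, hU, hzU, hUO⟩ := exists_isAffineOpen_mem_and_subset (X := V) (x := i z) (U := O) hzO
  have hone : ∀ z', i z' ∈ U → z' = z := fun z' hz' => by
    by_contra hne
    have hm : (⟨i z', (hUO hz').1⟩ : (V₀ : Scheme.{u})) ∈ maxPoints (V₀ : Scheme.{u}) := fun y hy =>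
      Subtype.ext (hmax z' y.1 (hy.map V₀.ι.continuous))
    exact (hUO hz').2 (Set.mem_iUnion₂.2 ⟨i z', ⟨_, ⟨hm, fun e => hne (i.isEmbedding.injective
      (congrArg Subtype.val e))⟩, rfl⟩, subset_closure rfl⟩)
  obtain ⟨U', hU', hzU', hle'⟩ := exists_isAffineOpen_mem_and_subset (x := z) (U := i ⁻¹ᵁ U) hzU
  have hUz : IsAffineOpen (i ⁻¹ᵁ U) := by
    rwa [show i ⁻¹ᵁ U = U' from le_antisymm (fun z' hz' => by rw [hone z' hz']; exact hzU') hle']
  refine ⟨U, hU, hzU, hUz, (hU.primeIdealOf ⟨i z, hzU⟩).asIdeal.primeCompl, ?_⟩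
  let e₁ := ((EtCoh.bc (Y.fromSpecStalk η)).obj T).left.presheaf.germ (i ⁻¹ᵁ U) z hzU
  haveI hss : Subsingleton (Spec Γ(((EtCoh.bc (Y.fromSpecStalk η)).obj T).left, i ⁻¹ᵁ U)) := ⟨fun p q => by
    apply hUz.fromSpec.isOpenEmbedding.injective
    have hp : ∀ p, hUz.fromSpec p = z := fun p => hone _ (hUz.range_fromSpec.subset ⟨p, rfl⟩)
    rw [hp, hp]⟩
  have hbij : Function.Bijective e₁.hom := by
    let _ := TopCat.Presheaf.algebra_section_stalk ((EtCoh.bc (Y.fromSpecStalk η)).obj T).left.presheaf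
      (⟨z, hzU⟩ : (i ⁻¹ᵁ U : _))
    haveI := hUz.isLocalization_stalk ⟨z, hzU⟩
    refine (IsLocalization.atUnits _ (hUz.primeIdealOf ⟨z, hzU⟩).asIdeal.primeCompl (fun x hx => ?_)).bijective
    by_contra hnu
    obtain ⟨m, hm, hxm⟩ := exists_max_ideal_of_mem_nonunits hnu
    exact hx ((congrArg PrimeSpectrum.asIdeal (hss.allEq
      (⟨m, hm.isPrime⟩ : Spec Γ(((EtCoh.bc (Y.fromSpecStalk η)).obj T).left, i ⁻¹ᵁ U))
      (hUz.primeIdealOf ⟨z, hzU⟩))) ▸ hxm)
  haveI := Props12.isIso_stalkMap_fst T.hom η z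
  let e₂ := i.stalkMap z
  haveI : IsIso e₁ := (ConcreteCategory.isIso_iff_bijective e₁).2 hbij
  haveI : IsIso e₂ := Props12.isIso_stalkMap_fst T.hom η z
  letI : Algebra Γ(V, U) (V.presheaf.stalk (i z)) := (V.presheaf.germ U (i z) hzU).hom.toAlgebra
  haveI : IsLocalization.AtPrime (V.presheaf.stalk (i z)) (hU.primeIdealOf ⟨i z, hzU⟩).asIdeal :=
    hU.isLocalization_stalk ⟨i z, hzU⟩
  letI := (i.app U).hom.toAlgebra
  let e : V.presheaf.stalk (i z) ≃+* Γ(((EtCoh.bc (Y.fromSpecStalk η)).obj T).left, i ⁻¹ᵁ U) :=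
    (asIso e₂ ≪≫ (asIso e₁).symm).commRingCatIsoToRingEquiv
  refine IsLocalization.isLocalization_of_algEquiv _ (AlgEquiv.ofRingEquiv (f := e) fun a => ?_)
  apply hbij.1
  show e₁ ((inv e₁).hom (e₂.hom (V.presheaf.germ U (i z) hzU a))) = e₁ ((i.app U).hom a)
  refine (ConcreteCategory.congr_hom (IsIso.inv_hom_id e₁) _).trans ?_
  exact Scheme.Hom.germ_stalkMap_apply i U z hzU a

end Groth.Agent.GalEt.MaxLift
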