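import Groth.Agent.Et18.TorsionColim
import Groth.Agent.Et18.ClosedPointSupport

/-!
# Vanishing of higher direct images from vanishing on affine étale neighbourhoods
-/

set_option autoImplicit false
set_option linter.all false
set_option backward.isDefEq.respectTransparency.types false
set_option backward.isDefEq.respectTransparency false
set_option backward.defeqAttrib.useBackward true

universe u

open CategoryTheory CategoryTheory.Limits CategoryTheory.Abelian AlgebraicGeometry Opposite
open Groth.Agent.Et18

namespace Groth.Agent.GalEt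

variable {X : Scheme.{u}}

/-- A cocycle on an étale scheme without cohomology is a coboundary. -/
theorem exists_eq_d (W : X.Etale) {F : EtCoh.Ab X} (q : ℕ)
    (hW : Subsingleton (EtCoh.H W.left ((LocCoh.res W).obj F) (q + 1)))
    (s : ((injectiveResolution F).cocomplex.X (q + 1)).obj.obj (op W))
    (hs : ((injectiveResolution F).cocomplex.d (q + 1) (q + 2)).hom.app (op W) s = 0) :
    ∃ t : ((injectiveResolution F).cocomplex.X q).obj.obj (op W),
      ((injectiveResolution F).cocomplex.d q (q + 1)).hom.app (op W) t = s := by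
  let I := injectiveResolution F
  let R : InjectiveResolution ((LocCoh.res W).obj F) :=
    { cocomplex := ((LocCoh.res W).mapHomologicalComplex _).obj I.cocomplex
      injective := fun n => LocCoh.injective_res W _
      ι := (HomologicalComplex.singleMapHomologicalComplex _ _ _).inv.app F ≫
        ((LocCoh.res W).mapHomologicalComplex _).map I.ι }
  let i := TorsionColim.topIso W
  let s' : (R.cocomplex.X (q + 1)).obj.obj (op (EtCoh.top W.left)) :=
    (I.cocomplex.X (q + 1)).obj.map i.hom.op s
  obtain ⟨f, hf⟩ := EtLimit.exists_secOf s'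
  have hfd : f ≫ R.cocomplex.d (q + 1) (q + 2) = 0 := EtLimit.secOf_injective (by
    rw [TorsionColim.secOf_comp, hf, EtLimit.secOf_zero]
    refine (NatTrans.naturality_apply (I.cocomplex.d (q + 1) (q + 2)).hom i.hom.op s).trans ?_
    exact (congrArg _ hs).trans (map_zero _))
  have h1 : R.extMk f (q + 2) rfl hfd = 0 := @Subsingleton.elim _ hW _ _
  obtain ⟨g, hg⟩ := (R.extMk_eq_zero_iff _ _ _ _ q rfl).1 h1
  have h2 : (R.cocomplex.d q (q + 1)).hom.app (op (EtCoh.top W.left)) (EtLimit.secOf g) = s' :=
    (TorsionColim.secOf_comp g _).symm.trans ((congrArg EtLimit.secOf hg).trans hf)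
  refine ⟨(I.cocomplex.X q).obj.map i.inv.op (EtLimit.secOf g), ?_⟩
  refine (NatTrans.naturality_apply (I.cocomplex.d q (q + 1)).hom i.inv.op _).trans ?_
  refine (congrArg _ h2).trans ?_
  exact (ConcreteCategory.congr_hom ((I.cocomplex.X (q + 1)).obj.map_comp i.hom.op i.inv.op) s).symm.trans
    (by rw [← op_comp, i.inv_hom_id, op_id, CategoryTheory.Functor.map_id]; rfl)

variable {Y : Scheme.{u}} (f : X ⟶ Y) [EtCoh.BCCont f] (F : EtCoh.Ab X)

/-- `R^{q+1} f_* F = 0` if `F` has no cohomology above affine étale neighbourhoods of `Y`. -/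
theorem isZero_Rpush_succ (q : ℕ)
    (h : ∀ V : Y.Etale, IsAffine V.left →
      Subsingleton (EtCoh.H ((EtCoh.bc f).obj V).left ((LocCoh.res ((EtCoh.bc f).obj V)).obj F) (q + 1))) :
    IsZero ((EtCoh.Rpush f (q + 1)).obj F) := by
  let I := injectiveResolution F
  let K := ((EtCoh.push f).mapHomologicalComplex _).obj I.cocomplex
  refine IsZero.of_iso ?_ (I.isoRightDerivedObj (EtCoh.push f) (q + 1))
  show IsZero (K.homology (q + 1))
  have hL : EtAcyc.IsLTorsion (∅ : Set ℕ) (K.homology (q + 1)) := by
    intro U z x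
    obtain ⟨V, g, hV, hv, c, hc⟩ := TorsionColim.exists_local_lift (K.homologyπ (q + 1)) U z x
    let s : EtCoh.sect (K.X (q + 1)) V := (K.iCycles (q + 1)).hom.app (op V) c
    have hinj : Function.Injective ((K.iCycles (q + 1)).hom.app (op V)) :=
      (AddCommGrpCat.mono_iff_injective _).1
        (inferInstanceAs (Mono (((sheafToPresheaf _ _).map (K.iCycles (q + 1))).app (op V))))
    have hds : (K.d (q + 1) (q + 2)).hom.app (op V) s = 0 :=
      ConcreteCategory.congr_hom (congrArg (fun k => k.hom.app (op V)) (K.iCycles_d (q + 1) (q + 2))) c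
    obtain ⟨t, ht⟩ := exists_eq_d ((EtCoh.bc f).obj V) q (h V hV) s hds
    refine ⟨V, g, 1, hv, TorsionColim.primesIn_one _, ?_⟩
    rw [one_nsmul, ← hc]
    have hc' : (K.toCycles q (q + 1)).hom.app (op V) t = c := hinj
      ((ConcreteCategory.congr_hom (congrArg (fun k => k.hom.app (op V)) (K.toCycles_i q (q + 1))) t).trans ht)
    rw [← hc']
    exact ConcreteCategory.congr_hom
      (congrArg (fun k => k.hom.app (op V)) (K.toCycles_comp_homologyπ q (q + 1))) t
  refine isZero_of_stalks fun y => ?_
  let ξ := sepPoint Y y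
  have : Subsingleton ((EtCoh.stalk ξ).obj (K.homology (q + 1))) := by
    refine subsingleton_of_forall_eq 0 fun t => ?_
    obtain ⟨m, hm, h0⟩ := (isLTorsion_iff_stalks _ _).1 hL _ ξ t
    have h1 : m = 1 := by
      by_contra hne
      obtain ⟨p, hp, hpm⟩ := Nat.exists_prime_and_dvd hne
      exact hm.2 p hp hpm
    simpa [h1] using h0
  exact AddCommGrpCat.isZero_of_subsingleton _

end Groth.Agent.GalEt
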