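import Groth.Agent.GalEt.SkyPoint
import Groth.Agent.Et18.ClosedPointSupport
import Groth.Agent.Et18.Restr

/-!
# Torsion of cohomology: points, supports at closed points, direct images from fields
-/

set_option autoImplicit false
set_option linter.all false
set_option backward.isDefEq.respectTransparency.types false
set_option backward.isDefEq.respectTransparency false
set_option backward.defeqAttrib.useBackward true
set_option synthInstance.maxHeartbeats 400000
set_option maxHeartbeats 1000000

universe u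

open CategoryTheory CategoryTheory.Limits CategoryTheory.Abelian AlgebraicGeometry Opposite
open Groth.Agent.Et18 Groth.Agent.Et18.CdField

noncomputable section

namespace Groth.Agent.GalEt

theorem isAddTorsion_of_addEquiv {A B : Type*} [AddCommGroup A] [AddCommGroup B] (e : A ≃+ B)
    (h : IsAddTorsion A) : IsAddTorsion B := fun b => by
  obtain ⟨m, hm, h0⟩ := isOfFinAddOrder_iff_nsmul_eq_zero.1 (h (e.symm b))
  exact isOfFinAddOrder_iff_nsmul_eq_zero.2 ⟨m, hm, by rw [← e.apply_symm_apply b, ← map_nsmul, h0, map_zero]⟩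

theorem isAddTorsion_of_injective {A B : Type*} [AddCommGroup A] [AddCommGroup B] (f : A →+ B)
    (hf : Function.Injective f) (h : IsAddTorsion B) : IsAddTorsion A := fun a => by
  obtain ⟨m, hm, h0⟩ := isOfFinAddOrder_iff_nsmul_eq_zero.1 (h (f a))
  exact isOfFinAddOrder_iff_nsmul_eq_zero.2 ⟨m, hm, hf (by rw [map_nsmul, h0, map_zero])⟩

theorem isAddTorsion_of_subsingleton {A : Type*} [AddCommGroup A] [Subsingleton A] : IsAddTorsion A :=
  fun a => isOfFinAddOrder_iff_nsmul_eq_zero.2 ⟨1, one_pos, Subsingleton.elim _ _⟩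

variable {X : Scheme.{u}}

theorem isAddTorsion_of_shortExact {S : ShortComplex (EtCoh.Ab X)} (hS : S.ShortExact) {n : ℕ}
    (h₁ : IsAddTorsion (EtCoh.H X S.X₁ n)) (h₃ : IsAddTorsion (EtCoh.H X S.X₃ n)) :
    IsAddTorsion (EtCoh.H X S.X₂ n) := fun z => by
  obtain ⟨m, hm, h0⟩ := isOfFinAddOrder_iff_nsmul_eq_zero.1
    (h₃ (Ext.comp z (Ext.mk₀ S.g) (add_zero n)))
  have h0' : Ext.comp (m • z) (Ext.mk₀ S.g) (add_zero n) = 0 :=
    (map_nsmul ((Ext.mk₀ S.g).postcomp (EtCoh.const X ℤ) (add_zero n)) m z).trans h0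
  obtain ⟨y, hy⟩ := Ext.covariant_sequence_exact₂ _ hS (m • z) h0'
  obtain ⟨k, hk, h1⟩ := isOfFinAddOrder_iff_nsmul_eq_zero.1 (h₁ y)
  refine isOfFinAddOrder_iff_nsmul_eq_zero.2 ⟨k * m, Nat.mul_pos hk hm, ?_⟩
  rw [mul_nsmul', ← hy]
  exact (map_nsmul ((Ext.mk₀ S.f).postcomp (EtCoh.const X ℤ) (add_zero n)) k y).symm.trans
    (by rw [h1, map_zero])

/-- Torsion of `H^n` of the left term from the right term one degree lower and the middle. -/
theorem isAddTorsion_left {S : ShortComplex (EtCoh.Ab X)} (hS : S.ShortExact) {n : ℕ}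
    (h₃ : IsAddTorsion (EtCoh.H X S.X₃ n)) (h₂ : IsAddTorsion (EtCoh.H X S.X₂ (n + 1))) :
    IsAddTorsion (EtCoh.H X S.X₁ (n + 1)) := fun z => by
  obtain ⟨m, hm, h0⟩ := isOfFinAddOrder_iff_nsmul_eq_zero.1
    (h₂ (Ext.comp z (Ext.mk₀ S.f) (add_zero (n + 1))))
  have h0' : Ext.comp (m • z) (Ext.mk₀ S.f) (add_zero (n + 1)) = 0 :=
    (map_nsmul ((Ext.mk₀ S.f).postcomp (EtCoh.const X ℤ) (add_zero (n + 1))) m z).trans h0
  obtain ⟨y, hy⟩ := Ext.covariant_sequence_exact₁ _ hS (m • z) h0' (n₀ := n) rfl
  obtain ⟨k, hk, h1⟩ := isOfFinAddOrder_iff_nsmul_eq_zero.1 (h₃ y)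
  refine isOfFinAddOrder_iff_nsmul_eq_zero.2 ⟨k * m, Nat.mul_pos hk hm, ?_⟩
  rw [mul_nsmul', ← hy]
  exact (map_nsmul (hS.extClass.postcomp (EtCoh.const X ℤ) (rfl : n + 1 = n + 1)) k y).symm.trans
    (by rw [h1, map_zero])

theorem isAddTorsion_H_push_closed {X' : Scheme.{u}} (f : X' ⟶ X) [IsIntegralHom f] (G : EtCoh.Ab X') (q : ℕ)
    (h : IsAddTorsion (EtCoh.H X' G q)) : IsAddTorsion (EtCoh.H X ((EtCoh.push f).obj G) q) := by
  have := push_preservesHomology_of_integral f
  haveI : PreservesFiniteColimits (EtCoh.push f) :=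
    (EtCoh.push f).preservesFiniteColimits_of_preservesHomology
  haveI : (EtCoh.pull f).PreservesMonomorphisms := inferInstance
  obtain ⟨e⟩ := SiteCoh.extAdjEquiv_of_exact (EtCoh.pullPushAdj f) G (EtCoh.const X ℤ) q
  let c := EtCore.pullConst f ℤ
  refine isAddTorsion_of_injective e.toAddMonoidHom e.injective fun a => ?_
  obtain ⟨m, hm, h0⟩ := isOfFinAddOrder_iff_nsmul_eq_zero.1 (h ((Ext.mk₀ c.inv).comp a (zero_add q)))
  refine isOfFinAddOrder_iff_nsmul_eq_zero.2 ⟨m, hm, ?_⟩
  have h1 : (Ext.mk₀ c.inv).comp (m • a) (zero_add q) = 0 :=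
    (map_nsmul ((Ext.mk₀ c.inv).precomp G (zero_add q)) m a).trans h0
  have h2 := congrArg (fun w => (Ext.mk₀ c.hom).comp w (zero_add q)) h1
  simpa only [Ext.mk₀_comp_mk₀_assoc, Iso.hom_inv_id, Ext.mk₀_id_comp, Ext.comp_zero] using h2

/-- Cohomology of a finite discrete scheme is computed pointwise. -/
theorem isAddTorsion_H_of_points {W : Scheme.{u}} (S : Finset W) (hS : ∀ x ∈ S, IsClosed ({x} : Set W))
    (F : EtCoh.Ab W) (hF : EtPBC.supp F ⊆ S) (q : ℕ)
    (h : ∀ x ∈ S, IsAddTorsion (EtCoh.H (Spec (W.residueField x))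
      ((EtCoh.pull (W.fromSpecResidueField x)).obj F) q)) :
    IsAddTorsion (EtCoh.H W F q) := by
  classical
  induction S using Finset.induction_on generalizing F with
  | empty =>
    exact @isAddTorsion_of_subsingleton _ _ (Sheaf.subsingleton_H_of_isZero
      (ClosedPointSupport.isZero_of_supp_empty (Set.eq_empty_of_subset_empty (by simpa using hF))) q)
  | insert x S hxS ih =>
    have hx := hS x (Finset.mem_insert_self x S)
    let i := W.fromSpecResidueField x
    haveI : IsClosedImmersion i :=
      IsClosedImmersion.of_isPreimmersion _ (by rw [Scheme.range_fromSpecResidueField]; exact hx)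
    let O : W.Opens := ⟨{x}ᶜ, hx.isOpen_compl⟩
    have hO : Set.range O.ι = (Set.range i)ᶜ := by
      rw [Scheme.Opens.range_ι, Scheme.range_fromSpecResidueField]; rfl
    let η := (EtCoh.pullPushAdj i).unit.app F
    haveI : Epi η := by
      haveI : Epi ((EtCoh.pull O.ι).map η) :=
        (isZero_pull_push_compl hO _).epi _
      exact epi_of_pulls (jointlySurjective_of_compl hO) η
    let T := ShortComplex.mk (kernel.ι η) η (kernel.condition η)
    have hT : T.ShortExact :=
      { exact := ShortComplex.exact_kernel η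
        mono_f := inferInstanceAs (Mono (kernel.ι η))
        epi_g := inferInstanceAs (Epi η) }
    refine isAddTorsion_of_shortExact hT (ih (fun y hy => hS y (Finset.mem_insert_of_mem hy)) _ ?_ ?_)
      (isAddTorsion_H_push_closed i _ q (h x (Finset.mem_insert_self x S)))
    · intro y hy
      have hyx : y ∉ Set.range i := ClosedPointSupport.supp_subset_of_isZero_pull i
        (IsZero.of_iso (isZero_kernel_of_mono _) (PreservesKernel.iso _ η)) hy
      have h' := hF (ClosedPointSupport.supp_mono (kernel.ι η) hy)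
      rw [Finset.coe_insert, Set.mem_insert_iff] at h'
      exact h'.resolve_left fun h => hyx (by rw [Scheme.range_fromSpecResidueField]; exact h)
    · intro y hy
      let iy := W.fromSpecResidueField y
      have hyr : Disjoint (Set.range i) (Set.range iy) := by
        rw [Scheme.range_fromSpecResidueField, Scheme.range_fromSpecResidueField,
          Set.disjoint_singleton]
        exact fun e => hxS (e ▸ hy)
      have hZ : IsZero ((EtCoh.pull iy).obj ((EtCoh.push i).obj ((EtCoh.pull i).obj F))) := by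
        refine ClosedPointSupport.isZero_pull_of_disjoint iy (Set.disjoint_of_subset_left ?_ hyr)
        intro z hz
        by_contra hzi
        refine (mem_supp_iff _ (sepPoint W z) (sepPoint_default W z)).1 hz ?_
        exact isZero_stalk_push_of_disjoint i _ _
          ⟨(Set.range i)ᶜ, i.isClosedEmbedding.isClosed_range.isOpen_compl⟩
          (by rw [sepPoint_default]; exact hzi) disjoint_compl_left
      have hU : IsAddTorsion (EtCoh.H (Spec (W.residueField y)) ((EtCoh.pull iy).obj (kernel η)) q) := by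
        let e : (EtCoh.pull iy).obj (kernel η) ≅ (EtCoh.pull iy).obj F :=
          PreservesKernel.iso _ η ≪≫ kernel.mapIso _ (0 : (EtCoh.pull iy).obj F ⟶ _) (Iso.refl _) (Iso.refl _)
            (hZ.eq_of_tgt _ _) ≪≫ kernelZeroIsoSource
        exact isAddTorsion_of_addEquiv
          ((EtCoh.HF (Spec (W.residueField y)) q).mapIso e.symm).addCommGroupIsoToAddEquiv
          (h y (Finset.mem_insert_of_mem hy))
      exact hU

theorem isAddTorsion_H_field (K : Type u) [Field K] (F : EtCoh.Ab (Spec (CommRingCat.of K))) (q : ℕ)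
    (hq : 0 < q) : IsAddTorsion (EtCoh.H (Spec (CommRingCat.of K)) F q) := fun x => by
  obtain ⟨d, hd, h⟩ := exists_pos_nsmul_eq_zero K F q hq x
  exact isOfFinAddOrder_iff_nsmul_eq_zero.2 ⟨d, hd, h⟩

/-- Cohomology of a quasi-compact scheme étale over a field is torsion in positive degrees. -/
theorem isAddTorsion_H_etale {K : Type u} [Field K] {W : Scheme.{u}} (w : W ⟶ Spec (CommRingCat.of K))
    [Etale w] [QuasiCompact w] (F : EtCoh.Ab W) (q : ℕ) (hq : 0 < q) : IsAddTorsion (EtCoh.H W F q) := by
  classical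
  haveI := AlgSpLib.locallyQuasiFinite_of_etale w
  haveI : IsFinite w := IsFinite.of_locallyQuasiFinite w
  haveI : CompactSpace W := QuasiCompact.compactSpace_of_compactSpace w
  haveI : DiscreteTopology W := by
    refine discreteTopology_iff_isOpen_singleton.2 fun z => ?_
    have h := w.isDiscrete_preimage_singleton (w z)
    have e : w ⁻¹' {w z} = Set.univ := Set.eq_univ_of_forall fun v => Subsingleton.elim _ _
    rw [e] at h
    have := isDiscrete_univ_iff.1 h
    exact isOpen_discrete _
  haveI : Finite W := finite_of_compact_of_discrete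
  letI : Fintype W := Fintype.ofFinite W
  exact isAddTorsion_H_of_points Finset.univ (fun x _ => isClosed_discrete _) _ (by simp) q
    fun x _ => isAddTorsion_H_field (W.residueField x) _ q hq

section Push

variable [CompactSpace X] [QuasiSeparatedSpace X] {K : Type u} [Field K]
  (i : Spec (CommRingCat.of K) ⟶ X)

omit [CompactSpace X] in
theorem quasiCompact_bc_str' (V : X.Etale) (hV : IsAffine V.left) :
    QuasiCompact (Et18.LocCoh.str ((EtCoh.bc i).obj V)) := by
  haveI : IsAffine ((𝟭 Scheme.{u}).obj V.left) := hV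
  haveI : CompactSpace ((𝟭 Scheme.{u}).obj V.left) := inferInstance
  haveI : QuasiCompact V.hom := by
    haveI : QuasiCompact (V.hom ≫ terminal.from X) := inferInstance
    haveI : QuasiSeparated (terminal.from X) := inferInstance
    exact QuasiCompact.of_comp V.hom (terminal.from X)
  exact MorphismProperty.pullback_snd (P := @QuasiCompact) V.hom i inferInstance

theorem secOf_nsmul' {Y : Scheme.{u}} {A : EtCoh.Ab Y} (g : EtCoh.const Y ℤ ⟶ A) (m : ℕ) :
    EtLimit.secOf (m • g) = m • EtLimit.secOf g := TorsionColim.secOf_nsmul g m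

omit [CompactSpace X] in
/-- Sections of an epimorphism lift up to torsion above affine étale neighbourhoods. -/
theorem exists_nsmul_lift {S : ShortComplex (EtCoh.Ab (Spec (CommRingCat.of K)))} (hS : S.ShortExact)
    (V : X.Etale) (hV : IsAffine V.left) (s : EtCoh.sect S.X₃ ((EtCoh.bc i).obj V)) :
    ∃ (m : ℕ) (t : EtCoh.sect S.X₂ ((EtCoh.bc i).obj V)), 0 < m ∧
      S.g.hom.app (op ((EtCoh.bc i).obj V)) t = m • s := by
  let W := (EtCoh.bc i).obj V
  haveI := quasiCompact_bc_str' i V hV
  haveI : EtShriek.JCont (Et18.LocCoh.str W) := jCont _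
  haveI : PreservesFiniteColimits (LocCoh.res W) :=
    preservesFiniteColimits_of_natIso (pullRestrIso (Et18.LocCoh.str W))
  haveI : PreservesFiniteLimits (LocCoh.res W) :=
    preservesFiniteLimits_of_natIso (pullRestrIso (Et18.LocCoh.str W))
  have hW := hS.map_of_exact (LocCoh.res W)
  let e := TorsionColim.topIso W
  obtain ⟨f, hf⟩ := EtLimit.exists_secOf
    (show ((LocCoh.res W).obj S.X₃).obj.obj (op (EtCoh.top W.left)) from S.X₃.obj.map e.hom.op s)
  obtain ⟨m, hm, h0⟩ := isOfFinAddOrder_iff_nsmul_eq_zero.1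
    (isAddTorsion_H_etale (Et18.LocCoh.str W) ((LocCoh.res W).obj S.X₁) 1 one_pos
      ((Ext.mk₀ f).comp hW.extClass (zero_add 1)))
  have h1 : (Ext.mk₀ (m • f)).comp hW.extClass (zero_add 1) = 0 := by
    have hm' : Ext.mk₀ (m • f) = m • Ext.mk₀ f :=
      map_nsmul (Ext.addEquiv₀ (X := EtCoh.const W.left ℤ)
        (Y := (LocCoh.res W).obj S.X₃)).symm.toAddMonoidHom m f
    rw [hm']
    exact (map_nsmul (hW.extClass.postcomp _ (zero_add 1)) m (Ext.mk₀ f)).trans h0
  obtain ⟨a, ha⟩ := Ext.covariant_sequence_exact₃ _ hW (Ext.mk₀ (m • f)) (zero_add 1) h1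
  obtain ⟨a, rfl⟩ := (Ext.mk₀_bijective _ _).2 a
  rw [Ext.mk₀_comp_mk₀] at ha
  have h2 : ((LocCoh.res W).map S.g).hom.app (op (EtCoh.top W.left)) (EtLimit.secOf a) =
      m • EtLimit.secOf f :=
    (TorsionColim.secOf_comp a _).symm.trans
      ((congrArg EtLimit.secOf ((Ext.mk₀_bijective _ _).1 ha)).trans (secOf_nsmul' f m))
  rw [hf] at h2
  refine ⟨m, S.X₂.obj.map e.inv.op (EtLimit.secOf a), hm, ?_⟩
  refine (NatTrans.naturality_apply S.g.hom e.inv.op _).trans ?_
  refine (congrArg _ h2).trans ((map_nsmul _ m _).trans (congrArg (m • ·) ?_))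
  exact (ConcreteCategory.congr_hom (S.X₃.obj.map_comp e.hom.op e.inv.op) s).symm.trans
    (by rw [← op_comp, e.inv_hom_id, op_id, CategoryTheory.Functor.map_id]; rfl)

/-- Cohomology of direct images from a field is torsion in positive degrees. -/
theorem isAddTorsion_H_push_field (n : ℕ) : ∀ F : EtCoh.Ab (Spec (CommRingCat.of K)),
    IsAddTorsion (EtCoh.H X ((EtCoh.push i).obj F) (n + 1)) := by
  induction n with
  | zero =>
    intro F
    haveI : PreservesFiniteLimits (EtCoh.pull i) := inferInstance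
    exact isAddTorsion_of_injective (EtLim.HofPush i F 1)
      (injective_HofPush i F 1 (injective_adjExtHom_one (EtCoh.pullPushAdj i) _ F))
      (isAddTorsion_H_field K F 1 one_pos)
  | succ n ih =>
    intro F
    let S := SiteCoh.injEmbed F
    have hS : S.ShortExact := SiteCoh.injEmbed_shortExact F
    haveI := hS.mono_f
    haveI : Injective S.X₂ := inferInstanceAs (Injective (Injective.under F))
    haveI : (EtCoh.pull i).PreservesMonomorphisms := inferInstance
    haveI : Injective ((EtCoh.push i).obj S.X₂) := Injective.injective_of_adjoint (EtCoh.pullPushAdj i) _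
    haveI : Mono ((EtCoh.push i).map S.f) := inferInstance
    let π := cokernel.π ((EtCoh.push i).map S.f)
    let T := ShortComplex.mk ((EtCoh.push i).map S.f) π (cokernel.condition _)
    have hT : T.ShortExact :=
      { exact := ShortComplex.exact_cokernel _
        mono_f := inferInstanceAs (Mono ((EtCoh.push i).map S.f))
        epi_g := inferInstanceAs (Epi π) }
    haveI : Subsingleton (EtCoh.H X T.X₂ (n + 1 + 1)) :=
      ⟨fun a b => (Ext.eq_zero_of_injective a).trans (Ext.eq_zero_of_injective b).symm⟩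
    refine isAddTorsion_left hT ?_ isAddTorsion_of_subsingleton
    let c : cokernel ((EtCoh.push i).map S.f) ⟶ (EtCoh.push i).obj S.X₃ :=
      cokernel.desc _ ((EtCoh.push i).map S.g)
        (by rw [← (EtCoh.push i).map_comp, S.zero, Functor.map_zero])
    have hex : (S.map (EtCoh.push i)).Exact :=
      hS.exact.map_of_mono_of_preservesKernel (EtCoh.push i) hS.mono_f inferInstance
    haveI : Mono c := hex.mono_cokernelDesc
    let U := ShortComplex.mk c (cokernel.π c) (cokernel.condition _)
    have hU : U.ShortExact :=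
      { exact := ShortComplex.exact_cokernel _
        mono_f := inferInstanceAs (Mono c)
        epi_g := inferInstanceAs (Epi (cokernel.π c)) }
    refine isAddTorsion_left hU (TorsionColim.isAddTorsion_H _ ((TorsionColim.isTorsion_iff _).2 ?_) n) (ih S.X₃)
    intro U' z x
    obtain ⟨V, g, hV, hv, s, hs⟩ := TorsionColim.exists_local_lift (cokernel.π c) U' z x
    obtain ⟨m, t, hm, ht⟩ := exists_nsmul_lift i hS V hV s
    refine ⟨V, g, m, hv, ⟨hm, fun _ _ _ => trivial⟩, ?_⟩
    rw [← hs]
    refine (map_nsmul ((cokernel.π c).hom.app (op V)).hom m s).symm.trans ?_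
    have h3 : (π ≫ c).hom.app (op V) t = m • s := by
      rw [cokernel.π_desc]
      exact ht
    rw [← h3]
    exact ConcreteCategory.congr_hom (congrArg (fun k => k.hom.app (op V))
      (show (π ≫ c) ≫ cokernel.π c = 0 by rw [Category.assoc, cokernel.condition, comp_zero])) t

end Push

open Groth.Agent.Et18.ClosedPointSupport in
theorem nonempty_isColimit_closedPoints [IsLocallyNoetherian X] (F : EtCoh.Ab X) (hF : ∀ x ∈ EtPBC.supp F, IsClosed ({x} : Set X)) :
    Nonempty (IsColimit (cocone F)) := by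
  classical
  refine nonempty_isColimit_of_stalks _ (fun y t => ?_) fun y S b hb => ?_
  · let Φ := Scheme.pointSmallEtale (sepPoint X y)
    obtain ⟨W, v, s, rfl⟩ := Φ.toPresheafFiber_jointly_surjective (P := F.obj) t
    haveI : Etale W.hom := W.prop
    obtain ⟨_, ⟨(V : W.left.Opens), hV, rfl⟩, hv, -⟩ :=
      W.left.isBasis_affineOpens.exists_subset_of_mem_open (Set.mem_univ (fiberPt v)) isOpen_univ
    let W' : X.Etale := MorphismProperty.Over.mk ⊤ (V.ι ≫ W.hom) (inferInstanceAs (Etale (V.ι ≫ W.hom)))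
    let g : W' ⟶ W := MorphismProperty.Over.homMk V.ι rfl
    obtain ⟨v', rfl⟩ := UnitConst.exists_lift_nhd g v ⟨⟨_, hv⟩, rfl⟩
    let s' : EtCoh.sect F W' := F.obj.map g.op s
    haveI : Etale W'.hom := W'.prop
    haveI : IsAffine W'.left := hV
    haveI : IsLocallyNoetherian ((Functor.fromPUnit X).obj W'.right) := ‹IsLocallyNoetherian X›
    haveI : IsLocallyNoetherian W'.left := LocallyOfFiniteType.isLocallyNoetherian W'.hom
    haveI : IsNoetherian W'.left := ⟨⟩
    let Z := EtShriek.sectSupp F W' s'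
    have hZmem : ∀ z ∈ Z, W'.hom z ∈ EtPBC.supp F := fun z hz => by
      rw [supp_eq_union]
      exact Set.mem_iUnion.2 ⟨W', Set.mem_iUnion.2 ⟨s', z, hz, rfl⟩⟩
    have hZpt : ∀ z ∈ Z, IsClosed ({z} : Set W'.left) := fun z hz => by
      let P := W'.hom ⁻¹' {W'.hom z}
      haveI := isDiscrete_iff_discreteTopology.mp (W'.hom.isDiscrete_preimage_singleton (W'.hom z))
      have hP : IsClosed P := (hF _ (hZmem z hz)).preimage W'.hom.continuous
      have := hP.isClosedMap_subtype_val _ (isClosed_discrete ({⟨z, rfl⟩} : Set P))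
      simpa using this
    have hfin : Z.Finite :=
      VarietyLib.finite_of_forall_isClosed (isClosed_sectSupp F W' s') hZpt
    let S : Finset (ULift.{u + 1} {x : X // IsClosed ({x} : Set X)}) :=
      hfin.toFinset.attach.image fun z => ⟨⟨W'.hom z.1, hF _ (hZmem z.1 (hfin.mem_toFinset.1 z.2))⟩⟩
    have hs : (unitAt F (away S)).hom.app (op W') s' = 0 := by
      refine eq_zero_of_sectSupp_eq_empty _ W' _ (Set.eq_empty_iff_forall_notMem.2 fun w hw => ?_)
      by_cases hwZ : w ∈ Z
      · let j := (away S).ι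
        refine hw W' (𝟙 W') ⟨w, rfl⟩ ?_
        rw [op_id, CategoryTheory.Functor.map_id]
        change (unitAt F (away S)).hom.app (op W') s' = 0
        refine eq_zero_of_sectSupp_eq_empty ((EtCoh.pull j).obj F) ((EtCoh.bc j).obj W') _
          (Set.eq_empty_iff_forall_notMem.2 fun p hp => ?_)
        have hpZ : (pullback.fst W'.hom j p) ∉ Z := fun h => by
          have h1 : W'.hom (pullback.fst W'.hom j p) = j (pullback.snd W'.hom j p) :=
            congrArg (fun k : pullback W'.hom j ⟶ X => k p) pullback.condition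
          have h2 : j (pullback.snd W'.hom j p) ∈ (away S : Set X) := (pullback.snd W'.hom j p).2
          refine h2 (Set.mem_iUnion₂.2 ⟨⟨⟨W'.hom (pullback.fst W'.hom j p), hF _ (hZmem _ h)⟩⟩, ?_, h1.symm⟩)
          exact Finset.mem_image.2 ⟨⟨_, hfin.mem_toFinset.2 h⟩, Finset.mem_attach _ _, rfl⟩
        change ¬ ∀ (W : X.Etale) (g : W ⟶ W'), (∃ w, g.left w = pullback.fst W'.hom j p) → F.obj.map g.op s' ≠ 0 at hpZ
        push Not at hpZ
        obtain ⟨V', r, ⟨u', hu'⟩, hr⟩ := hpZ
        obtain ⟨q, -, hq⟩ := Scheme.Pullback.exists_preimage_pullback (f := r.left)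
          (g := pullback.fst W'.hom j) u' p hu'
        let m : pullback r.left (pullback.fst W'.hom j) ⟶ pullback V'.hom j :=
          pullback.lift (pullback.fst _ _) (pullback.snd _ _ ≫ pullback.snd _ _) (by
            have hw' : r.left ≫ W'.hom = V'.hom := Over.w r.hom
            refine (congrArg (pullback.fst _ _ ≫ ·) hw'.symm).trans ?_
            refine (pullback.condition_assoc _).trans ?_
            exact (congrArg (pullback.snd _ _ ≫ ·) pullback.condition).trans (Category.assoc _ _ _).symm)
        refine hp ((EtCoh.bc j).obj V') ((EtCoh.bc j).map r) ⟨m q, ?_⟩ ?_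
        · have hm : m ≫ ((EtCoh.bc j).map r).left = pullback.snd r.left (pullback.fst W'.hom j) := by
            refine pullback.hom_ext ?_ ?_
            · refine (Category.assoc _ _ _).trans ((congrArg (m ≫ ·) (pullback.lift_fst _ _ _)).trans ?_)
              refine (Category.assoc _ _ _).symm.trans ((congrArg (· ≫ r.left) (pullback.lift_fst _ _ _)).trans ?_)
              exact pullback.condition
            · refine (Category.assoc _ _ _).trans ((congrArg (m ≫ ·) (pullback.lift_snd _ _ _)).trans ?_)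
              exact pullback.lift_snd _ _ _
          exact (congrArg (fun k : pullback r.left (pullback.fst W'.hom j) ⟶ _ => k q) hm).trans hq
        · refine (NatTrans.naturality_apply (unitAt F (away S)).hom r.op s').symm.trans ?_
          rw [hr, map_zero]
      · simp only [Z, EtShriek.sectSupp, Set.mem_setOf_eq, not_forall, not_not] at hwZ
        obtain ⟨V', r, hr, hr0⟩ := hwZ
        refine hw V' r hr ((NatTrans.naturality_apply (unitAt F (away S)).hom r.op s').symm.trans ?_)
        rw [hr0, map_zero]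
    have ht : (EtCoh.stalk (sepPoint X y)).map (unitAt F (away S))
        (Φ.toPresheafFiber W' v' F.obj s') = 0 := by
      refine (Φ.toPresheafFiber_naturality_apply (unitAt F (away S)).hom _ _ _).trans ?_
      rw [hs, map_zero]
    obtain ⟨k, hk⟩ := stalk_exact_kernel (unitAt F (away S)) (sepPoint X y) _ ht
    exact ⟨S, k, hk.trans (Φ.toPresheafFiber_w_apply g v' F.obj s)⟩
  · refine ⟨S, 𝟙 S, ?_⟩
    have : Mono ((cocone F).ι.app S) := inferInstanceAs (Mono (kernel.ι _))
    rw [CategoryTheory.Functor.map_id, CategoryTheory.Functor.map_id]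
    exact (AddCommGrpCat.mono_iff_injective ((EtCoh.stalk (sepPoint X y)).map ((cocone F).ι.app S))).1
      inferInstance (hb.trans (map_zero _).symm)

open Groth.Agent.Et18.ClosedPointSupport in
/-- Sheaves supported at closed points of a noetherian scheme have torsion cohomology. -/
theorem isAddTorsion_H_closedPoints [IsNoetherian X] (F : EtCoh.Ab X)
    (hF : ∀ x ∈ EtPBC.supp F, IsClosed ({x} : Set X)) (q : ℕ) (hq : 0 < q) :
    IsAddTorsion (EtCoh.H X F q) := by
  classical
  obtain ⟨hc⟩ := nonempty_isColimit_closedPoints F hF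
  have := EtCechLib.preservesColimitsOfShape_HF (X := X) q
    (Finset (ULift.{u + 1} {x : X // IsClosed ({x} : Set X)}))
  intro z
  obtain ⟨S, b, hb⟩ := Concrete.isColimit_exists_rep _ (isColimitOfPreserves (EtCoh.HF X q) hc)
    (show ((EtCoh.HF X q).obj F : Type (u + 1)) from z)
  have hS : IsAddTorsion (EtCoh.H X ((ClosedPointSupport.diag F).obj S) q) :=
    isAddTorsion_H_of_points (S.image fun p => p.down.1) (fun x hx => by
      obtain ⟨p, -, rfl⟩ := Finset.mem_image.1 hx; exact p.down.2) _
      ((supp_diag_subset F S).trans (fun x hx => by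
        obtain ⟨p, hp, rfl⟩ := Set.mem_iUnion₂.1 hx
        exact Finset.mem_coe.2 (Finset.mem_image.2 ⟨p, hp, rfl⟩))) q
      (fun x _ => isAddTorsion_H_field (X.residueField x) _ q hq)
  obtain ⟨m, hm, h0⟩ := isOfFinAddOrder_iff_nsmul_eq_zero.1
    (hS (show EtCoh.H X ((ClosedPointSupport.diag F).obj S) q from b))
  refine isOfFinAddOrder_iff_nsmul_eq_zero.2 ⟨m, hm, ?_⟩
  show m • (show ((EtCoh.HF X q).obj F : Type (u + 1)) from z) = 0
  rw [← hb]
  exact (map_nsmul _ m b).symm.trans (by rw [h0]; exact map_zero _)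

end Groth.Agent.GalEt
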